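import Cfsg.Agent.Lib.WalterUse.ReeNorm
import Cfsg.Agent.Lib.CoprimeGen
import Cfsg.Agent.Lib.Walter.Three.Borel
import Cfsg.Agent.Lib.JankoThompson.Main
import Cfsg.Agent.Lib.JankoThompson.Local

/-!
A simple group with abelian Sylow 2-subgroups and an involution centraliser `2 × PSL₂(q)`, `q = 3^odd ≥ 27`, has
non-abelian Sylow 3-subgroups.
-/

set_option autoImplicit false
set_option linter.unusedSectionVars false
set_option linter.style.haveILetI false

namespace CfsgLib.WalterUse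

open Cfsg CfsgLib CfsgLib.CharTheory CfsgLib.JankoThompson

universe u v

variable {G : Type u} [Group G] [Fintype G] {L : Type v} [Group L] [Fintype L] {C : Cfg G L}

namespace TData

variable {P U : Subgroup G} (D : TData C P U)
include D

theorem exists_ne_one : ∃ u ∈ U, u ≠ 1 := by
  by_contra h
  push Not at h
  have hU : U = ⊥ := (Subgroup.eq_bot_iff_forall _).mpr h
  have h1 := D.cardU
  rw [hU, Subgroup.card_bot] at h1
  have := D.R.seven_q
  omega

theorem not_cyclic : ¬ IsCyclic U := by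
  intro h
  obtain ⟨g, hg⟩ := IsCyclic.exists_generator (α := U)
  have h1 : orderOf g = C.D.q := by rw [orderOf_eq_card_of_forall_mem_zpowers hg, D.cardU]
  have h2 : orderOf g ∣ 3 := orderOf_dvd_of_pow_eq_one (Subtype.ext (by simpa using D.U_three g g.2))
  have := Nat.le_of_dvd (by norm_num) h2
  have := D.R.seven_q
  omega

theorem cent_u_norm {u g : G} (hu : u ∈ U) (hu1 : u ≠ 1) (hg : Commute g u) :
    g ∈ Subgroup.normalizer (P : Set G) := by
  rcases D.cent_u hu hu1 hg with h | h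
  · exact Subgroup.le_normalizer h
  · have h1 := mul_mem (Subgroup.le_normalizer h) (inv_mem D.t_mem_norm)
    rwa [mul_inv_cancel_right] at h1

set_option maxHeartbeats 800000 in
/-- The centraliser of a non-trivial element of `P` normalises `P`. -/
theorem cent_le_norm {x g : G} (hx : x ∈ P) (hx1 : x ≠ 1) (hg : Commute g x) :
    g ∈ Subgroup.normalizer (P : Set G) := by
  classical
  haveI : Fact (Nat.Prime 3) := ⟨Nat.prime_three⟩
  set N := Subgroup.normalizer (P : Set G) with hN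
  obtain ⟨Xn, Sn⟩ := D.exists_norm_split
  by_cases hinv : ∃ s ∈ N, orderOf s = 2 ∧ Commute s x
  · -- `x` is conjugate into `U` inside `N(P)`
    obtain ⟨s, hs, hs2, hsx⟩ := hinv
    have hss : s * s = 1 := by rw [← pow_two, ← hs2]; exact pow_orderOf_eq_one s
    have hsX : s ∉ Xn := fun h => by
      have := Sn.odd.of_dvd_nat (Subgroup.orderOf_dvd_natCard Xn h)
      rw [hs2] at this
      exact absurd this (by decide)
    set r := s * C.t with hr
    have hrX : r ∈ Xn := (Sn.cover s hs).resolve_left hsX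
    have htr : C.t * r * C.t⁻¹ = r⁻¹ := by
      rw [hr, mul_inv_rev, inv_eq_of_mul_eq_one_right hss, inv_eq_of_mul_eq_one_right C.t_sq]
      rw [show C.t * (s * C.t) * C.t = C.t * s * (C.t * C.t) by group, C.t_sq, mul_one]
    obtain ⟨j, hj⟩ := Sn.odd.of_dvd_nat (Subgroup.orderOf_dvd_natCard Xn hrX)
    set w := r ^ (j + 1) with hw
    have hww : w * w = r := by
      rw [hw, ← pow_add, show j + 1 + (j + 1) = orderOf r + 1 by omega, pow_succ, pow_orderOf_eq_one, one_mul]
    have htw : C.t * w * C.t⁻¹ = w⁻¹ := by rw [hw, ← conj_pow, htr, inv_pow]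
    have hsw : w * C.t * w⁻¹ = s := by
      rw [show w * C.t * w⁻¹ = w * (C.t * w⁻¹ * C.t⁻¹) * C.t by group,
        show C.t * w⁻¹ * C.t⁻¹ = (C.t * w * C.t⁻¹)⁻¹ by group, htw, inv_inv, hww, hr, mul_assoc, C.t_sq, mul_one]
    have hwN : w ∈ N := pow_mem (Sn.le hrX) _
    set x' := w⁻¹ * x * w with hx'
    have hx'P : x' ∈ P := (Subgroup.mem_normalizer_iff''.mp hwN x).mp hx
    have hx't : Commute x' C.t := by
      have h := commute_conj hsx.symm w⁻¹
      rw [inv_inv, show w⁻¹ * s * w = C.t by rw [← hsw]; group] at h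
      exact h
    have hx'1 : x' ≠ 1 := fun e => hx1 (by
      rw [show x = w * x' * w⁻¹ by rw [hx']; group, e, mul_one, mul_inv_cancel])
    have hg' : Commute (w⁻¹ * g * w) x' := by
      have h := commute_conj hg w⁻¹
      rwa [inv_inv] at h
    have h1 := mul_mem (mul_mem hwN (D.cent_u_norm (D.P_t x' hx'P hx't) hx'1 hg')) (inv_mem hwN)
    rwa [show w * (w⁻¹ * g * w) * w⁻¹ = g by group] at h1
  -- otherwise `C(x) = P`
  push Not at hinv
  set H := Subgroup.centralizer ({x} : Set G) with hH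
  have hmem : ∀ {g}, g ∈ H ↔ Commute g x := fun {g} => Subgroup.mem_centralizer_singleton_iff
  have hPH : P ≤ H := fun a ha => hmem.mpr (D.comm ha hx)
  obtain ⟨m, -, hm⟩ := D.R.pow
  have hHf : Nat.card (P.subgroupOf H) = 3 ^ (Nat.card H).factorization 3 := by
    rw [Nat.card_congr (Subgroup.subgroupOfEquivOfLe hPH).toEquiv, D.cardP]
    have h1 := (Nat.factorization_le_iff_dvd Nat.card_pos.ne' Nat.card_pos.ne').mpr H.card_subgroup_dvd_card 3
    have h2 : C.D.q ^ 3 ∣ Nat.card H := D.cardP ▸ Subgroup.card_dvd_of_le hPH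
    rw [(D.R.factorization_three hm).1] at h1
    rw [hm, ← pow_mul] at h2 ⊢
    have h3 := (Nat.prime_three.pow_dvd_iff_le_factorization Nat.card_pos.ne').mp h2
    congr 1
    omega
  let Ps : Sylow 3 H := Sylow.ofCard (P.subgroupOf H) hHf
  -- an element of `N(P) ∩ C(x)` lies in `P`
  have hNP : ∀ a, a ∈ N → Commute a x → a ∈ P := by
    intro a ha hax
    refine D.norm_cent_mem hx hx1 ha (Nat.not_even_iff_odd.mp fun he => ?_) hax
    refine hinv (a ^ (orderOf a / 2)) (pow_mem ha _) ?_ (hax.pow_left _)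
    exact orderOf_pow_orderOf_div (orderOf_pos a).ne' (even_iff_two_dvd.mp he)
  have hnc : Subgroup.normalizer ((Ps : Subgroup H) : Set H) ≤ Subgroup.centralizer ((Ps : Subgroup H) : Set H) := by
    intro a ha b hb
    have haN : (a : G) ∈ N := Subgroup.mem_normalizer_fintype fun c hc =>
      (Subgroup.mem_normalizer_iff.mp ha ⟨c, hPH hc⟩).mp (Subgroup.mem_subgroupOf.mpr hc)
    exact Subtype.ext (D.comm (show (b : G) ∈ P from hb) (hNP a haN (hmem.mp a.2))).eq
  obtain ⟨K, hKn, hcompl, hK3⟩ : ∃ K : Subgroup H, K.Normal ∧ K.IsComplement' (Ps : Subgroup H) ∧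
      ¬ 3 ∣ Nat.card K :=
    ⟨_, MonoidHom.normal_ker _, MonoidHom.ker_transferSylow_isComplement' Ps hnc,
      MonoidHom.not_dvd_card_ker_transferSylow Ps hnc⟩
  set O := K.map H.subtype with hO
  have hO3 : ¬ 3 ∣ Nat.card O := by
    rwa [hO, Subgroup.card_map_of_injective H.subtype_injective]
  have hUO : U ≤ Subgroup.normalizer (O : Set G) := fun a ha => Subgroup.mem_normalizer_fintype fun o ho => by
    obtain ⟨b, hb, rfl⟩ := ho
    exact ⟨⟨a, hPH (D.UP ha)⟩ * b * ⟨a, hPH (D.UP ha)⟩⁻¹, hKn.conj_mem b hb _, rfl⟩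
  haveI : IsMulCommutative U := ⟨⟨fun a b => Subtype.ext (D.comm (D.UP a.2) (D.UP b.2)).eq⟩⟩
  have hcopU : (Nat.card U).Coprime (Nat.card O) := by
    rw [D.cardU, hm]
    exact (Nat.prime_three.coprime_iff_not_dvd.mpr hO3).pow_left _
  have hObot : O = ⊥ := by
    rw [eq_bot_iff, ← CfsgLib.coprime_generated_by_centralizers D.not_cyclic hUO hcopU]
    refine iSup₂_le fun a ha o ho => ?_
    obtain ⟨b, hb, hbo⟩ := ho.1
    have hoH : Commute o x := hmem.mp (hbo ▸ b.2)
    have hoP : o ∈ P := hNP o (D.cent_u_norm ha.1 ha.2 (Subgroup.mem_centralizer_singleton_iff.mp ho.2)) hoH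
    obtain ⟨k, hk⟩ := D.Pp ⟨o, hoP⟩
    refine Subgroup.mem_bot.mpr (eq_one_of_pow_coprime (m := 3 ^ k) (congrArg Subtype.val hk)
      (n := Nat.card O) ?_ ((Nat.prime_three.coprime_iff_not_dvd.mpr hO3).pow_left k))
    exact congrArg Subtype.val (pow_card_eq_one' (G := O) (x := ⟨o, ho.1⟩))
  obtain ⟨⟨a, b⟩, hab⟩ := hcompl.2 ⟨g, hmem.mpr hg⟩
  have hker : K = ⊥ := by
    rwa [hO, Subgroup.map_eq_bot_iff_of_injective _ H.subtype_injective] at hObot
  have ha : (a : H) = 1 := (Subgroup.eq_bot_iff_forall _).mp hker a a.2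
  simp only [ha, one_mul] at hab
  have hb : ((b : H) : G) ∈ P := b.2
  rw [hab] at hb
  exact Subgroup.le_normalizer hb

end TData

/-- In the small Ree case some Sylow 3-subgroup is not abelian. -/
theorem exists_nonabelian_three (R : ReeCfg C) (hu : UFacts L) :
    ∃ Q : Sylow 3 G, ¬ ∀ a b : (Q : Subgroup G), a * b = b * a := by
  classical
  by_contra hcon
  push Not at hcon
  haveI : Fact (Nat.Prime 3) := ⟨Nat.prime_three⟩
  obtain ⟨P, U, D⟩ := exists_tData R hu hcon
  obtain ⟨m, -, hm⟩ := R.pow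
  let Ps : Sylow 3 G := Sylow.ofCard P (by rw [D.cardP, (R.factorization_three hm).1, hm, ← pow_mul, mul_comm])
  refine false_of_ti R Ps (hcon Ps) D.cardP D.card_norm_le ?_
  -- trivial intersections
  have key : ∀ Q : Sylow 3 G, ∀ x ∈ P, x ∈ (Q : Subgroup G) → x ≠ 1 → Q = Ps := by
    intro Q x hxP hxQ hx1
    refine (Sylow.ext (le_antisymm ?_ fun a ha => ?_))
    · intro a ha
      have hax : Commute a x := D.ab _ Q.2 a ha x hxQ
      obtain ⟨k, hk⟩ := Q.2 ⟨a, ha⟩
      exact D.syl a (D.cent_le_norm hxP hx1 hax) ⟨k, congrArg Subtype.val hk⟩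
    · have hle : (Q : Subgroup G) ≤ P := fun b hb => by
        have hbx : Commute b x := D.ab _ Q.2 b hb x hxQ
        obtain ⟨k, hk⟩ := Q.2 ⟨b, hb⟩
        exact D.syl b (D.cent_le_norm hxP hx1 hbx) ⟨k, congrArg Subtype.val hk⟩
      rw [← Q.is_maximal' D.Pp hle]
      exact ha
  intro Q Q' x hxQ hxQ' hx1
  obtain ⟨w, hw⟩ := MulAction.exists_smul_eq G Q Ps
  have hxP : w * x * w⁻¹ ∈ P := by
    rw [show P = ((w • Q : Sylow 3 G) : Subgroup G) by rw [hw]; rfl, Sylow.coe_subgroup_smul]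
    exact Subgroup.smul_mem_pointwise_smul x (MulAut.conj w) _ hxQ
  have hxQw : w * x * w⁻¹ ∈ ((w • Q' : Sylow 3 G) : Subgroup G) := by
    rw [Sylow.coe_subgroup_smul]
    exact Subgroup.smul_mem_pointwise_smul x (MulAut.conj w) _ hxQ'
  have h := key (w • Q') (w * x * w⁻¹) hxP hxQw fun e => hx1 (conj_eq_one_iff.mp e)
  exact (smul_left_cancel w (h.trans hw.symm)).symm

open Walter.Three in
/-- The unipotent facts for `PSL₂(3^n)`, `n` odd. -/
theorem uFacts_psl {F : Type} [Field F] [Fintype F] {n : ℕ} (hn : Odd n) (hcard : Fintype.card F = 3 ^ n) :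
    UFacts (Matrix.ProjectiveSpecialLinearGroup (Fin 2) F) := by
  classical
  haveI : Fact (Nat.Prime 3) := ⟨Nat.prime_three⟩
  haveI : Finite (Matrix.ProjectiveSpecialLinearGroup (Fin 2) F) := Quotient.finite _
  obtain ⟨p, hp⟩ := CharP.exists F
  haveI := hp
  obtain ⟨k, hpp, hk⟩ := FiniteField.card F p
  have hp3 : p = 3 := by
    have h : p ∣ 3 ^ n := by rw [← hcard, hk]; exact dvd_pow_self p k.ne_zero
    exact (Nat.prime_dvd_prime_iff_eq hpp Nat.prime_three).mp (hpp.dvd_of_dvd_pow h)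
  subst hp3
  have hq4 : Fintype.card F % 4 = 3 := by
    obtain ⟨j, hj⟩ := hn
    rw [hcard, hj, pow_succ, pow_mul, Nat.mul_mod, Nat.pow_mod]
    norm_num
  -- an element of 3-power order is conjugate into the unitriangular group
  have hconj : ∀ (x : Matrix.ProjectiveSpecialLinearGroup (Fin 2) F) (j : ℕ), x ^ 3 ^ j = 1 →
      ∃ w : Matrix.ProjectiveSpecialLinearGroup (Fin 2) F,
        w⁻¹ * x * w ∈ (PSL2.uHom : Multiplicative F →* Matrix.ProjectiveSpecialLinearGroup (Fin 2) F).range := by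
    intro x j hx
    obtain ⟨i, -, hi⟩ := (Nat.dvd_prime_pow Nat.prime_three).mp (orderOf_dvd_of_pow_eq_one hx)
    obtain ⟨Q, hQ⟩ := (IsPGroup.of_card (n := i) (by rw [Nat.card_zpowers, hi]) :
      IsPGroup 3 (Subgroup.zpowers x)).exists_le_sylow
    obtain ⟨w, hw⟩ := MulAction.exists_smul_eq (Matrix.ProjectiveSpecialLinearGroup (Fin 2) F)
      (PSL2.uSylow (F := F) 3) Q
    have hxQ := hQ (Subgroup.mem_zpowers x)
    rw [← hw, Sylow.coe_subgroup_smul] at hxQ
    obtain ⟨u, hu, hux⟩ := hxQ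
    change w * u * w⁻¹ = x at hux
    exact ⟨w, by rw [← hux, show w⁻¹ * (w * u * w⁻¹) * w = u by group]; exact hu⟩
  refine ⟨fun x j hx => ?_, fun v x hv hx hvx => ?_⟩
  · obtain ⟨w, hw⟩ := hconj x j hx
    have h := uRange_pow_three hw
    rw [show w⁻¹ * x * w = w⁻¹ * x * (w⁻¹)⁻¹ by rw [inv_inv], conj_pow, conj_eq_one_iff] at h
    exact h
  · obtain ⟨w, hw⟩ := hconj x 1 (by rw [pow_one, ← hx]; exact pow_orderOf_eq_one x)
    obtain ⟨s, hs⟩ := hw
    have hs0 : s.toAdd ≠ 0 := fun e => by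
      have h1 : w⁻¹ * x * w = 1 := by rw [← hs, show s = 1 from Multiplicative.toAdd.injective e, map_one]
      rw [show x = w * (w⁻¹ * x * w) * w⁻¹ by group, h1] at hx
      simp at hx
    set v' := w⁻¹ * v * w with hv'
    have hc : Commute v' (w⁻¹ * x * w) := by
      have h := commute_conj hvx w⁻¹
      rwa [inv_inv] at h
    obtain ⟨g, hg⟩ := QuotientGroup.mk'_surjective _ v'
    have hg0 : g.1 1 0 = 0 := upper_of_inverts g hs0 (by
      rw [show PSL2.mk g = v' from hg, show PSL2.uu s.toAdd = w⁻¹ * x * w from hs, hc.eq, mul_inv_cancel_right]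
      exact ⟨s, hs⟩)
    have hv2 : v' * v' = 1 := by
      rw [hv', show w⁻¹ * v * w * (w⁻¹ * v * w) = w⁻¹ * (v * v) * w by group,
        show v * v = 1 by have h2 := pow_orderOf_eq_one v; rwa [hv, pow_two] at h2]
      group
    have hvb : v' ∈ borel F := by rw [← hg]; exact PSL2.upper_mem_normalizer g hg0
    have h3 := uRange_pow_three (involution_borel hq4 hvb hv2)
    rw [pow_succ, pow_two, hv2, one_mul, hv'] at h3
    rw [show v = w * (w⁻¹ * v * w) * w⁻¹ by group, h3] at hv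
    simp at hv

/-- A simple group with abelian Sylow 2-subgroups and an involution centraliser `2 × PSL₂(q)`, `q = 3^(2m+1) ≥ 27`,
has a non-abelian Sylow 3-subgroup. -/
theorem exists_nonabelian_sylow_three {G : Type u} [Group G] [Finite G] [IsSimpleGroup G]
    (hab : ∀ P : Sylow 2 G, ∀ a b : P, a * b = b * a) {F : Type} [Field F] [Fintype F] {m : ℕ} (hm : 1 ≤ m)
    (hcard : Fintype.card F = 3 ^ (2 * m + 1)) (t : G) (ht : orderOf t = 2)
    (e : Subgroup.centralizer ({t} : Set G) ≃* Multiplicative (ZMod 2) × Matrix.ProjectiveSpecialLinearGroup (Fin 2) F) :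
    ∃ Q : Sylow 3 G, ¬ ∀ a b : (Q : Subgroup G), a * b = b * a := by
  classical
  letI : Fintype G := Fintype.ofFinite G
  letI : Fintype (Matrix.ProjectiveSpecialLinearGroup (Fin 2) F) := Fintype.ofFinite _
  have h27 : 27 ≤ Fintype.card F := by
    rw [hcard]
    calc 27 = 3 ^ 3 := rfl
      _ ≤ _ := Nat.pow_le_pow_right (by norm_num) (by omega)
  have h8 : Fintype.card F % 8 = 3 := by
    rw [hcard, pow_succ, pow_mul, Nat.mul_mod, Nat.pow_mod]
    norm_num
  obtain ⟨D, hDq, hd3, -⟩ := exists_lData (Or.inl h8)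
  obtain ⟨C, hC⟩ := exists_cfg hab t ht e (by omega) (Or.inl h8) D hDq
  subst hC
  obtain hG | ⟨h45, -⟩ := main_of_cfg hab (by omega) t ht e fun h11 hmod D' hD' => exists_cfg hab t ht e h11 hmod D' hD'
  · obtain ⟨m', -, hF, hGc⟩ := hG
    refine exists_nonabelian_three ⟨hd3 h8, exists_zFacts hm hcard C.D hDq (hd3 h8), ⟨m, hm, hDq.trans hcard⟩, ?_⟩
      (uFacts_psl ⟨m, rfl⟩ hcard)
    rw [hDq, hF]
    exact hGc
  · omega

end CfsgLib.WalterUse
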