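import Mathlib
import Cfsg.Agent.Lib.DihedralShape

/-!
Groups with dihedral or abelian Sylow 2-subgroups form a hereditary class.
-/

set_option autoImplicit false
set_option linter.unusedSectionVars false
set_option linter.style.haveILetI false

namespace CfsgLib.WalterUse

open DihedralGroup

universe u v

/-- Dihedral or abelian Sylow 2-subgroups. -/
def DihAb (G : Type u) [Group G] : Prop :=
  ∀ S : Sylow 2 G, IsMulCommutative S ∨ ∃ n : ℕ, Nonempty ((S : Subgroup G) ≃* DihedralGroup n)

/-- An image of a dihedral group is abelian or dihedral. -/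
theorem image_shape {n : ℕ} {H : Type u} [Group H] [Finite H] (f : DihedralGroup n →* H) (hf : Function.Surjective f) :
    IsMulCommutative H ∨ ∃ k : ℕ, Nonempty (H ≃* DihedralGroup k) := by
  set c := f (r 1) with hc
  set t := f (sr 0) with ht
  have hr : ∀ i : ZMod n, f (r i) ∈ Subgroup.zpowers c := fun i => by
    obtain ⟨k, rfl⟩ := ZMod.intCast_surjective i
    exact ⟨k, by show c ^ k = _; rw [hc, ← map_zpow, r_one_zpow]⟩
  have htt : t * t = 1 := by rw [ht, ← map_mul, sr_mul_sr, sub_self, show r (0 : ZMod n) = 1 from rfl, map_one]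
  have hinv : t * c * t⁻¹ = c⁻¹ := by
    rw [inv_eq_of_mul_eq_one_right htt, ht, hc, ← map_mul, ← map_mul, ← map_inv, sr_mul_r, sr_mul_sr, inv_r]
    exact congrArg f (congrArg r (by ring))
  have hcases : ∀ h : H, h ∈ Subgroup.zpowers c ∨ h * t ∈ Subgroup.zpowers c := by
    intro h
    obtain ⟨d, rfl⟩ := hf h
    cases d with
    | r i => exact Or.inl (hr i)
    | sr i =>
      right
      rw [ht, ← map_mul, sr_mul_sr]
      exact hr _
  by_cases htC : t ∈ Subgroup.zpowers c
  · left
    have hall : ∀ h : H, h ∈ Subgroup.zpowers c := fun h => (hcases h).elim id fun h' => by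
      simpa using mul_mem h' (inv_mem htC)
    refine ⟨⟨fun a b => ?_⟩⟩
    obtain ⟨i, rfl⟩ := Subgroup.mem_zpowers_iff.mp (hall a)
    obtain ⟨j, rfl⟩ := Subgroup.mem_zpowers_iff.mp (hall b)
    exact (zpow_mul_comm c i j)
  · right
    refine ⟨orderOf c, CfsgLib.DihedralShape.equiv_dihedral rfl ?_ htt htC hinv⟩
    have hidx : (Subgroup.zpowers c).index = 2 :=
      Subgroup.index_eq_two_iff_exists_notMem_and.mpr ⟨t, htC, fun b => (hcases b).symm⟩
    rw [← (Subgroup.zpowers c).card_mul_index, hidx, Nat.card_zpowers, mul_comm]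

/-- A group embedded in an abelian or dihedral one. -/
theorem shape_of_injective {S : Type u} [Group S] [Finite S] {P : Type v} [Group P]
    (hS : IsMulCommutative S ∨ ∃ n : ℕ, Nonempty (S ≃* DihedralGroup n)) (f : P →* S) (hf : Function.Injective f) :
    IsMulCommutative P ∨ ∃ k : ℕ, Nonempty (P ≃* DihedralGroup k) := by
  rcases hS with h | ⟨n, ⟨e⟩⟩
  · exact Or.inl ⟨⟨fun a b => hf (by rw [map_mul, map_mul]; exact h.1.comm _ _)⟩⟩
  haveI : Finite (DihedralGroup n) := Finite.of_equiv S e.toEquiv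
  haveI : NeZero n := ⟨by rintro rfl; exact not_finite (DihedralGroup 0)⟩
  set g : P →* DihedralGroup n := e.toMonoidHom.comp f
  let e' : P ≃* g.range := MonoidHom.ofInjective (e.injective.comp hf)
  rcases CfsgLib.DihedralShape.subgroup_shape g.range with h | ⟨k, -, ⟨e''⟩⟩
  · refine Or.inl ⟨⟨fun a b => e'.injective ?_⟩⟩
    rw [map_mul, map_mul]
    exact (IsCyclic.commGroup (α := g.range)).mul_comm _ _
  · exact Or.inr ⟨k, ⟨e'.trans e''⟩⟩

theorem DihAb.subgroup {G : Type u} [Group G] [Finite G] (H : Subgroup G) (h : DihAb G) : DihAb H := by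
  intro P
  haveI : Fact (Nat.Prime 2) := ⟨Nat.prime_two⟩
  obtain ⟨S, hS⟩ := (P.2.map H.subtype).exists_le_sylow
  exact shape_of_injective (h S)
    ((Subgroup.inclusion hS).comp ((P : Subgroup H).equivMapOfInjective H.subtype H.subtype_injective).toMonoidHom)
    ((Subgroup.inclusion_injective hS).comp (MulEquiv.injective _))

theorem DihAb.quotient {G : Type u} [Group G] [Finite G] (N : Subgroup G) [N.Normal] (h : DihAb G) :
    DihAb (G ⧸ N) := by
  haveI : Fact (Nat.Prime 2) := ⟨Nat.prime_two⟩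
  intro Q
  obtain ⟨S⟩ : Nonempty (Sylow 2 G) := inferInstance
  set S' := S.mapSurjective (QuotientGroup.mk'_surjective N)
  suffices hs : IsMulCommutative S' ∨ ∃ k : ℕ, Nonempty ((S' : Subgroup (G ⧸ N)) ≃* DihedralGroup k) from
    shape_of_injective hs (Sylow.equiv Q S').toMonoidHom (MulEquiv.injective _)
  let f : (S : Subgroup G) →* (S' : Subgroup (G ⧸ N)) := ((QuotientGroup.mk' N).subgroupMap (S : Subgroup G))
  have hf : Function.Surjective f := (QuotientGroup.mk' N).subgroupMap_surjective _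
  rcases h S with hab | ⟨n, ⟨e⟩⟩
  · refine Or.inl ⟨⟨fun a b => ?_⟩⟩
    obtain ⟨a, rfl⟩ := hf a
    obtain ⟨b, rfl⟩ := hf b
    rw [← map_mul, ← map_mul, hab.1.comm]
  · haveI : Finite (DihedralGroup n) := Finite.of_equiv _ e.toEquiv
    exact image_shape (f.comp e.symm.toMonoidHom) (hf.comp e.symm.surjective)

end CfsgLib.WalterUse
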