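import Cfsg.Agent.Lib.WalterUse.ReeReal
import Cfsg.Agent.Lib.WalterUse.DihAb
import Cfsg.Agent.Lib.Walter.Defs
import Cfsg.Agent.Lib.GW.Conseq.CentralFour.Pair
import Cfsg.Agent.Lib.GW.Final
import Cfsg.Agent.Lib.PSL2Platonic
import Cfsg.Agent.Lib.Zassenhaus.Main
import Cfsg.Agent.S3188
import Cfsg.Agent.S0343
import Cfsg.Agent.S1644

/-!
The simple groups with abelian or dihedral Sylow 2-subgroups, from Walter's classification by orders.
-/

set_option autoImplicit false
set_option linter.unusedSectionVars false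
set_option linter.style.haveILetI false

namespace CfsgLib.WalterUse

open Cfsg CfsgLib
open scoped commutatorElement

universe u

local notation "PSL₂[" K "]" => Matrix.ProjectiveSpecialLinearGroup (Fin 2) K

/-- The classification by orders of the simple groups with abelian Sylow 2-subgroups. -/
def OrderClass : Prop :=
  ∀ {G : Type u} [Group G] [Finite G] [IsSimpleGroup G] (_ : ¬ IsMulCommutative G) (S : Sylow 2 G)
    (_ : IsMulCommutative (S : Subgroup G)),
    (∃ a : ℕ, 2 ≤ a ∧ ∃ (F : Type) (_ : Field F) (_ : Fintype F), Fintype.card F = 2 ^ a ∧ Nonempty (G ≃* PSL₂[F])) ∨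
      (∃ (F : Type) (_ : Field F) (_ : Fintype F), (Fintype.card F % 8 = 3 ∨ Fintype.card F % 8 = 5) ∧
        Nonempty (G ≃* PSL₂[F])) ∨ Cfsg.IsRee G ∨ Cfsg.IsJ1 G

/-- The structure of a group of Ree order. -/
def ReeCase (G : Type u) [Group G] [Fintype G] : Prop :=
  ∃ (F : Type) (_ : Field F) (_ : Fintype F) (_ : Fintype PSL₂[F]) (C : JankoThompson.Cfg G PSL₂[F]),
    C.D.q = Fintype.card F ∧ ReeCfg C

/-- The simple groups with abelian Sylow 2-subgroups. -/
inductive AbKind (G : Type u) [Group G] [Fintype G] : Prop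
  | psl (F : Type) [Field F] [Fintype F] (h4 : 4 ≤ Fintype.card F)
      (hq : (∃ a : ℕ, Fintype.card F = 2 ^ a) ∨ Fintype.card F % 8 = 3 ∨ Fintype.card F % 8 = 5)
      (e : G ≃* PSL₂[F]) : AbKind G
  | ree (h : ReeCase G) : AbKind G
  | janko (h : Cfsg.Spor.IsoJ1 G) : AbKind G

theorem four_le_of_psl {G : Type u} [Group G] [Finite G] [IsSimpleGroup G] (hG : ¬ IsMulCommutative G) {F : Type}
    [Field F] [Fintype F] (e : G ≃* PSL₂[F]) : 4 ≤ Fintype.card F := by
  classical
  by_contra hlt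
  have hcard := DicksonFull.card_psl (F := F)
  have h2 : 1 < Fintype.card F := Fintype.one_lt_card
  have hle : Nat.card PSL₂[F] ≤ 24 := by
    obtain h | h : Fintype.card F = 2 ∨ Fintype.card F = 3 := by omega
    · rw [h, show Nat.gcd 2 (2 - 1) = 1 from rfl] at hcard
      omega
    · rw [h, show Nat.gcd 2 (3 - 1) = 2 from rfl] at hcard
      omega
  haveI := CfsgLib.Zassenhaus.isSolvable_of_card_le hle
  haveI : Group.IsSolvable G := Group.isSolvable_of_isSolvable_injective (f := e.toMonoidHom) e.injective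
  exact hG ⟨⟨IsSimpleGroup.comm_iff_isSolvable.mpr inferInstance⟩⟩

/-- Sylow subgroups of order eight of a simple group that are abelian are elementary. -/
theorem e8_of_abelian {G : Type u} [Group G] [Finite G] [IsSimpleGroup G] (hG : ¬ IsMulCommutative G)
    (T : Sylow 2 G) (hT : IsMulCommutative (T : Subgroup G)) (h8 : Nat.card (T : Subgroup G) = 8) :
    Walter.E8 (T : Subgroup G) := by
  classical
  haveI : Fact (Nat.Prime 2) := ⟨Nat.prime_two⟩
  refine ⟨h8, fun x hx => by_contra fun hne => ?_⟩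
  haveI := hT
  let f : (T : Subgroup G) →* (T : Subgroup G) :=
    MonoidHom.mk' (fun y => y ^ 2) fun a b => Commute.mul_pow (hT.1.comm a b) 2
  have hR : f.range ≠ ⊥ := fun h => hne (by
    have hm : f ⟨x, hx⟩ ∈ f.range := ⟨_, rfl⟩
    rw [h, Subgroup.mem_bot] at hm
    simpa [f, pow_two] using congrArg Subtype.val hm)
  obtain ⟨a, ha⟩ := exists_prime_orderOf_dvd_card' (G := (T : Subgroup G)) 2 (by rw [h8]; norm_num)
  have hker : 2 ≤ Nat.card f.ker := by
    haveI : Nontrivial f.ker := ⟨⟨⟨a, by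
      show a ^ 2 = 1
      exact orderOf_dvd_iff_pow_eq_one.mp ha.dvd⟩, 1, fun e => by
      rw [Subtype.ext_iff] at e
      rw [show a = 1 from e, orderOf_one] at ha
      norm_num at ha⟩⟩
    exact Finite.one_lt_card
  have hmul : Nat.card f.ker * Nat.card f.range = 8 := by
    rw [← h8, ← f.ker.card_mul_index, Subgroup.index_ker]
  have hR1 := f.range.one_lt_card_iff_ne_bot.mpr hR
  have h4 : Nat.card f.range = 2 ∨ Nat.card f.ker = 2 := by
    have hd : Nat.card f.range ∣ 8 := Dvd.intro_left _ hmul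
    obtain ⟨i, hi, he⟩ := (Nat.dvd_prime_pow Nat.prime_two (m := 3)).mp hd
    interval_cases i <;> rw [he] at hmul hR1 ⊢ <;> omega
  -- a characteristic involution is fixed by the normaliser
  obtain ⟨K, hK2, hKinv⟩ : ∃ K : Subgroup (T : Subgroup G), Nat.card K = 2 ∧
      ∀ φ : MulAut (T : Subgroup G), ∀ y ∈ K, φ y ∈ K := by
    rcases h4 with h | h
    · refine ⟨f.range, h, ?_⟩
      rintro φ _ ⟨w, rfl⟩
      exact ⟨φ w, by show φ w ^ 2 = φ (w ^ 2); rw [map_pow]⟩
    · refine ⟨f.ker, h, fun φ y hy => ?_⟩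
      show φ y ^ 2 = 1
      rw [← map_pow, show y ^ 2 = 1 from hy, map_one]
  obtain ⟨⟨y, hy⟩, hy1⟩ : ∃ y : K, y ≠ 1 := by
    haveI : Nontrivial K := Finite.one_lt_card_iff_nontrivial.mp (by omega)
    exact exists_ne 1
  obtain ⟨n, hn, hmove⟩ := JankoReeMult.exists_moved hG T hT y.2
    (fun e => hy1 (Subtype.ext (Subtype.ext e)))
  set φ : MulAut (T : Subgroup G) := (T : Subgroup G).normalizerMonoidHom ⟨n, hn⟩
  have hmem := hKinv φ y hy
  have hall : ∀ w ∈ K, w = 1 ∨ w = y := by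
    intro w hw
    obtain ⟨u₁, u₂, -, hu⟩ := Nat.card_eq_two_iff.mp hK2
    have hmem2 : ∀ z : K, z = u₁ ∨ z = u₂ := fun z => by
      have : z ∈ ({u₁, u₂} : Set K) := hu ▸ Set.mem_univ z
      simpa using this
    rcases hmem2 ⟨w, hw⟩ with a | a <;> rcases hmem2 ⟨y, hy⟩ with b | b <;> rcases hmem2 1 with c | c <;>
      first
      | exact Or.inr (congrArg Subtype.val (a.trans b.symm))
      | exact Or.inl (congrArg Subtype.val (a.trans c.symm))
      | exact absurd (b.trans c.symm) hy1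
  rcases hall _ hmem with e | e
  · exact hy1 (Subtype.ext (φ.injective (e.trans (map_one φ).symm)))
  · exact hmove (congrArg Subtype.val e)

theorem abKind (hO : OrderClass.{u}) (hP : ∀ (X : Type u) [Group X] [Finite X], Walter.P X) {G : Type u} [Group G]
    [Fintype G] [IsSimpleGroup G] (hG : ¬ IsMulCommutative G) (S : Sylow 2 G)
    (hS : IsMulCommutative (S : Subgroup G)) : AbKind G := by
  classical
  haveI : Fact (Nat.Prime 2) := ⟨Nat.prime_two⟩
  rcases hO hG S hS with ⟨a, -, F, _, _, hF, ⟨e⟩⟩ | ⟨F, _, _, hF, ⟨e⟩⟩ | h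
  · exact .psl F (four_le_of_psl hG e) (Or.inl ⟨a, hF⟩) e
  · exact .psl F (four_le_of_psl hG e) (Or.inr hF) e
  -- the Sylow 2-subgroup has order eight
  have h8 : Nat.card (S : Subgroup G) = 8 := by
    rw [S.card_eq_multiplicity]
    suffices hv : (Nat.card G).factorization 2 = 3 by rw [hv]; norm_num
    rcases h with ⟨-, m, hm, hc⟩ | ⟨-, hc⟩
    · have hq : (3 ^ (2 * m + 1)) % 8 = 3 := by
        rw [pow_succ, pow_mul, Nat.mul_mod, Nat.pow_mod]; norm_num
      set q := 3 ^ (2 * m + 1)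
      obtain ⟨k, hk⟩ : ∃ k, q = 8 * k + 3 := ⟨q / 8, by omega⟩
      have he : Nat.card G = 2 ^ 3 * ((8 * k + 3) ^ 3 * (128 * k ^ 3 + 144 * k ^ 2 + 54 * k + 7) * (4 * k + 1)) := by
        rw [hc, hk, show 8 * k + 3 - 1 = 8 * k + 2 by omega]; ring
      have hodd : ¬ 2 ∣ (8 * k + 3) ^ 3 * (128 * k ^ 3 + 144 * k ^ 2 + 54 * k + 7) * (4 * k + 1) := by
        rw [Nat.dvd_iff_mod_eq_zero]
        simp [Nat.mul_mod, Nat.add_mod, Nat.pow_mod]
      rw [he, Nat.factorization_mul (by norm_num) (by positivity), Finsupp.add_apply,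
        Nat.factorization_eq_zero_of_not_dvd hodd, add_zero, Nat.prime_two.factorization_pow, Finsupp.single_eq_same]
    · rw [hc, show (175560 : ℕ) = 2 ^ 3 * 21945 by norm_num, Nat.factorization_mul (by norm_num) (by norm_num),
        Finsupp.add_apply, Nat.factorization_eq_zero_of_not_dvd (show ¬ 2 ∣ 21945 by norm_num), add_zero,
        Nat.prime_two.factorization_pow, Finsupp.single_eq_same]
  have he8 := e8_of_abelian hG S hS h8
  by_cases hsol : ∀ t : G, orderOf t = 2 → Group.IsSolvable ↥(Subgroup.centralizer ({t} : Set G))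
  · have heven : Even (Nat.card G) := even_iff_two_dvd.mpr
      ((by rw [h8]; norm_num : 2 ∣ Nat.card (S : Subgroup G)).trans (Subgroup.card_subgroup_dvd_card _))
    rcases Cfsg.Agent.S3188.result S hS hsol with hs | ⟨F, _, _, hF, N, hN, ⟨e⟩, -⟩
    · exact absurd (IsSimpleGroup.comm_iff_isSolvable.mpr hs) fun hc => hG ⟨⟨hc⟩⟩
    have hbot := CfsgLib.CentralFour.oddCore_eq_bot (X := G) heven
    let e0 : G ⧸ Cfsg.oddCore G ≃* G := (QuotientGroup.quotientMulEquivOfEq hbot).trans QuotientGroup.quotientBot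
    haveI : Nontrivial (G ⧸ Cfsg.oddCore G) := e0.toEquiv.nontrivial
    haveI : IsSimpleGroup (G ⧸ Cfsg.oddCore G) := IsSimpleGroup.isSimpleGroup_of_surjective e0.symm.toMonoidHom
      e0.symm.surjective
    have hNt : N = ⊤ := by
      refine (IsSimpleGroup.eq_bot_or_eq_top_of_normal N hN).resolve_left fun hb => ?_
      subst hb
      obtain ⟨a, b, hab⟩ := JankoThompson.psl_two_nonabelian (F := F)
      exact hab (e.symm.injective (Subsingleton.elim _ _))
    subst hNt
    let e' : G ≃* PSL₂[F] := e0.symm.trans (Subgroup.topEquiv.symm.trans e)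
    refine .psl F (four_le_of_psl hG e') ?_ e'
    rcases hF with ⟨h, -⟩ | ⟨n, -, h⟩
    exacts [Or.inr h, Or.inl ⟨n, h⟩]
  push Not at hsol
  obtain ⟨t, ht, hns⟩ := hsol
  obtain ⟨F, _, _, hF, ⟨e⟩⟩ := hP G ‹_› S he8 t ht hns
  have hab : ∀ P : Sylow 2 G, ∀ a b : P, a * b = b * a := fun P a b => by
    apply (Sylow.equiv P S).injective
    rw [map_mul, map_mul]
    exact hS.1.comm _ _
  rcases hF with h5 | ⟨m, hm, hq⟩
  · refine .janko ?_
    have h2 : (2 : F) ≠ 0 := fun h => by
      obtain ⟨c, hc⟩ := CharP.exists F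
      obtain ⟨n, hcp, hn⟩ := FiniteField.card F c
      rw [h5] at hn
      have h2' : c ∣ 2 := (CharP.cast_eq_zero_iff F c 2).mp (by exact_mod_cast h)
      rw [(Nat.prime_dvd_prime_iff_eq hcp Nat.prime_two).mp h2'] at hn
      have : (2 : ℕ) ∣ 5 := hn ▸ dvd_pow_self 2 n.ne_zero
      norm_num at this
    obtain ⟨A, ⟨eA⟩⟩ := PSL2Platonic.exists_A5 (F := F) h2 ⟨0, by
      rw [mul_zero]
      have := FiniteField.cast_card_eq_zero F
      rw [h5] at this
      exact_mod_cast this⟩
    have hA : A = ⊤ := Subgroup.eq_top_of_card_eq A (by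
      have hc := DicksonFull.card_psl (F := F)
      rw [h5, show Nat.gcd 2 (5 - 1) = 2 from rfl] at hc
      rw [Nat.card_congr eA.toEquiv, Nat.card_eq_fintype_card (α := alternatingGroup (Fin 5))]
      have : Fintype.card (alternatingGroup (Fin 5)) = 60 := by
        rw [← Nat.card_eq_fintype_card, nat_card_alternatingGroup, Nat.card_fin]; rfl
      omega)
    subst hA
    exact Cfsg.Agent.S1644.result S hS h8 t ht
      (e.trans (MulEquiv.prodCongr (MulEquiv.refl _) (Subgroup.topEquiv.symm.trans eA)))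
  · refine .ree ⟨F, inferInstance, inferInstance, ?_⟩
    letI : Fintype PSL₂[F] := Fintype.ofFinite _
    have h8q : Fintype.card F % 8 = 3 := by
      rw [hq, pow_succ, pow_mul, Nat.mul_mod, Nat.pow_mod]; norm_num
    have h27 : 27 ≤ Fintype.card F := by
      rw [hq]
      exact le_trans (by norm_num) (Nat.pow_le_pow_right (by norm_num) (show 3 ≤ 2 * m + 1 by omega))
    obtain ⟨D, hDq, hd3, -⟩ := JankoThompson.exists_lData (K := F) (Or.inl h8q)
    obtain ⟨C, hC⟩ := JankoThompson.exists_cfg hab t ht e (by omega) (Or.inl h8q) D hDq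
    refine ⟨inferInstance, C, by rw [hC, hDq], ⟨by rw [hC]; exact hd3 h8q, ?_, ⟨m, hm, by rw [hC, hDq, hq]⟩, ?_⟩⟩
    · exact exists_zFacts hm hq C.D (by rw [hC, hDq]) (by rw [hC]; exact hd3 h8q)
    · rcases Cfsg.Agent.S0343.result hab (by omega) t ht ⟨e⟩ with ⟨m', -, hq', hG'⟩ | ⟨h45, -⟩
      · rw [hG', ← hq', hC, hDq]
      · omega

/-- Dihedral Sylow 2-subgroups. -/
theorem dihedralKind {G : Type u} [Group G] [Finite G] [IsSimpleGroup G] (hG : ¬ IsMulCommutative G)
    (S : Sylow 2 G) {n : ℕ} (hn : 2 ≤ n) (e : (S : Subgroup G) ≃* DihedralGroup n) : CfsgLib.GW.GWModel G := by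
  haveI : Group.IsPerfect G := ⟨(IsSimpleGroup.eq_bot_or_eq_top_of_normal _ inferInstance).resolve_left fun h =>
    hG ⟨⟨fun a b => by
      have : ⁅a, b⁆ ∈ commutator G := Subgroup.commutator_mem_commutator (Subgroup.mem_top a) (Subgroup.mem_top b)
      rw [h, Subgroup.mem_bot] at this
      exact commutatorElement_eq_one_iff_mul_comm.1 this⟩⟩⟩
  have hd : CfsgLib.GW.GWDihedral G := ⟨S, n, hn, ⟨e⟩⟩
  have hbot := CfsgLib.CentralFour.oddCore_eq_bot (X := G) (Nat.not_odd_iff_even.mp hd.not_odd)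
  exact (CfsgLib.GW.gwThm G hd).of_equiv
    ((QuotientGroup.quotientMulEquivOfEq hbot).trans QuotientGroup.quotientBot).symm

end CfsgLib.WalterUse
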