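import Cfsg.Agent.Lib.JankoThompson.LocalPSL

/-!
`PSL₂(q)`, `q` an odd power of three: the torus of order `(q-1)/2` and the elements of order three.
-/

set_option autoImplicit false
set_option linter.unusedSectionVars false
set_option linter.style.haveILetI false

namespace CfsgLib.WalterUse

open Matrix CfsgLib.SL2Char CfsgLib.SL2Tori CfsgLib.JankoThompson

universe v

/-- The facts used below about `L = PSL₂(q)` and its torus `Z`. -/
structure ZFacts (L : Type v) [Group L] (Z : Subgroup L) : Prop where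
  cent : ∀ x ∈ Z, x ≠ 1 → ∀ g : L, Commute g x → g ∈ Z
  inv : ∃ w : L, orderOf w = 2 ∧ ∀ x ∈ Z, w * x * w⁻¹ = x⁻¹
  three : ∀ s u : L, orderOf s = 3 → u * s * u⁻¹ ≠ s⁻¹

variable {F : Type*} [Field F] [Fintype F] [DecidableEq F]

local notation "SL2" => Matrix.SpecialLinearGroup (Fin 2) F
local notation "PSL" => Matrix.ProjectiveSpecialLinearGroup (Fin 2) F
local notation "π" => (PSL2.mk : SL2 →* PSL)

/-- A non-trivial unipotent element is not inverted when `-1` is no square. -/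
theorem unip_not_real (hns : ¬ IsSquare (-1 : F)) (h2 : (2 : F) ≠ 0) {e : Fˣ} (he : e ^ 2 = 1) {x : F}
    (hx : x ≠ 0) (u : PSL) : u * π (bor e x) * u⁻¹ ≠ (π (bor e x))⁻¹ := by
  intro h
  obtain ⟨g, rfl⟩ := mk_surj u
  rw [← map_inv, ← map_inv, ← map_mul, ← map_mul] at h
  obtain ⟨c, hc, hg⟩ := mk_eq_iff'.mp h
  have hinv : (bor e x)⁻¹ = bor e (-x) := inv_eq_of_mul_eq_one_right (by
    rw [bor_mul, ← pow_two, he, ← bor_one]
    refine congrArg (bor 1) ?_
    rcases (CfsgLib.SL2Borel.units_sq_eq_one _).mp he with rfl | rfl <;> simp)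
  rw [hinv] at hg
  have hg' : bor c 0 * (g * bor e x) = bor e (-x) * g := by
    rw [hg]; group
  have hm : ∀ i j, ((bor c (0 : F) : SL2).1 * (g.1 * (bor e x : SL2).1)) i j = ((bor e (-x) : SL2).1 * g.1) i j :=
    fun i j => congrFun (congrFun (congrArg Subtype.val hg' :) i) j
  have h00 := hm 0 0
  have h01 := hm 0 1
  have h10 := hm 1 0
  have h11 := hm 1 1
  simp [bor_coe, Matrix.mul_apply, Fin.sum_univ_two] at h00 h01 h10 h11
  have hdet : g.1 0 0 * g.1 1 1 - g.1 0 1 * g.1 1 0 = 1 := by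
    rw [← Matrix.det_fin_two]; exact g.2
  have hc' : (c : F) = 1 ∨ (c : F) = -1 := by
    rcases (CfsgLib.SL2Borel.units_sq_eq_one _).mp hc with rfl | rfl <;> simp
  have he' : (e : F) = 1 ∨ (e : F) = -1 := by
    rcases (CfsgLib.SL2Borel.units_sq_eq_one _).mp he with rfl | rfl <;> simp
  have hei : ((e⁻¹ : Fˣ) : F) = e := by
    rcases (CfsgLib.SL2Borel.units_sq_eq_one _).mp he with rfl | rfl <;> simp
  have hci : ((c⁻¹ : Fˣ) : F) = c := by
    rcases (CfsgLib.SL2Borel.units_sq_eq_one _).mp hc with rfl | rfl <;> simp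
  simp only [Units.val_inv_eq_inv_val] at h00 h01 h10 h11 hei hci
  rw [hci] at h10 h11
  rw [hei] at h01 h10 h11
  set a := g.1 0 0
  set b := g.1 0 1
  set d := g.1 1 0
  set k := g.1 1 1
  have he0 : (e : F) ≠ 0 := e.ne_zero
  rcases hc' with hc1 | hc1 <;> rw [hc1] at h00 h01 h10 h11
  · -- the same sign
    have hd : d = 0 := by
      rcases mul_eq_zero.mp (show x * d = 0 by linear_combination h00) with h | h
      exacts [absurd h hx, h]
    have hk : k = -a := by
      rcases mul_eq_zero.mp (show x * (k + a) = 0 by linear_combination h01) with h | h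
      exacts [absurd h hx, by linear_combination h]
    exact hns ⟨a, by rw [hd, hk] at hdet; linear_combination hdet⟩
  · -- the opposite sign
    have hd : d = 0 := by
      rcases mul_eq_zero.mp (show (2 : F) * (e * d) = 0 by linear_combination -h10) with h | h
      · exact absurd h h2
      · exact (mul_eq_zero.mp h).resolve_left he0
    have ha : a = 0 := by
      rw [hd] at h00
      rcases mul_eq_zero.mp (show (2 : F) * (e * a) = 0 by linear_combination -h00) with h | h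
      · exact absurd h h2
      · exact (mul_eq_zero.mp h).resolve_left he0
    rw [ha, hd] at hdet
    simp at hdet

/-- The facts for the torus of order `z` in the table with `δ = -1`. -/
theorem Tbl.zFacts (T : Tbl F) (hδ : T.δ = -1) {m : ℕ} (hcard : Fintype.card F = 3 ^ m) (hm : 2 ≤ m) (Z : Subgroup PSL) (hZc : IsCyclic Z)
    (hZ : Nat.card Z = T.z) : ZFacts PSL Z := by
  classical
  have h2 := T.two_ne
  obtain ⟨c1, c2, c3, hzo⟩ := T.coprimes
  have hns : ¬ IsSquare (-1 : F) := fun h => by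
    have := FiniteField.isSquare_neg_one_iff.mp h
    have := T.hq
    rw [hδ] at this
    omega
  have h3q : 3 ∣ Fintype.card F := hcard ▸ dvd_pow_self 3 (by omega : m ≠ 0)
  haveI := hZc
  obtain ⟨⟨γ, hγZ⟩, hgen⟩ := IsCyclic.exists_generator (α := Z)
  have hγo : orderOf γ = T.z := by
    rw [← hZ, ← Subgroup.orderOf_mk γ hγZ, orderOf_eq_card_of_forall_mem_zpowers hgen]
  obtain ⟨h, hh⟩ : ∃ h, h * γ * h⁻¹ ∈ T.tZ := by
    have hg : γ ^ T.z = 1 := hγo ▸ pow_orderOf_eq_one γ
    rcases T.kinds γ with rfl | ⟨e, x, he, -, hx⟩ | ⟨a, ha, -, hx⟩ | ⟨b, hb, -, hx⟩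
    · exact ⟨1, by simp⟩
    · refine ⟨1, ?_⟩
      rw [eq_one_of_pow_coprime hg (isConj_pow_eq_one hx.symm (T.pow_unip he x)) c2.symm]
      simp
    · refine ⟨1, ?_⟩
      rw [eq_one_of_pow_coprime hg (isConj_pow_eq_one hx.symm (T.pow_A ha)) c3.symm]
      simp
    · obtain ⟨k, hk⟩ := isConj_iff.mp hx
      exact ⟨k, hk ▸ Subgroup.mem_map_of_mem _ hb⟩
  have hin : ∀ {x}, x ∈ Z → h * x * h⁻¹ ∈ T.tZ := fun {x} hx => by
    obtain ⟨n, hn⟩ := Subgroup.mem_zpowers_iff.mp (hgen ⟨x, hx⟩)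
    rw [show x = γ ^ n from (congrArg Subtype.val hn).symm, ← conj_zpow]
    exact zpow_mem hh n
  have himg : Z.map (MulAut.conj h).toMonoidHom = T.tZ := by
    refine Subgroup.eq_of_le_of_card_ge ?_ ?_
    · rintro _ ⟨x, hx, rfl⟩; exact hin hx
    · rw [Subgroup.card_map_of_injective (f := (MulAut.conj h).toMonoidHom) (MulAut.conj h).injective, hZ, T.card_tZ]
  have hsq : ∀ x ∈ Z, x ≠ 1 → h * x * h⁻¹ * (h * x * h⁻¹) ≠ 1 := fun x hx h1 e => h1 (by
    rw [show h * x * h⁻¹ * (h * x * h⁻¹) = h * (x * x) * h⁻¹ by group] at e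
    refine eq_one_of_pow_coprime (m := 2) (n := T.z) (by rw [pow_two]; exact conj_eq_one_iff.mp e) ?_
      (Nat.coprime_two_left.mpr hzo)
    rw [← hZ]
    exact congrArg Subtype.val (pow_card_eq_one' (G := Z) (x := ⟨x, hx⟩)))
  refine ⟨fun x hx h1 g hg => ?_, ?_, fun s u hs hu => ?_⟩
  · have := (T.torB.centralizer_eq h2 (hin hx) (hsq x hx h1)).le
      (Subgroup.mem_centralizer_singleton_iff.mpr (commute_conj hg h).eq)
    rw [show T.B.map π = T.tZ from rfl, ← himg] at this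
    obtain ⟨g', hg', e⟩ := this
    rw [show g = g' from ((MulAut.conj h).injective e).symm]
    exact hg'
  · -- the inverting involution
    have hγ2 : h * γ * h⁻¹ * (h * γ * h⁻¹) ≠ 1 := hsq γ hγZ fun e => by
      rw [e, orderOf_one] at hγo
      have := T.hy.pos
      have := T.hz
      rw [hδ] at this
      have hq := T.hq
      rw [hδ] at hq
      have := Nat.pow_le_pow_right (show 1 ≤ 3 by norm_num) hm
      omega
    obtain ⟨w, hw⟩ := T.torB.exists_inv h2 hh
    have hww : w * w = 1 := T.torB.sq_eq_one_of_inverts h2 hh hγ2 hw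
    have hjγ : h⁻¹ * w * h * γ * (h⁻¹ * w * h)⁻¹ = γ⁻¹ := by
      rw [show h⁻¹ * w * h * γ * (h⁻¹ * w * h)⁻¹ = h⁻¹ * (w * (h * γ * h⁻¹) * w⁻¹) * h by group, hw]
      group
    refine ⟨h⁻¹ * w * h, order_two (fun e => ?_) ?_, fun x hx => ?_⟩
    · rw [e, one_mul, inv_one, mul_one] at hjγ
      refine hγ2 ?_
      rw [show h * γ * h⁻¹ * (h * γ * h⁻¹) = h * (γ * γ) * h⁻¹ by group, mul_eq_one_iff_eq_inv.mpr hjγ, mul_one,
        mul_inv_cancel]
    · rw [show h⁻¹ * w * h * (h⁻¹ * w * h) = h⁻¹ * (w * w) * h by group, hww]; group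
    · obtain ⟨n, hn⟩ := Subgroup.mem_zpowers_iff.mp (hgen ⟨x, hx⟩)
      rw [show x = γ ^ n from (congrArg Subtype.val hn).symm, ← conj_zpow, hjγ, _root_.inv_zpow]
  · -- elements of order three are unipotent
    have hs3 : s ^ 3 = 1 := hs ▸ pow_orderOf_eq_one s
    have hs1 : s ≠ 1 := fun e => by simp [e] at hs
    rcases T.kinds s with rfl | ⟨e, x, he, hx, hsx⟩ | ⟨a, ha, -, hsx⟩ | ⟨b, hb, -, hsx⟩
    · exact hs1 rfl
    · obtain ⟨k, hk⟩ := isConj_iff.mp hsx
      refine unip_not_real hns h2 he hx (k * u * k⁻¹) ?_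
      rw [← hk, show k * u * k⁻¹ * (k * s * k⁻¹) * (k * u * k⁻¹)⁻¹ = k * (u * s * u⁻¹) * k⁻¹ by group, hu]
      group
    · exact hs1 (eq_one_of_pow_coprime hs3 (isConj_pow_eq_one hsx.symm (T.pow_A ha))
        (c1.coprime_dvd_left h3q))
    · exact hs1 (eq_one_of_pow_coprime hs3 (isConj_pow_eq_one hsx.symm (T.pow_B hb))
        (c2.coprime_dvd_left h3q))

/-- The facts in the data of the Janko–Thompson configuration. -/
theorem exists_zFacts {K : Type*} [Field K] [Fintype K]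
    [Fintype (Matrix.ProjectiveSpecialLinearGroup (Fin 2) K)] {m : ℕ} (hm : 1 ≤ m) (hcard : Fintype.card K = 3 ^ (2 * m + 1))
    (D : LData (Matrix.ProjectiveSpecialLinearGroup (Fin 2) K)) (hq : D.q = Fintype.card K) (hδ : D.δ = -1) :
    ZFacts (Matrix.ProjectiveSpecialLinearGroup (Fin 2) K) D.Z := by
  classical
  have e1 := D.hq
  rw [hq, hδ] at e1
  have hy := D.hy
  obtain ⟨T, hT, hTy⟩ := tbl_neg (F := K) (y := D.y) hy (by omega)
  refine Tbl.zFacts T hT hcard (by omega) D.Z D.cycZ ?_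
  rw [D.cardZ]
  have h1 := D.hz
  have h2 := T.hz
  rw [hδ] at h1
  rw [hT, hTy] at h2
  omega

end CfsgLib.WalterUse
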