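import Cfsg.Agent.Lib.JankoThompson.CaseTools
import Cfsg.Agent.Lib.WalterUse.PSLThree

/-!
In a group of the order of a small Ree group with an involution centraliser `2 × PSL₂(q)`, the
centraliser of a non-trivial element of the torus `Z` centralises `t`.
-/

set_option autoImplicit false
set_option linter.unusedSectionVars false
set_option linter.style.haveILetI false

namespace CfsgLib.WalterUse

open CfsgLib.JankoThompson

universe u v

/-- The configuration with the data of the small Ree case. -/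
structure ReeCfg {G : Type u} [Group G] [Fintype G] {L : Type v} [Group L] [Fintype L] (C : Cfg G L) : Prop where
  delta : C.D.δ = -1
  zf : ZFacts L C.D.Z
  pow : ∃ m : ℕ, 1 ≤ m ∧ C.D.q = 3 ^ (2 * m + 1)
  card : Nat.card G = C.D.q ^ 3 * (C.D.q ^ 3 + 1) * (C.D.q - 1)

variable {G : Type u} [Group G] [Fintype G] {L : Type v} [Group L] [Fintype L] {C : Cfg G L}

namespace ReeCfg

variable (R : ReeCfg C)
include R

theorem q_y : C.D.q + 1 = 4 * C.D.y := by
  have h := C.D.hq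
  rw [R.delta] at h
  omega

theorem q_z : C.D.q = 2 * C.D.z + 1 := by
  have h := C.D.hz
  have := R.q_y
  rw [R.delta] at h
  omega

theorem seven_q : 27 ≤ C.D.q := by
  obtain ⟨m, hm, hq⟩ := R.pow
  rw [hq]
  calc 27 = 3 ^ 3 := rfl
    _ ≤ 3 ^ (2 * m + 1) := Nat.pow_le_pow_right (by norm_num) (by omega)

theorem z_odd : Odd C.D.z := C.Z_odd

/-- The prime divisors of `|L|`. -/
theorem prime_cases {l : ℕ} (hl : l.Prime) (hl2 : l ≠ 2) (h : l ∣ Nat.card L) :
    l = 3 ∨ (l ∣ C.D.z ∧ l ≠ 3) ∨ (l ∣ C.D.y ∧ l ≠ 3) := by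
  obtain ⟨m, -, hq⟩ := R.pow
  by_cases h3 : l = 3
  · exact Or.inl h3
  right
  have h1 : l ∣ 2 * Nat.card L := dvd_mul_of_dvd_right h 2
  have h2 : 2 * Nat.card L = C.D.q * ((2 * C.D.z) * (4 * C.D.y)) := by
    have e := C.D.card
    have e1 : (C.D.q : ℤ) + 1 = 4 * C.D.y := by exact_mod_cast R.q_y
    have e2 : (C.D.q : ℤ) = 2 * C.D.z + 1 := by exact_mod_cast R.q_z
    zify
    rw [e]
    linear_combination (C.D.q : ℤ) * ((2 * (C.D.z : ℤ)) * e1 + ((C.D.q : ℤ) + 1) * e2)
  rw [h2] at h1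
  have hnq : ¬ l ∣ C.D.q := fun h' => h3 ((Nat.prime_dvd_prime_iff_eq hl Nat.prime_three).mp
    (hl.dvd_of_dvd_pow (hq ▸ h')))
  have h4 : ¬ l ∣ 4 := fun h' => hl2 ((Nat.prime_dvd_prime_iff_eq hl Nat.prime_two).mp
    (hl.dvd_of_dvd_pow (show l ∣ 2 ^ 2 from h')))
  have h2' : ¬ l ∣ 2 := fun h' => hl2 ((Nat.prime_dvd_prime_iff_eq hl Nat.prime_two).mp h')
  rcases (Nat.Prime.dvd_mul hl).mp h1 with h' | h'
  · exact absurd h' hnq
  rcases (Nat.Prime.dvd_mul hl).mp h' with h' | h' <;> rcases (Nat.Prime.dvd_mul hl).mp h' with h'' | h''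
  · exact absurd h'' h2'
  · exact Or.inl ⟨h'', h3⟩
  · exact absurd h'' h4
  · exact Or.inr ⟨h'', h3⟩

/-- The Sylow orders of the tori. -/
theorem factorization_z {l : ℕ} (hl : l.Prime) (h : l ∣ C.D.z) :
    (Nat.card G).factorization l = C.D.z.factorization l := by
  have hl2 : l ≠ 2 := fun e => Nat.not_even_iff_odd.mpr R.z_odd (even_iff_two_dvd.mpr (e ▸ h))
  have hl' : ¬ l ∣ C.D.q := fun h' => by
    have := Nat.dvd_sub h' (h.mul_left 2)
    rw [R.q_z, Nat.add_sub_cancel_left] at this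
    exact hl.one_lt.ne' (Nat.dvd_one.mp this)
  have hl3 : ¬ l ∣ C.D.q ^ 3 + 1 := fun h' => by
    obtain ⟨c, hc⟩ := h
    have h2 : C.D.q ^ 3 + 1 = l * (c * (8 * C.D.z ^ 2 + 12 * C.D.z + 6)) + 2 := by
      rw [← mul_assoc, ← hc, R.q_z]; ring
    rw [h2] at h'
    exact hl2 ((Nat.prime_dvd_prime_iff_eq hl Nat.prime_two).mp ((Nat.dvd_add_right (dvd_mul_right _ _)).mp h'))
  have hz0 : C.D.z ≠ 0 := R.z_odd.pos.ne'
  rw [R.card, show C.D.q - 1 = 2 * C.D.z by rw [R.q_z]; omega]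
  have h0 : C.D.q ≠ 0 := by have := R.seven_q; omega
  rw [Nat.factorization_mul (by positivity) (by omega), Nat.factorization_mul (by positivity) (by positivity),
    Nat.factorization_mul two_ne_zero hz0]
  simp only [Finsupp.add_apply]
  rw [Nat.factorization_eq_zero_of_not_dvd hl3,
    Nat.factorization_eq_zero_of_not_dvd (fun h' => hl' (hl.dvd_of_dvd_pow h')),
    Nat.factorization_eq_zero_of_not_dvd (fun h' => hl2 ((Nat.prime_dvd_prime_iff_eq hl Nat.prime_two).mp h'))]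
  omega

theorem factorization_y {l : ℕ} (hl : l.Prime) (h : l ∣ C.D.y) (h3 : l ≠ 3) :
    (Nat.card G).factorization l = C.D.y.factorization l := by
  have hl2 : l ≠ 2 := fun e => Nat.not_even_iff_odd.mpr C.D.hy (even_iff_two_dvd.mpr (e ▸ h))
  have e := R.q_y
  obtain ⟨c, hc⟩ := h
  have hl' : ¬ l ∣ C.D.q := fun h' => by
    have := Nat.dvd_sub (dvd_mul_of_dvd_right (Dvd.intro c hc.symm : l ∣ C.D.y) 4) h'
    rw [← e, Nat.add_sub_cancel_left] at this
    exact hl.one_lt.ne' (Nat.dvd_one.mp this)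
  have hl1 : ¬ l ∣ C.D.q - 1 := fun h' => by
    have := Nat.dvd_sub (dvd_mul_of_dvd_right (Dvd.intro c hc.symm : l ∣ C.D.y) 4) h'
    rw [← e, show C.D.q + 1 - (C.D.q - 1) = 2 by have := R.seven_q; omega] at this
    exact hl2 ((Nat.prime_dvd_prime_iff_eq hl Nat.prime_two).mp this)
  obtain ⟨W, hW, hW3⟩ : ∃ W, C.D.q ^ 3 + 1 = (C.D.q + 1) * W ∧ ¬ l ∣ W := by
    refine ⟨C.D.q * (C.D.q - 1) + 1, ?_, fun h' => ?_⟩
    · have := R.seven_q
      zify [show 1 ≤ C.D.q by omega]
      ring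
    · have h2 : ((l : ℕ) : ℤ) ∣ (3 : ℤ) := by
        have hq1 : (l : ℤ) ∣ (C.D.q : ℤ) + 1 := by
          exact_mod_cast (show l ∣ C.D.q + 1 by rw [e, hc]; exact dvd_mul_of_dvd_right (dvd_mul_right _ _) _)
        have hW : (l : ℤ) ∣ (C.D.q : ℤ) * ((C.D.q : ℤ) - 1) + 1 := by
          have := Int.natCast_dvd_natCast.mpr h'
          push_cast [Nat.cast_sub (show 1 ≤ C.D.q by have := R.seven_q; omega)] at this
          exact this
        have := Int.dvd_sub hW (hq1.mul_right ((C.D.q : ℤ) - 2))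
        ring_nf at this
        exact this
      exact h3 ((Nat.prime_dvd_prime_iff_eq hl Nat.prime_three).mp (by exact_mod_cast h2))
  rw [R.card, hW, e]
  have h0 : C.D.q ≠ 0 := by have := R.seven_q; omega
  have hy0 : C.D.y ≠ 0 := C.D.hy.pos.ne'
  have hW0 : W ≠ 0 := fun h' => by rw [h', mul_zero] at hW; omega
  have hq1 : C.D.q - 1 ≠ 0 := by have := R.seven_q; omega
  rw [Nat.factorization_mul (by positivity) hq1, Nat.factorization_mul (by positivity) (by positivity),
    Nat.factorization_mul (by positivity) hW0, Nat.factorization_mul (by norm_num) hy0]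
  simp only [Finsupp.add_apply]
  rw [Nat.factorization_eq_zero_of_not_dvd hW3, Nat.factorization_eq_zero_of_not_dvd hl1,
    Nat.factorization_eq_zero_of_not_dvd (fun h' => hl' (hl.dvd_of_dvd_pow h')),
    Nat.factorization_eq_zero_of_not_dvd (n := 4) (fun h' => hl2 ((Nat.prime_dvd_prime_iff_eq hl Nat.prime_two).mp
      (hl.dvd_of_dvd_pow (show l ∣ 2 ^ 2 from h'))))]
  omega

end ReeCfg

/-- An element of odd order commuting with `t` lies in the copy of `L`. -/
theorem odd_mem_E {g : G} (hg : Commute g C.t) (ho : Odd (orderOf g)) : ∃ l, g = C.E l := by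
  obtain ⟨l, h | h⟩ := C.cent g hg
  · exact ⟨l, h⟩
  · exfalso
    have e := pow_orderOf_eq_one g
    nth_rw 1 [h] at e
    have hp : C.t ^ orderOf g = C.t := by
      obtain ⟨j, hj⟩ := ho
      rw [hj, pow_succ, pow_mul, pow_two, C.t_sq, one_pow, one_mul]
    rw [(C.E_comm l).mul_pow, hp, ← map_pow] at e
    exact C.t_not ((l ^ orderOf g)⁻¹) (by rw [map_inv]; exact (eq_inv_of_mul_eq_one_left e).symm)

/-- An element of prime order is conjugate into a subgroup with the full Sylow order. -/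
theorem conj_into {H : Type*} [Group H] [Finite H] {l : ℕ} [Fact l.Prime] (S : Subgroup H)
    (h : (Nat.card H).factorization l ≤ (Nat.card S).factorization l) {b : H} (hb : orderOf b = l) :
    ∃ x : H, x * b * x⁻¹ ∈ S := by
  obtain ⟨Q⟩ : Nonempty (Sylow l S) := inferInstance
  have hle : (Nat.card S).factorization l ≤ (Nat.card H).factorization l :=
    (Nat.factorization_le_iff_dvd Nat.card_pos.ne' Nat.card_pos.ne').mpr (Subgroup.card_subgroup_dvd_card S) l
  set P : Sylow l H := Sylow.ofCard ((Q : Subgroup S).map S.subtype) (by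
    rw [Subgroup.card_subtype, Sylow.card_eq_multiplicity, le_antisymm h hle]) with hP
  obtain ⟨T, hT⟩ := (IsPGroup.of_card (n := 1) (show Nat.card (Subgroup.zpowers b) = l ^ 1 by
    rw [Nat.card_zpowers, hb, pow_one])).exists_le_sylow
  obtain ⟨x, hx⟩ := MulAction.exists_smul_eq H T P
  have : x * b * x⁻¹ ∈ (P : Subgroup H) := by
    rw [← hx, Sylow.coe_subgroup_smul]
    exact Subgroup.smul_mem_pointwise_smul b (MulAut.conj x) (T : Subgroup H) (hT (Subgroup.mem_zpowers b))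
  obtain ⟨y, -, hy⟩ := (show x * b * x⁻¹ ∈ (Q : Subgroup S).map S.subtype from this)
  exact ⟨x, hy ▸ y.2⟩

namespace ReeCfg

variable (R : ReeCfg C)
include R

/-- No element of prime order of the centraliser of `E k` is inverted by `t` and fixed by `w'`. -/
theorem no_inverted {k : L} (hk : k ∈ C.D.Z) (hk1 : k ≠ 1) {b w' : G} (hl : (orderOf b).Prime)
    (hl2 : orderOf b ≠ 2) (hbk : Commute b (C.E k)) (hbt : C.t * b * C.t⁻¹ = b⁻¹)
    (hw : orderOf w' = 2) (hwt : Commute w' C.t) (hbw : Commute b w') : False := by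
  classical
  set l := orderOf b with hldef
  haveI : Fact l.Prime := ⟨hl⟩
  have hlodd : Odd l := hl.odd_of_ne_two hl2
  obtain ⟨g, hg⟩ := C.all_conj w' hw
  -- move `w'` to `t`
  have hbt' : Commute (g⁻¹ * b * g) C.t := by
    have := commute_conj hbw g⁻¹
    rw [inv_inv, show g⁻¹ * w' * g = C.t by rw [← hg]; group] at this
    exact this
  have hob : orderOf (g⁻¹ * b * g) = l := by simpa using order_conj g⁻¹ b
  obtain ⟨l', hl'⟩ := odd_mem_E hbt' (hob.symm ▸ hlodd)
  have hol : orderOf l' = l := by rw [← orderOf_injective C.E C.E_inj, ← hl', hob]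
  have hu : Commute (g⁻¹ * C.t * g) C.t := by
    have := commute_conj hwt.symm g⁻¹
    rw [inv_inv, show g⁻¹ * w' * g = C.t by rw [← hg]; group] at this
    exact this
  obtain ⟨⟨i, u⟩, hu'⟩ := C.exists_ΦC hu
  have hinv : u * l' * u⁻¹ = l'⁻¹ := by
    refine C.E_inj ?_
    rw [map_inv, ← hl', show (g⁻¹ * b * g)⁻¹ = g⁻¹ * b⁻¹ * g by group, ← hbt, map_mul, map_mul, map_inv]
    have e : C.E u * C.E l' * (C.E u)⁻¹ = C.ΦC (i, u) * C.E l' * (C.ΦC (i, u))⁻¹ := by
      rcases C.ΦC_cases i u with e | e <;> rw [e]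
      have := (C.E_comm (u * l' * u⁻¹))
      rw [map_mul, map_mul, map_inv] at this
      rw [show C.t * C.E u * C.E l' * (C.t * C.E u)⁻¹ = C.t * (C.E u * C.E l' * (C.E u)⁻¹) * C.t⁻¹ by group,
        this.eq, mul_inv_cancel_right]
    rw [e, hu', ← hl']
    group
  rcases R.prime_cases hl hl2 (hol ▸ orderOf_dvd_natCard l') with h3 | ⟨hz, -⟩ | ⟨hy, hy3⟩
  · exact R.zf.three l' u (hol.trans h3) hinv
  · -- `l ∣ z`: inside the centraliser of `E k`
    set X : Subgroup G := Subgroup.centralizer ({C.E k} : Set G) with hX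
    have hS : C.D.Z.map C.E ≤ X := by
      rintro _ ⟨a, ha, rfl⟩
      haveI := C.D.cycZ
      letI := IsCyclic.commGroup (α := C.D.Z)
      rw [hX, Subgroup.mem_centralizer_singleton_iff, ← map_mul, ← map_mul]
      exact congrArg C.E (congrArg Subtype.val (mul_comm (⟨a, ha⟩ : C.D.Z) ⟨k, hk⟩))
    have hcS : Nat.card ((C.D.Z.map C.E).subgroupOf X) = C.D.z := by
      rw [Nat.card_congr (Subgroup.subgroupOfEquivOfLe hS).toEquiv, Subgroup.card_map_of_injective C.E_inj,
        C.D.cardZ]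
    have hbX : b ∈ X := Subgroup.mem_centralizer_singleton_iff.mpr hbk.eq
    obtain ⟨x, hx⟩ := conj_into (l := l) ((C.D.Z.map C.E).subgroupOf X) (by
      rw [hcS, ← R.factorization_z hl hz]
      exact (Nat.factorization_le_iff_dvd Nat.card_pos.ne' Nat.card_pos.ne').mpr X.card_subgroup_dvd_card l)
      (b := ⟨b, hbX⟩) (by rw [← Subgroup.orderOf_coe])
    obtain ⟨k', hk', hk'e⟩ := Subgroup.mem_subgroupOf.mp hx
    have hk'e : C.E k' = (x : G) * b * (x : G)⁻¹ := hk'e
    have hk'1 : k' ≠ 1 := fun e => hl.ne_one (by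
      rw [hldef, ← order_conj (x : G) b, ← hk'e, e, map_one, orderOf_one])
    -- the involution `i₀` inverts `E k'`, and `t` centralises it
    have htX : C.t ∈ X := Subgroup.mem_centralizer_singleton_iff.mpr (C.E_comm k).eq
    set i₀ := (x : G) * C.t * (x : G)⁻¹ with hi₀
    have hi₀inv : i₀ * C.E k' * i₀⁻¹ = (C.E k')⁻¹ := by
      rw [hi₀, hk'e, show (x : G) * C.t * (x : G)⁻¹ * ((x : G) * b * (x : G)⁻¹) * ((x : G) * C.t * (x : G)⁻¹)⁻¹ =
        (x : G) * (C.t * b * C.t⁻¹) * (x : G)⁻¹ by group, hbt]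
      group
    set Y : Subgroup G := X ⊓ Subgroup.normalizer ((Subgroup.zpowers (C.E k') : Subgroup G) : Set G) with hY
    have htY : C.t ∈ Y := by
      refine Subgroup.mem_inf.mpr ⟨htX, Subgroup.mem_normalizer_iff.mpr fun a => ?_⟩
      have hc : ∀ a ∈ Subgroup.zpowers (C.E k'), C.t * a * C.t⁻¹ = a := fun a ha => by
        obtain ⟨n, rfl⟩ := Subgroup.mem_zpowers_iff.mp ha
        rw [((C.E_comm k').zpow_right n).eq, mul_inv_cancel_right]
      refine ⟨fun ha => by rw [hc a ha]; exact ha, fun ha => ?_⟩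
      have h := hc _ ha
      rw [mul_left_inj, mul_right_inj] at h
      exact h ▸ ha
    have hiY : i₀ ∈ Y := by
      refine Subgroup.mem_inf.mpr ⟨mul_mem (mul_mem x.2 htX) (inv_mem x.2), Subgroup.mem_normalizer_iff.mpr fun a => ?_⟩
      have hz' : ∀ n : ℤ, i₀ * C.E k' ^ n * i₀⁻¹ = C.E k' ^ (-n) := fun n => by
        rw [← conj_zpow, hi₀inv, _root_.inv_zpow, zpow_neg]
      constructor
      · intro ha
        obtain ⟨n, rfl⟩ := Subgroup.mem_zpowers_iff.mp ha
        rw [hz']; exact Subgroup.zpow_mem_zpowers _ _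
      · intro ha
        obtain ⟨n, hn⟩ := Subgroup.mem_zpowers_iff.mp ha
        refine Subgroup.mem_zpowers_iff.mpr ⟨-n, mul_left_cancel (a := i₀) (mul_right_cancel (b := i₀⁻¹) ?_)⟩
        rw [hz', neg_neg, hn]
    haveI : Fact (Nat.Prime 2) := ⟨Nat.prime_two⟩
    obtain ⟨P, hP⟩ := (IsPGroup.of_card (n := 1) (show Nat.card (Subgroup.zpowers (⟨C.t, htY⟩ : Y)) = 2 ^ 1 by
      rw [Nat.card_zpowers, ← Subgroup.orderOf_coe, C.t_ord, pow_one])).exists_le_sylow
    obtain ⟨P', hP'⟩ := (IsPGroup.of_card (n := 1) (show Nat.card (Subgroup.zpowers (⟨i₀, hiY⟩ : Y)) = 2 ^ 1 by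
      rw [Nat.card_zpowers, ← Subgroup.orderOf_coe]
      show orderOf i₀ = _
      rw [hi₀, order_conj, C.t_ord, pow_one])).exists_le_sylow
    obtain ⟨y, hy⟩ := MulAction.exists_smul_eq Y P' P
    -- the Sylow 2-subgroup is `⟨t⟩`
    have hPt : ∀ a ∈ (P : Subgroup Y), (a : G) = 1 ∨ (a : G) = C.t := by
      by_contra hcon
      push Not at hcon
      obtain ⟨a, haP, ha1, hat⟩ := hcon
      set S := (P : Subgroup Y).map Y.subtype
      have hlt : (Subgroup.zpowers C.t).subgroupOf S < ⊤ := by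
        refine lt_top_iff_ne_top.mpr fun e => ?_
        have h := (e ▸ Subgroup.mem_top (⟨(a : G), a, haP, rfl⟩ : S) :
          (⟨(a : G), a, haP, rfl⟩ : S) ∈ (Subgroup.zpowers C.t).subgroupOf S)
        obtain ⟨n, hn⟩ := Subgroup.mem_zpowers_iff.mp (Subgroup.mem_subgroupOf.mp h)
        rcases Int.even_or_odd n with ⟨c, rfl⟩ | ⟨c, rfl⟩
        · exact ha1 (by rw [← hn, ← two_mul, zpow_mul, zpow_ofNat, pow_two, C.t_sq, one_zpow])
        · exact hat (by
            show (a : G) = C.t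
            rw [← hn, zpow_add, zpow_one, zpow_mul, zpow_ofNat, pow_two, C.t_sq, one_zpow, one_mul])
      haveI := (P.2.map Y.subtype).isNilpotent
      obtain ⟨d, hdN, hd⟩ := SetLike.exists_of_lt ((Group.normalizerCondition_of_isNilpotent) _ hlt)
      have htS : C.t ∈ S := ⟨⟨C.t, htY⟩, hP (Subgroup.mem_zpowers _), rfl⟩
      have hdt : Commute (d : G) C.t := by
        have h := (Subgroup.mem_normalizer_iff.mp hdN (⟨C.t, htS⟩ : S)).mp
          (Subgroup.mem_subgroupOf.mpr (Subgroup.mem_zpowers C.t))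
        obtain ⟨n, hn⟩ := Subgroup.mem_zpowers_iff.mp (Subgroup.mem_subgroupOf.mp h)
        have hn' : C.t ^ n = (d : G) * C.t * (d : G)⁻¹ := hn
        rcases Int.even_or_odd n with ⟨c, rfl⟩ | ⟨c, rfl⟩
        · rw [← two_mul, zpow_mul, zpow_ofNat, pow_two, C.t_sq, one_zpow] at hn'
          exact absurd (conj_eq_one_iff.mp hn'.symm) C.t_ne
        · rw [zpow_add, zpow_one, zpow_mul, zpow_ofNat, pow_two, C.t_sq, one_zpow, one_mul] at hn'
          exact (mul_inv_eq_iff_eq_mul.mp hn'.symm)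
      obtain ⟨dY, hdP, hdY⟩ := d.2
      obtain ⟨⟨j, c⟩, hjc⟩ := C.exists_ΦC hdt
      have hdk : Commute (d : G) (C.E k) := by
        rw [← hdY]; exact Subgroup.mem_centralizer_singleton_iff.mp dY.2.1
      have hcZ : c ∈ C.D.Z := R.zf.cent k hk hk1 c (C.E_inj.eq_iff.mp (by
        have h := hdk
        rw [← hjc] at h
        rcases C.ΦC_cases j c with e | e <;> rw [e] at h
        · rw [map_mul, map_mul]; exact h.eq
        · rw [map_mul, map_mul]
          refine mul_left_cancel (a := C.t) ?_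
          rw [← mul_assoc, h.eq, ← mul_assoc, ← mul_assoc, (C.E_comm k).eq]))
      obtain ⟨n, hn⟩ := P.2 ⟨dY, hdP⟩
      have hd2 : (d : G) ^ 2 ^ n = 1 := by
        rw [← hdY]; exact congrArg (fun a : (P : Subgroup Y) => ((a : Y) : G)) hn
      rw [← hjc, ← map_pow] at hd2
      have hc1 : c = 1 := by
        refine eq_one_of_pow_coprime (m := 2 ^ n) (n := C.D.z) (congrArg Prod.snd (C.ΦC_inj (hd2.trans (map_one _).symm))) ?_
          ((Nat.coprime_two_left.mpr R.z_odd).pow_left n)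
        rw [← C.D.cardZ]
        exact congrArg Subtype.val (pow_card_eq_one' (G := C.D.Z) (x := ⟨c, hcZ⟩))
      refine hd (Subgroup.mem_subgroupOf.mpr ?_)
      rw [← hjc, hc1]
      rcases C.ΦC_cases j 1 with e | e <;> rw [e, map_one]
      · exact one_mem _
      · rw [mul_one]; exact Subgroup.mem_zpowers _
    have hconj : (y : G) * i₀ * (y : G)⁻¹ = C.t := by
      have hmem : y * ⟨i₀, hiY⟩ * y⁻¹ ∈ (P : Subgroup Y) := by
        rw [← hy, Sylow.coe_subgroup_smul]
        exact Subgroup.smul_mem_pointwise_smul _ (MulAut.conj y) (P' : Subgroup Y) (hP' (Subgroup.mem_zpowers _))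
      rcases hPt _ hmem with e | e
      · exact absurd (conj_eq_one_iff.mp (conj_eq_one_iff.mp e)) C.t_ne
      · exact e
    obtain ⟨n, hn⟩ := Subgroup.mem_zpowers_iff.mp
      ((Subgroup.mem_normalizer_iff.mp (Subgroup.mem_inf.mp y.2).2 (C.E k')).mp (Subgroup.mem_zpowers _))
    have hcomm : Commute i₀ (C.E k') := by
      have h := commute_conj ((C.E_comm k').zpow_right n) (y : G)⁻¹
      rw [hn, inv_inv, ← hconj] at h
      simpa [mul_assoc] using h
    rw [hcomm.eq, mul_inv_cancel_right] at hi₀inv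
    have h2 : orderOf (C.E k') ∣ 2 := orderOf_dvd_of_pow_eq_one (by
      rw [pow_two]; exact mul_eq_one_iff_eq_inv.mpr hi₀inv)
    rw [hk'e, order_conj, ← hldef] at h2
    exact hl2 ((Nat.prime_dvd_prime_iff_eq hl Nat.prime_two).mp h2)
  · -- `l ∣ y`: the centraliser of an element of `Y` is `A`
    obtain ⟨x, hx⟩ := conj_into (l := l) (C.D.Y.map C.E) (by
      rw [Subgroup.card_map_of_injective C.E_inj, C.D.cardY, R.factorization_y hl hy hy3]) hldef.symm
    obtain ⟨a, ha, hae⟩ := hx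
    have ha1 : a ≠ 1 := fun e => hl.ne_one (by
      rw [hldef, ← order_conj x b, ← hae, e, map_one, orderOf_one])
    set h' := x * C.E k * x⁻¹ with hh'
    have hcom : Commute (C.E a) h' := by rw [hae]; exact commute_conj hbk x
    obtain ⟨kk, e, i₀, j₀, y₀, hy₀, hge⟩ := C.transporter h' 0 0 0 0 a ha a ha ha1 (by
      simp only [aElt, Fin.val_zero, pow_zero, one_mul]
      rw [← hcom.eq, mul_inv_cancel_right])
    have hA : Commute (aElt C.t C.E C.v i₀ j₀ y₀) (C.E a) := by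
      refine Commute.mul_left ((C.E_comm a).pow_left _) (Commute.map ?_ C.E)
      haveI := C.D.cycY
      letI := IsCyclic.commGroup (α := C.D.Y)
      exact Commute.mul_left ((C.v_comm a ha).pow_left _)
        (congrArg Subtype.val (mul_comm (⟨y₀, hy₀⟩ : C.D.Y) ⟨a, ha⟩))
    have hfix : C.σ ^ (kk : ℕ) * (C.w ^ (e : ℕ) * C.E a * (C.w ^ (e : ℕ))⁻¹) * (C.σ ^ (kk : ℕ))⁻¹ = C.E a := by
      have h1 : h' * C.E a * h'⁻¹ = C.E a := by rw [← hcom.eq, mul_inv_cancel_right]
      rw [hge] at h1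
      refine Eq.trans ?_ h1
      rw [show C.σ ^ (kk : ℕ) * C.w ^ (e : ℕ) * aElt C.t C.E C.v i₀ j₀ y₀ * C.E a *
          (C.σ ^ (kk : ℕ) * C.w ^ (e : ℕ) * aElt C.t C.E C.v i₀ j₀ y₀)⁻¹ =
        C.σ ^ (kk : ℕ) * (C.w ^ (e : ℕ) * (aElt C.t C.E C.v i₀ j₀ y₀ * C.E a * (aElt C.t C.E C.v i₀ j₀ y₀)⁻¹) *
          (C.w ^ (e : ℕ))⁻¹) * (C.σ ^ (kk : ℕ))⁻¹ by group, hA.eq, mul_inv_cancel_right]
    set a' : C.D.Y := ⟨a, ha⟩ with ha'
    have ha'1 : a' ≠ 1 := fun h => ha1 (congrArg Subtype.val h)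
    obtain ⟨h1, h2⟩ := C.α_fpf a' ha'1
    obtain ⟨d, hd, hwd⟩ : ∃ d : C.D.Y, ((e = 0 ∧ d = a') ∨ (e = 1 ∧ d = a'⁻¹)) ∧
        C.w ^ (e : ℕ) * C.E a * (C.w ^ (e : ℕ))⁻¹ = C.E d := by
      fin_cases e
      · exact ⟨_, Or.inl ⟨rfl, rfl⟩, by simp [ha']⟩
      · exact ⟨_, Or.inr ⟨rfl, rfl⟩, by simpa [ha'] using C.w_Y a ha⟩
    rw [hwd] at hfix
    have hsq : a'⁻¹ ≠ a' := fun h => ha'1 (by
      have hY : a' ^ C.D.y = 1 := by rw [← C.D.cardY]; exact pow_card_eq_one'
      exact eq_one_of_pow_coprime (m := 2) (by rw [pow_two]; exact mul_eq_one_iff_eq_inv.mpr h.symm) hY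
        (Nat.coprime_two_left.mpr C.D.hy))
    have hinj : ∀ c c' : C.D.Y, C.E c = C.E c' → c = c' := fun c c' h => Subtype.ext (C.E_inj h)
    have key : (kk = 0 ∧ e = 0) := by
      rcases hd with ⟨he, rfl⟩ | ⟨he, rfl⟩
      · refine ⟨?_, he⟩
        fin_cases kk <;> simp only [pow_zero, pow_one, one_mul, inv_one, mul_one] at hfix
        · rfl
        · exact absurd (hinj _ _ (by rw [← C.σ_Y]; exact hfix)) h1
        · rw [pow_two, show C.σ * C.σ * C.E a * (C.σ * C.σ)⁻¹ = C.σ * (C.σ * C.E (a' : L) * C.σ⁻¹) * C.σ⁻¹ by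
            rw [ha']; group, C.σ_Y, C.σ_Y] at hfix
          have h4 : C.α (C.α a') = a' := hinj _ _ hfix
          exact absurd (by simpa [C.α_cube] using (congrArg C.α h4).symm) h1
      · exfalso
        fin_cases kk <;> simp only [pow_zero, pow_one, one_mul, inv_one, mul_one] at hfix
        · exact hsq (hinj _ _ hfix)
        · rw [C.σ_Y] at hfix
          have h4 : C.α a'⁻¹ = a' := hinj _ _ hfix
          rw [map_inv, inv_eq_iff_eq_inv] at h4
          exact h2 h4
        · rw [pow_two, show C.σ * C.σ * C.E ((a'⁻¹ : C.D.Y) : L) * (C.σ * C.σ)⁻¹ =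
            C.σ * (C.σ * C.E ((a'⁻¹ : C.D.Y) : L) * C.σ⁻¹) * C.σ⁻¹ by group, C.σ_Y, C.σ_Y] at hfix
          have h4 : C.α (C.α a'⁻¹) = a' := hinj _ _ hfix
          refine h2 ?_
          have h5 := congrArg C.α h4
          rw [C.α_cube] at h5
          exact h5.symm
    rw [key.1, key.2, Fin.val_zero, Fin.val_zero, pow_zero, pow_zero, one_mul, one_mul] at hge
    have hpow : h' ^ (2 * C.D.y) = 1 := by
      have hb : y₀ ^ C.D.y = 1 := by
        rw [← C.D.cardY]
        exact congrArg Subtype.val (pow_card_eq_one' (G := C.D.Y) (x := ⟨y₀, hy₀⟩))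
      have ht2 : (C.t ^ (i₀ : ℕ)) ^ (2 * C.D.y) = 1 := by
        rw [← pow_mul, mul_left_comm, pow_mul, pow_two, C.t_sq, one_pow]
      have hv2 : (C.v ^ (j₀ : ℕ)) ^ (2 * C.D.y) = 1 := by
        rw [← pow_mul, mul_left_comm, pow_mul, show C.v ^ 2 = 1 by have h := pow_orderOf_eq_one C.v; rwa [C.v_ord] at h, one_pow]
      rw [hge, aElt, ((C.E_comm _).pow_left _).mul_pow, ht2, one_mul, ← map_pow,
        ((C.v_comm y₀ hy₀).pow_left _).mul_pow, hv2, one_mul, mul_comm, pow_mul, hb, one_pow, map_one]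
    rw [hh', conj_pow, conj_eq_one_iff, ← map_pow] at hpow
    refine hk1 (eq_one_of_pow_coprime (n := C.D.z) (C.E_inj (hpow.trans (map_one C.E).symm)) ?_ ?_)
    · rw [← C.D.cardZ]
      exact congrArg Subtype.val (pow_card_eq_one' (G := C.D.Z) (x := ⟨k, hk⟩))
    · have e1 := R.q_y
      have e2 := R.q_z
      rw [show 2 * C.D.y = C.D.z + 1 by omega]
      simp

end ReeCfg

namespace ReeCfg

variable (R : ReeCfg C)
include R

/-- The elements centralising a non-trivial element of `Z` centralise `t`. -/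
theorem cent_Z {k : L} (hk : k ∈ C.D.Z) (hk1 : k ≠ 1) {g : G} (hg : Commute g (C.E k)) : Commute g C.t := by
  classical
  haveI : Fact (Nat.Prime 2) := ⟨Nat.prime_two⟩
  set X : Subgroup G := Subgroup.centralizer ({C.E k} : Set G) with hX
  have hmem : ∀ {x}, x ∈ X ↔ Commute x (C.E k) := fun {x} => Subgroup.mem_centralizer_singleton_iff
  set tX : X := ⟨C.t, hmem.mpr (C.E_comm k)⟩ with htX
  -- `⟨t⟩` is a Sylow 2-subgroup
  obtain ⟨P, hP⟩ := (IsPGroup.of_card (n := 1) (show Nat.card (Subgroup.zpowers tX) = 2 ^ 1 by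
    rw [Nat.card_zpowers, ← Subgroup.orderOf_coe, htX, C.t_ord, pow_one])).exists_le_sylow
  set T := (Subgroup.zpowers tX).subgroupOf (P : Subgroup X) with hT
  have hzp : ∀ a ∈ Subgroup.zpowers tX, a = 1 ∨ a = tX := by
    intro a ha
    obtain ⟨n, rfl⟩ := Subgroup.mem_zpowers_iff.mp ha
    have h2 : tX ^ 2 = 1 := by rw [pow_two]; exact Subtype.ext C.t_sq
    rcases Int.even_or_odd n with ⟨c, rfl⟩ | ⟨c, rfl⟩
    · exact Or.inl (by rw [← two_mul, zpow_mul, zpow_ofNat, h2, one_zpow])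
    · exact Or.inr (by rw [zpow_add, zpow_one, zpow_mul, zpow_ofNat, h2, one_zpow, one_mul])
  have hTtop : T = ⊤ := by
    by_contra hne
    haveI := P.2.isNilpotent
    obtain ⟨d, hdN, hd⟩ := SetLike.exists_of_lt
      ((Group.normalizerCondition_of_isNilpotent) T (lt_top_iff_ne_top.mpr hne))
    set tP : (P : Subgroup X) := ⟨tX, hP (Subgroup.mem_zpowers _)⟩
    have hdt : d * tP * d⁻¹ = tP := by
      rcases hzp _ (Subgroup.mem_subgroupOf.mp ((Subgroup.mem_normalizer_iff.mp hdN tP).mp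
        (Subgroup.mem_subgroupOf.mpr (Subgroup.mem_zpowers tX)))) with h | h
      · exfalso
        have h1 : tP = 1 := conj_eq_one_iff.mp (Subtype.ext h : d * tP * d⁻¹ = 1)
        exact C.t_ne (congrArg (fun a : (P : Subgroup X) => ((a : X) : G)) h1)
      · exact Subtype.ext h
    have hdt' : Commute ((d : X) : G) C.t :=
      mul_inv_eq_iff_eq_mul.mp (congrArg (fun a : (P : Subgroup X) => ((a : X) : G)) hdt)
    have hdk : Commute ((d : X) : G) (C.E k) := hmem.mp (d : X).2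
    obtain ⟨⟨j, c⟩, hjc⟩ := C.exists_ΦC hdt'
    rw [← hjc] at hdk
    have hcZ : c ∈ C.D.Z := R.zf.cent k hk hk1 c (C.E_inj.eq_iff.mp (by
      rcases C.ΦC_cases j c with e | e <;> rw [e] at hdk <;> rw [map_mul, map_mul]
      · exact hdk.eq
      · refine mul_left_cancel (a := C.t) ?_
        rw [← mul_assoc, hdk.eq, ← mul_assoc, ← mul_assoc, (C.E_comm k).eq]))
    obtain ⟨n, hn⟩ := P.2 d
    have hd2 : ((d : X) : G) ^ 2 ^ n = 1 := congrArg (fun a : (P : Subgroup X) => ((a : X) : G)) hn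
    rw [← hjc, ← map_pow] at hd2
    have hc1 : c = 1 := by
      refine eq_one_of_pow_coprime (m := 2 ^ n) (n := C.D.z)
        (congrArg Prod.snd (C.ΦC_inj (hd2.trans (map_one _).symm))) ?_
        ((Nat.coprime_two_left.mpr R.z_odd).pow_left n)
      rw [← C.D.cardZ]
      exact congrArg Subtype.val (pow_card_eq_one' (G := C.D.Z) (x := ⟨c, hcZ⟩))
    refine hd (Subgroup.mem_subgroupOf.mpr ?_)
    rw [hc1] at hjc
    rcases C.ΦC_cases j 1 with e | e <;> rw [e, map_one] at hjc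
    · rw [show ((d : (P : Subgroup X)) : X) = 1 from Subtype.ext hjc.symm]
      exact one_mem _
    · rw [mul_one] at hjc
      rw [show ((d : (P : Subgroup X)) : X) = tX from Subtype.ext hjc.symm]
      exact Subgroup.mem_zpowers _
  have hPle : (P : Subgroup X) ≤ Subgroup.zpowers tX := fun a ha =>
    Subgroup.mem_subgroupOf.mp (hTtop ▸ Subgroup.mem_top (⟨a, ha⟩ : (P : Subgroup X)) :
      (⟨a, ha⟩ : (P : Subgroup X)) ∈ T)
  have htP : tX ∈ (P : Subgroup X) := hP (Subgroup.mem_zpowers _)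
  have hN : Subgroup.normalizer ((P : Subgroup X) : Set X) ≤ Subgroup.centralizer (P : Set X) := by
    intro x hx a ha
    have htx : x * tX * x⁻¹ = tX := by
      rcases hzp _ (hPle ((Subgroup.mem_normalizer_iff.mp hx tX).mp htP)) with h | h
      · exact absurd (congrArg Subtype.val (conj_eq_one_iff.mp h)) C.t_ne
      · exact h
    rcases hzp a (hPle ha) with rfl | rfl
    · rw [one_mul, mul_one]
    · exact (mul_inv_eq_iff_eq_mul.mp htx).symm
  -- the normal complement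
  set M := (MonoidHom.transferSylow P hN).ker with hM
  have hcompl : Subgroup.IsComplement' M P := MonoidHom.ker_transferSylow_isComplement' P hN
  have hMP : M.index = 2 := by
    rw [hcompl.symm.index_eq_card]
    exact le_antisymm ((Subgroup.card_le_of_le hPle).trans_eq (by
      rw [Nat.card_zpowers, ← Subgroup.orderOf_coe, htX, C.t_ord]))
      ((Finite.one_lt_card_iff_nontrivial.mpr ⟨⟨tX, htP⟩, 1, fun h =>
        C.t_ne (congrArg (fun a : (P : Subgroup X) => ((a : X) : G)) h)⟩) :)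
  have hMcard : Odd (Nat.card M) := by
    rw [← hcompl.index_eq_card]
    exact Nat.not_even_iff_odd.mp fun h => P.not_dvd_index (even_iff_two_dvd.mp h)
  have hMin : ∀ {x : X}, Odd (orderOf x) → x ∈ M := fun {x} hx => by
    obtain ⟨j, hj⟩ := hx
    have h2 : x ^ 2 ∈ M := Subgroup.sq_mem_of_index_two hMP x
    have h := pow_orderOf_eq_one x
    rw [hj, pow_succ, pow_mul] at h
    rw [eq_inv_of_mul_eq_one_right h]
    exact inv_mem (pow_mem h2 j)
  have hMo : ∀ {x : X}, x ∈ M → Odd (orderOf (x : G)) := fun {x} hx => by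
    rw [Subgroup.orderOf_coe]
    exact hMcard.of_dvd_nat (Subgroup.orderOf_dvd_natCard M hx)
  -- the four-group
  obtain ⟨w, hw, hwZ⟩ := R.zf.inv
  set H : Subgroup G := M.map X.subtype with hH
  have hHX : ∀ {a}, a ∈ H → Commute a (C.E k) ∧ Odd (orderOf a) := by
    rintro _ ⟨x, hx, rfl⟩
    exact ⟨hmem.mp x.2, hMo hx⟩
  have hinH : ∀ {a}, Commute a (C.E k) → Odd (orderOf a) → a ∈ H := fun {a} ha ho =>
    ⟨⟨a, hmem.mpr ha⟩, hMin (by rwa [← Subgroup.orderOf_coe]), rfl⟩
  have hww : C.E w * C.E w = 1 := by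
    rw [← map_mul, ← pow_two, ← hw, pow_orderOf_eq_one, map_one]
  have hconj : ∀ s : G, (s * C.E k * s⁻¹ = C.E k ∨ s * C.E k * s⁻¹ = (C.E k)⁻¹) → ∀ {a}, a ∈ H → s * a * s⁻¹ ∈ H := by
    intro s hs a ha
    refine hinH ?_ (by rw [order_conj]; exact (hHX ha).2)
    have h := commute_conj (hHX ha).1 s
    rcases hs with e | e <;> rw [e] at h
    · exact h
    · exact inv_inv (C.E k) ▸ h.inv_right
  have hwk : C.E w * C.E k * (C.E w)⁻¹ = (C.E k)⁻¹ := by
    rw [← map_inv, ← map_inv, ← map_mul, ← map_mul, hwZ k hk]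
  have htk : C.t * C.E k * C.t⁻¹ = C.E k := by rw [(C.E_comm k).eq, mul_inv_cancel_right]
  have inverts : ∀ s : G, (∃ i : Fin 2, s = C.t ^ (i : ℕ) * C.E w) → ∀ a ∈ H, s * a * s⁻¹ = a⁻¹ := by
    rintro s ⟨i, rfl⟩
    set s := C.t ^ (i : ℕ) * C.E w with hs
    have hss : s * s = 1 := by
      rw [← pow_two, hs, ((C.E_comm w).pow_left _).mul_pow, ← pow_mul, mul_comm (i : ℕ), pow_mul, pow_two C.t,
        C.t_sq, one_pow, one_mul, pow_two, hww]
    have hst : Commute s C.t := ((Commute.refl C.t).pow_left _).mul_left (C.E_comm w).symm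
    have hsk : s * C.E k * s⁻¹ = (C.E k)⁻¹ := by
      rw [hs, show C.t ^ (i : ℕ) * C.E w * C.E k * (C.t ^ (i : ℕ) * C.E w)⁻¹ =
        C.t ^ (i : ℕ) * (C.E w * C.E k * (C.E w)⁻¹) * (C.t ^ (i : ℕ))⁻¹ by group, hwk,
        ((C.E_comm k).pow_left _).inv_right.eq, mul_inv_cancel_right]
    have hso : orderOf s = 2 := by
      refine orderOf_eq_prime (by rw [pow_two, hss]) fun e => ?_
      rw [e, one_mul, inv_one, mul_one, ← map_inv] at hsk
      refine hk1 (eq_one_of_pow_coprime (m := 2) (n := C.D.z)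
        (by rw [pow_two]; exact mul_eq_one_iff_eq_inv.mpr (C.E_inj hsk)) ?_ (Nat.coprime_two_left.mpr R.z_odd))
      rw [← C.D.cardZ]
      exact congrArg Subtype.val (pow_card_eq_one' (G := C.D.Z) (x := ⟨k, hk⟩))
    -- the fixed points of `s` are trivial
    have hfix : ∀ a ∈ H, Commute a s → a = 1 := by
      set H' : Subgroup G := H ⊓ Subgroup.centralizer ({s} : Set G) with hH'
      have hH'c : ∀ {a}, a ∈ H' → a ∈ H ∧ Commute a s := fun {a} ha =>
        ⟨(Subgroup.mem_inf.mp ha).1, Subgroup.mem_centralizer_singleton_iff.mp (Subgroup.mem_inf.mp ha).2⟩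
      have htH' : ∀ {a}, a ∈ H' → C.t * a * C.t⁻¹ ∈ H' := fun {a} ha => by
        refine Subgroup.mem_inf.mpr ⟨hconj _ (Or.inl htk) (hH'c ha).1, ?_⟩
        have h := commute_conj (hH'c ha).2 C.t
        rw [hst.symm.eq, mul_inv_cancel_right] at h
        exact Subgroup.mem_centralizer_singleton_iff.mpr h.eq
      let φ : H' →* H' :=
        { toFun := fun a => ⟨C.t * a * C.t⁻¹, htH' a.2⟩
          map_one' := Subtype.ext (by simp)
          map_mul' := fun a b => Subtype.ext (by simp [mul_assoc]) }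
      have hφf : MonoidHom.FixedPointFree φ := by
        intro a ha
        have hat : Commute C.t (a : G) := mul_inv_eq_iff_eq_mul.mp (congrArg Subtype.val ha :)
        obtain ⟨l, hl⟩ := odd_mem_E hat.symm (hHX (hH'c a.2).1).2
        have hlZ : l ∈ C.D.Z := R.zf.cent k hk hk1 l (C.E_inj.eq_iff.mp (by
          rw [map_mul, map_mul, ← hl]; exact (hHX (hH'c a.2).1).1.eq))
        have h1 : s * (a : G) * s⁻¹ = (a : G) := by rw [(hH'c a.2).2.symm.eq, mul_inv_cancel_right]
        rw [hl, hs, show C.t ^ (i : ℕ) * C.E w * C.E l * (C.t ^ (i : ℕ) * C.E w)⁻¹ =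
          C.t ^ (i : ℕ) * (C.E w * C.E l * (C.E w)⁻¹) * (C.t ^ (i : ℕ))⁻¹ by group, ← map_inv, ← map_mul,
          ← map_mul, hwZ l hlZ, ((C.E_comm l⁻¹).pow_left _).eq, mul_inv_cancel_right] at h1
        refine Subtype.ext (hl.trans ?_)
        rw [eq_one_of_pow_coprime (m := 2) (x := l) (by rw [pow_two]; exact mul_eq_one_iff_eq_inv.mpr (C.E_inj h1).symm)
          (by rw [← C.D.cardZ]; exact congrArg Subtype.val (pow_card_eq_one' (G := C.D.Z) (x := ⟨l, hlZ⟩)))
          (Nat.coprime_two_left.mpr R.z_odd), map_one]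
        rfl
      have hφi : Function.Involutive φ := fun a => Subtype.ext (by
        show C.t * (C.t * (a : G) * C.t⁻¹) * C.t⁻¹ = a
        rw [show C.t * (C.t * (a : G) * C.t⁻¹) * C.t⁻¹ = C.t * C.t * a * (C.t * C.t)⁻¹ by group, C.t_sq]
        group)
      intro a ha hc
      by_contra ha1
      obtain ⟨l, hl, hld⟩ := Nat.exists_prime_and_dvd (fun h => ha1 (orderOf_eq_one_iff.mp h))
      set b : H' := ⟨a, Subgroup.mem_inf.mpr ⟨ha, Subgroup.mem_centralizer_singleton_iff.mpr hc.eq⟩⟩ ^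
        (orderOf a / l) with hb
      have hbo : orderOf (b : G) = l := by
        show orderOf (a ^ (orderOf a / l)) = l
        rw [orderOf_pow_orderOf_div (orderOf_pos a).ne' hld]
      refine R.no_inverted hk hk1 (b := (b : G)) (w' := s) (hbo.symm ▸ hl) ?_ (hHX (hH'c b.2).1).1
        (congrArg Subtype.val (congrFun (MonoidHom.FixedPointFree.coe_eq_inv_of_involutive hφf hφi) b) :)
        hso hst (hH'c b.2).2
      rw [hbo]
      rintro rfl
      exact Nat.not_even_iff_odd.mpr (hHX ha).2 (even_iff_two_dvd.mpr hld)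
    let φ : H →* H :=
      { toFun := fun a => ⟨s * a * s⁻¹, hconj s (Or.inr hsk) a.2⟩
        map_one' := Subtype.ext (by simp)
        map_mul' := fun a b => Subtype.ext (by simp [mul_assoc]) }
    have hφf : MonoidHom.FixedPointFree φ := fun a ha =>
      Subtype.ext (hfix a a.2 (mul_inv_eq_iff_eq_mul.mp (congrArg Subtype.val ha :)).symm)
    have hφi : Function.Involutive φ := fun a => Subtype.ext (by
      show s * (s * (a : G) * s⁻¹) * s⁻¹ = a
      rw [show s * (s * (a : G) * s⁻¹) * s⁻¹ = s * s * a * (s * s)⁻¹ by group, hss]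
      group)
    intro a ha
    exact (congrArg Subtype.val (congrFun (MonoidHom.FixedPointFree.coe_eq_inv_of_involutive hφf hφi) ⟨a, ha⟩) :)
  -- `t` centralises `H`, hence everything
  have hcH : ∀ a ∈ H, Commute C.t a := by
    intro a ha
    have h0 := inverts (C.E w) ⟨0, by simp⟩ a ha
    have h1 := inverts (C.t * C.E w) ⟨1, by simp⟩ a ha
    rw [show C.t * C.E w * a * (C.t * C.E w)⁻¹ = C.t * (C.E w * a * (C.E w)⁻¹) * C.t⁻¹ by group, h0] at h1
    exact inv_inv a ▸ Commute.inv_right (mul_inv_eq_iff_eq_mul.mp h1)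
  obtain ⟨⟨m, p⟩, hmp⟩ := hcompl.2 ⟨g, hmem.mpr hg⟩
  have hgmp : ((m : X) : G) * ((p : X) : G) = g := congrArg Subtype.val hmp
  rw [← hgmp]
  refine Commute.mul_left (hcH _ ⟨m, m.2, rfl⟩).symm ?_
  rcases hzp (p : X) (hPle p.2) with e | e <;> rw [e]
  · exact Commute.one_left _
  · exact Commute.refl _

end ReeCfg

end CfsgLib.WalterUse
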