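import Cfsg.Agent.Lib.WalterUse.SimpleCases
import Cfsg.Agent.Lib.Walter.Main
import Cfsg.Agent.Lib.Walter.Ab.Main

/-!
The classification by orders, from the Walter engine.
-/

namespace CfsgLib.WalterUse

universe u

/-- Walter's classification by orders. -/
theorem orderClass : OrderClass.{u} := by
  intro G _ _ _ hG S hS
  haveI : Fact (Nat.Prime 2) := ⟨Nat.prime_two⟩
  refine (CfsgLib.WalterAb.listed_of_P (fun X _ _ => CfsgLib.Walter.p_all X) G inferInstance hG
    fun P => ?_).orders
  exact ⟨⟨fun a b => (P.equiv S).injective (by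
    rw [map_mul, map_mul]; exact hS.is_comm.comm _ _)⟩⟩

end CfsgLib.WalterUse
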