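import Cfsg.Agent.Lib.WalterUse.ReeNonabelian
import Cfsg.Agent.Lib.Walter.Ab.Facts
import Cfsg.Agent.S1644
import Cfsg.Agent.S0252
import Cfsg.Agent.S0253
import Cfsg.Prelude.Def_Classical
import Cfsg.Prelude.Def_Spor_J1

/-!
A member of the list of simple groups with abelian Sylow 2-subgroups all of whose Sylow subgroups are abelian is
`J₁` or `PSL₂(q)` with `q ≡ 0, 3, 5 (mod 8)`.
-/

set_option autoImplicit false
set_option linter.unusedSectionVars false
set_option linter.style.haveILetI false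

namespace CfsgLib.WalterUse

universe u

/-- The list reduces to `J₁` and `PSL₂(q)`. -/
theorem cases_of_listed {G : Type u} [Group G] [Finite G] [IsSimpleGroup G] (hl : WalterAb.Listed G)
    (hA : ∀ (p : ℕ), p.Prime → ∀ (P : Sylow p G), IsMulCommutative ↥P) :
    Cfsg.Spor.IsoJ1 G ∨
      ∃ (F : Type) (_ : Field F) (_ : Fintype F), 3 < Fintype.card F ∧
        (Fintype.card F % 8 = 0 ∨ Fintype.card F % 8 = 3 ∨ Fintype.card F % 8 = 5) ∧
        Nonempty (G ≃* Matrix.ProjectiveSpecialLinearGroup (Fin 2) F) := by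
  classical
  haveI : Fact (Nat.Prime 2) := ⟨Nat.prime_two⟩
  rcases hl with ⟨F, iF, iFt, hc, ⟨e⟩⟩ | hJ
  · right
    rcases hc with ⟨hq, h5⟩ | ⟨n, hn, hq⟩
    · exact ⟨F, iF, iFt, by omega, Or.inr hq, ⟨e⟩⟩
    rcases (show n = 2 ∨ 3 ≤ n by omega) with rfl | h3
    · haveI : Fact (Nat.Prime 5) := ⟨by norm_num⟩
      obtain ⟨e4⟩ := Cfsg.Agent.S0252.result (F := F) (by rw [hq]; norm_num)
      obtain ⟨e5⟩ := Cfsg.Agent.S0253.result (F := ZMod 5) (ZMod.card 5)
      exact ⟨ZMod 5, inferInstance, inferInstance, by rw [ZMod.card]; norm_num, Or.inr (Or.inr (by rw [ZMod.card])),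
        ⟨e.trans (e4.trans e5.symm)⟩⟩
    · obtain ⟨k, rfl⟩ : ∃ k, n = 3 + k := ⟨n - 3, by omega⟩
      refine ⟨F, iF, iFt, ?_, Or.inl ?_, ⟨e⟩⟩
      · rw [hq, pow_add]
        have := Nat.two_pow_pos k
        omega
      · rw [hq, pow_add]
        omega
  · obtain ⟨T⟩ : Nonempty (Sylow 2 G) := inferInstance
    obtain ⟨t, htT, ht1⟩ : ∃ t ∈ (T : Subgroup G), t ≠ 1 :=
      (Subgroup.bot_or_exists_ne_one _).resolve_left fun e => by
        have := (hJ.1 T).1; rw [e, Subgroup.card_bot] at this; omega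
    have ht : orderOf t = 2 := orderOf_eq_prime (by rw [pow_two]; exact (hJ.1 T).2 t htT) ht1
    obtain ⟨F, iF, iFt, hc, ⟨e⟩⟩ := hJ.2 t ht
    rcases hc with h5 | ⟨m, hm, hq⟩
    · left
      obtain ⟨e5⟩ := Cfsg.Agent.S0253.result (F := F) h5
      exact Cfsg.Agent.S1644.result T (hA 2 Nat.prime_two T) (hJ.1 T).1 t ht
        (e.trans (MulEquiv.prodCongr (MulEquiv.refl _) e5))
    · exfalso
      obtain ⟨Q, hQ⟩ := exists_nonabelian_sylow_three
        (fun P a b => (hA 2 Nat.prime_two P).is_comm.comm a b) hm hq t ht e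
      exact hQ fun a b => (hA 3 Nat.prime_three Q).is_comm.comm a b

end CfsgLib.WalterUse
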