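import Cfsg.Agent.Lib.PSL2.Out
import Cfsg.Agent.Lib.PSLn.AutOrder.Semilinear
import Cfsg.Agent.Lib.DicksonFull.Subgroups
import Cfsg.Agent.Lib.PSL2Spectrum
import Cfsg.Prelude.Def_KGroupFacts

/-!
An automorphism of `r`-power order of `PSL₂(q)`, `q ≡ 0, 3, 5 (mod 8)`, that fixes a Sylow `r`-subgroup elementwise
is inner: its field part would move the Sylow subgroup, and a diagonal part of 2-power order is inner.
-/

set_option autoImplicit false
set_option linter.unusedSectionVars false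
set_option linter.style.haveILetI false

namespace CfsgLib.WalterUse

open Matrix
open CfsgLib.PSL2 (mk mk_eq_mk diagAut fieldAut fieldPart exists_diag_field fieldPart_eq dil uu uSL conjSL)

variable {F : Type} [Field F]

local notation "M2" => Matrix (Fin 2) (Fin 2) F
local notation "SL" => Matrix.SpecialLinearGroup (Fin 2) F
local notation "PSL" => Matrix.ProjectiveSpecialLinearGroup (Fin 2) F

theorem dvd_pow_sub_one {r a y : ℕ} (hr : r.Prime) (ha : 1 ≤ a) (hy : 1 ≤ y) (h : r ^ a ∣ y - 1) :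
    r ^ (a + 1) ∣ y ^ r - 1 := by
  zify [Nat.one_le_pow r y hy, hy] at h ⊢
  rw [← geom_sum_mul, pow_succ']
  refine mul_dvd_mul ?_ (by exact_mod_cast h)
  rw [← ZMod.intCast_zmod_eq_zero_iff_dvd]
  have h1 : ((y : ℤ) : ZMod r) = 1 := by
    rw [← sub_eq_zero, ← Int.cast_one, ← Int.cast_sub, ZMod.intCast_zmod_eq_zero_iff_dvd]
    exact (dvd_pow_self _ (by omega : a ≠ 0)).trans (by exact_mod_cast h)
  push_cast at h1 ⊢
  simp [h1]

/-- A matrix of `SL₂` with trace in a subfield of order `q₀` has order dividing `|SL₂(q₀)|`. -/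
theorem orderOf_dvd_of_trace [Fintype F] (S : Subfield F) (A : SL) (h : A.1.trace ∈ S) :
    orderOf A ∣ Nat.card S * (Nat.card S ^ 2 - 1) := by
  classical
  haveI : Fintype S := Fintype.ofFinite _
  set t : S := ⟨A.1.trace, h⟩ with ht
  let C : Matrix.SpecialLinearGroup (Fin 2) S := ⟨!![0, -1; 1, t], by simp [Matrix.det_fin_two_of]⟩
  have hA : A.1 * A.1 = (t : F) • A.1 - (1 : M2) := by
    have hd : A.1 0 0 * A.1 1 1 - A.1 0 1 * A.1 1 0 = 1 := by rw [← Matrix.det_fin_two]; exact A.2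
    ext i j
    fin_cases i <;> fin_cases j <;> simp [ht, Matrix.trace_fin_two, Matrix.mul_apply, Fin.sum_univ_two]
    · linear_combination -hd
    · ring
    · ring
    · linear_combination -hd
  have hC : C.1 * C.1 = t • C.1 - (1 : Matrix (Fin 2) (Fin 2) S) := by
    ext i j
    fin_cases i <;> fin_cases j <;> simp [C, Matrix.mul_apply, Fin.sum_univ_two]
    ring
  have hlin : ∀ n : ℕ, ∃ a b : S, (C ^ n).1 = a • C.1 + b • (1 : Matrix (Fin 2) (Fin 2) S) ∧
      (A ^ n).1 = (a : F) • A.1 + (b : F) • (1 : M2) := by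
    intro n
    induction n with
    | zero => exact ⟨0, 1, by simp, by simp⟩
    | succ n ih =>
      obtain ⟨a, b, e1, e2⟩ := ih
      refine ⟨a * t + b, -a, ?_, ?_⟩
      · rw [pow_succ]
        change (C ^ n).1 * C.1 = _
        rw [e1, Matrix.add_mul, Matrix.smul_mul, Matrix.smul_mul, hC,
          Matrix.one_mul]
        module
      · rw [pow_succ]
        change (A ^ n).1 * A.1 = _
        rw [e2, Matrix.add_mul, Matrix.smul_mul, Matrix.smul_mul, hA,
          Matrix.one_mul]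
        push_cast
        module
  refine (orderOf_dvd_of_pow_eq_one (n := orderOf C) ?_).trans ?_
  · obtain ⟨a, b, e1, e2⟩ := hlin (orderOf C)
    rw [pow_orderOf_eq_one] at e1
    change (1 : Matrix (Fin 2) (Fin 2) S) = _ at e1
    have h10 := congrFun (congrFun e1 1) 0
    have h00 := congrFun (congrFun e1 0) 0
    simp [C] at h10 h00
    refine Subtype.ext ?_
    rw [e2, ← h10, ← h00]
    simp
  · rw [Nat.card_eq_fintype_card (α := S), ← SLCard.card_SL_two (F := S)]
    exact orderOf_dvd_natCard C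

variable [Fintype F] (p : ℕ) [Fact p.Prime] [CharP F p]

/-- An automorphism fixing the upper unitriangular group has no field part. -/
theorem fieldPart_of_fix_uu {φ : MulAut PSL} (h : ∀ t, φ (uu t) = uu t) : fieldPart p φ = 1 := by
  obtain ⟨g, e, hge⟩ := exists_diag_field p φ
  rw [fieldPart_eq p hge]
  have key : ∀ t : F, g.1 * !![1, e t; 0, 1] = !![1, t; 0, 1] * g.1 := by
    intro t
    have h1 := h t
    rw [hge, MulAut.mul_apply, CfsgLib.PSL2.fieldAut_uu, CfsgLib.PSL2.uu_eq, CfsgLib.PSL2.diagAut_apply,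
      CfsgLib.PSL2.uu_eq, mk_eq_mk, CfsgLib.PSL2.coe_conjSL, CfsgLib.PSL2.coe_uSL, CfsgLib.PSL2.coe_uSL] at h1
    rcases h1 with h1 | h1
    · rw [h1, Matrix.mul_assoc _ (g⁻¹).1, ← Units.val_mul, inv_mul_cancel, Units.val_one, Matrix.mul_one]
    · have htr := congrArg Matrix.trace h1
      rw [Matrix.trace_neg, Matrix.trace_units_conj] at htr
      simp [Matrix.trace_fin_two] at htr
      have h2 : (4 : F) = 0 := by linear_combination htr
      have h2' : (-1 : F) = 1 := by
        have : (2 : F) * 2 = 0 := by linear_combination h2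
        rcases mul_eq_zero.mp this with h | h <;> linear_combination -h
      have hneg : ∀ M : M2, -M = M := fun M => by rw [← neg_one_smul F M, h2', one_smul]
      rw [hneg] at h1
      rw [h1, Matrix.mul_assoc _ (g⁻¹).1, ← Units.val_mul, inv_mul_cancel, Units.val_one, Matrix.mul_one]
  have h1 := key 1
  rw [map_one] at h1
  have a00 := congrFun (congrFun h1 0) 0
  have a01 := congrFun (congrFun h1 0) 1
  simp [Matrix.mul_apply, Fin.sum_univ_two] at a00 a01
  have hdet : g.1 0 0 * g.1 1 1 - g.1 0 1 * g.1 1 0 ≠ 0 := by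
    rw [← Matrix.det_fin_two]
    exact ((Matrix.isUnit_iff_isUnit_det _).mp g.isUnit).ne_zero
  have hne : g.1 0 0 ≠ 0 := fun h0 => hdet (by rw [h0, a00]; ring)
  ext t
  show e t = t
  have b01 := congrFun (congrFun (key t) 0) 1
  simp [Matrix.mul_apply, Fin.sum_univ_two] at b01
  refine mul_left_cancel₀ hne ?_
  linear_combination b01 - t * a01

/-- An automorphism with field part of order `r` fixes no element of order the full odd `r`-part of `|PSL₂(q)|`. -/
theorem false_of_fix_torus {r a : ℕ} (hr : r.Prime) (hr2 : r ≠ 2) (hrp : r ≠ p) (ha : 1 ≤ a)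
    (hmax : ¬ r ^ (a + 1) ∣ Fintype.card F ^ 2 - 1) {φ : MulAut PSL} (he : orderOf (fieldPart p φ) = r) {y : PSL}
    (hy : orderOf y = r ^ a) (hfix : φ y = y) : False := by
  classical
  obtain ⟨g, e, hge⟩ := exists_diag_field p φ
  rw [fieldPart_eq p hge] at he
  obtain ⟨A₀, rfl⟩ := QuotientGroup.mk'_surjective _ y
  have hodd : Odd (r ^ a) := (hr.odd_of_ne_two hr2).pow
  obtain ⟨A, hmA, hA⟩ : ∃ A : SL, mk A = mk A₀ ∧ A ^ r ^ a = 1 := by
    have h1 : mk (A₀ ^ r ^ a) = 1 := by rw [map_pow, ← hy]; exact pow_orderOf_eq_one _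
    rcases DicksonFull.mk_eq_one h1 with h | h
    · exact ⟨A₀, rfl, h⟩
    · exact ⟨-A₀, DicksonFull.mk_neg A₀, by rw [hodd.neg_pow, h, neg_neg]⟩
  have hfix' : mk (conjSL g (CfsgLib.PSL2.fieldSL e A)) = mk A := by
    rw [← CfsgLib.PSL2.diagAut_apply, show mk (CfsgLib.PSL2.fieldSL e A) = fieldAut e (mk A) from rfl,
      ← MulAut.mul_apply, ← hge, hmA]
    exact hfix
  have hAeq : conjSL g (CfsgLib.PSL2.fieldSL e A) = A := by
    rcases DicksonFull.eq_or_neg hfix' with h | h
    · exact h.symm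
    · have h3 := congrArg (· ^ r ^ a) h
      simp only [hodd.neg_pow, ← map_pow, hA, map_one] at h3
      refine Eq.trans (Subtype.ext ?_) h.symm
      have h4 : (1 : M2) = -1 := by simpa using congrArg Subtype.val h3
      rw [SpecialLinearGroup.coe_neg, ← neg_one_smul F, show (-1 : F) = 1 from by
        simpa using (congrFun (congrFun h4 0) 0).symm, one_smul]
  have htr : e A.1.trace = A.1.trace := by
    conv_rhs => rw [← hAeq]
    rw [CfsgLib.PSL2.coe_conjSL, Matrix.trace_units_conj]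
    simp [CfsgLib.PSL2.fieldSL, Matrix.trace_fin_two]
  obtain ⟨S, hS, hcard, hS2⟩ := AutOrder.card_fixed e
  rw [he] at hcard
  have hord : orderOf A = r ^ a := by
    refine Nat.dvd_antisymm (orderOf_dvd_of_pow_eq_one hA) ?_
    rw [← hy, show (QuotientGroup.mk' _ A₀ : PSL) = mk A from hmA.symm]
    exact orderOf_map_dvd mk A
  have h1 := orderOf_dvd_of_trace S A ((hS _).mpr htr)
  rw [hord] at h1
  have hco : (r ^ a).Coprime (Nat.card S) := by
    refine ((hr.coprime_iff_not_dvd).mpr fun hd => ?_).pow_left a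
    obtain ⟨f, -, hq⟩ := FiniteField.card F p
    have h2 : r ∣ Fintype.card F := hcard ▸ dvd_pow hd hr.ne_zero
    rw [hq] at h2
    exact hrp ((Nat.prime_dvd_prime_iff_eq hr Fact.out).mp (hr.dvd_of_dvd_pow h2))
  have h2 := dvd_pow_sub_one hr ha (Nat.one_le_pow _ _ (by omega)) (hco.dvd_of_dvd_mul_left h1)
  rw [← pow_mul, mul_comm 2 r, pow_mul, ← hcard] at h2
  exact hmax h2

/-- Diagonal automorphisms have inner squares. -/
theorem sq_inner (g : GL (Fin 2) F) : diagAut g * diagAut g ∈ Cfsg.Inn PSL := by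
  obtain ⟨c, A, rfl⟩ := CfsgLib.PSL2.exists_dil_mul g
  have hi : (QuotientGroup.mk (MulAut.conj (mk A)) : Cfsg.Out PSL) = 1 :=
    (QuotientGroup.eq_one_iff _).mpr ⟨_, rfl⟩
  rw [← QuotientGroup.eq_one_iff, QuotientGroup.mk_mul, map_mul, QuotientGroup.mk_mul,
    CfsgLib.PSL2.diagAut_toGL, hi, mul_one, ← QuotientGroup.mk_mul,
    ← map_mul, QuotientGroup.eq_one_iff]
  obtain ⟨x, hx⟩ := (CfsgLib.PSL2.dil_inner_iff (c * c)).mpr ⟨c, sq c⟩
  exact ⟨x, by rw [← map_mul dil]; exact hx.symm⟩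

/-- In even characteristic every diagonal automorphism is inner. -/
theorem diag_inner (hq : Even (Fintype.card F)) (g : GL (Fin 2) F) : diagAut g ∈ Cfsg.Inn PSL := by
  obtain ⟨c, A, rfl⟩ := CfsgLib.PSL2.exists_dil_mul g
  rw [map_mul, CfsgLib.PSL2.diagAut_toGL]
  refine mul_mem ?_ ⟨_, rfl⟩
  obtain ⟨x, hx⟩ := (CfsgLib.PSL2.dil_inner_iff c).mpr ⟨c ^ (Fintype.card F / 2), by
    show (c ^ (Fintype.card F / 2)) ^ 2 = c
    rw [← pow_mul, Nat.div_mul_cancel hq.two_dvd]
    exact Units.ext (FiniteField.pow_card (c : F))⟩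
  exact ⟨x, hx.symm⟩

/-- A diagonal automorphism centralising a Klein group is inner. -/
theorem diag_inner_of_fix_klein (h2 : (2 : F) ≠ 0) {g : GL (Fin 2) F} {u v : PSL} (hu : orderOf u = 2)
    (hv : orderOf v = 2) (huv : orderOf (u * v) = 2) (hgu : diagAut g u = u) (hgv : diagAut g v = v) :
    diagAut g ∈ Cfsg.Inn PSL := by
  classical
  obtain ⟨A, rfl⟩ := QuotientGroup.mk'_surjective _ u
  obtain ⟨B, rfl⟩ := QuotientGroup.mk'_surjective _ v
  have hsq : ∀ C : SL, orderOf (mk C) = 2 → C * C = -1 := fun C hC => by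
    have hne : mk C ≠ 1 := fun e => by rw [e, orderOf_one] at hC; omega
    have h1 : mk (C * C) = 1 := by
      have := pow_orderOf_eq_one (mk C)
      rwa [hC, pow_two, ← map_mul] at this
    refine (DicksonFull.mk_eq_one h1).resolve_left fun h => hne ?_
    have h3 : C.1 * C.1 = 1 := by simpa using congrArg Subtype.val h
    have hd : C.1 0 0 * C.1 1 1 - C.1 0 1 * C.1 1 0 = 1 := by rw [← Matrix.det_fin_two]; exact C.2
    have e00 := congrFun (congrFun h3 0) 0
    have e01 := congrFun (congrFun h3 0) 1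
    have e10 := congrFun (congrFun h3 1) 0
    have e11 := congrFun (congrFun h3 1) 1
    simp [Matrix.mul_apply, Fin.sum_univ_two] at e00 e01 e10 e11
    have ht : C.1 0 0 + C.1 1 1 ≠ 0 := fun h0 => h2 (by linear_combination (C.1 1 1) * h0 - hd - e11)
    have hb : C.1 0 1 = 0 := (mul_eq_zero.mp (show C.1 0 1 * (C.1 0 0 + C.1 1 1) = 0 by linear_combination e01)).resolve_right ht
    have hc : C.1 1 0 = 0 := (mul_eq_zero.mp (show C.1 1 0 * (C.1 0 0 + C.1 1 1) = 0 by linear_combination e10)).resolve_right ht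
    rw [hb, hc] at hd
    rw [hb] at e00
    have he : C.1 0 0 = C.1 1 1 := by linear_combination (C.1 1 1) * e00 - (C.1 0 0) * hd
    rcases mul_self_eq_one_iff.mp (show C.1 0 0 * C.1 0 0 = 1 by linear_combination e00) with e | e
    · rw [show C = 1 from Subtype.ext (by rw [Matrix.eta_fin_two C.1, hb, hc, ← he, e]; simp [Matrix.one_fin_two]), map_one]
    · rw [show C = -1 from Subtype.ext (by rw [Matrix.eta_fin_two C.1, hb, hc, ← he, e]; simp [Matrix.one_fin_two]),
        DicksonFull.mk_neg, map_one]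
  have hA := hsq A hu
  have hB := hsq B hv
  have hAB := hsq (A * B) (by rw [map_mul]; exact huv)
  have mA : A.1 * A.1 = -1 := by simpa using congrArg Subtype.val hA
  have mB : B.1 * B.1 = -1 := by simpa using congrArg Subtype.val hB
  have hanti : A.1 * B.1 = -(B.1 * A.1) := by
    have m : A.1 * B.1 * (A.1 * B.1) = -1 := by simpa using congrArg Subtype.val hAB
    calc A.1 * B.1 = A.1 * B.1 * (A.1 * (B.1 * B.1) * A.1) := by rw [mB]; simp [mA]
      _ = A.1 * B.1 * (A.1 * B.1) * (B.1 * A.1) := by simp only [Matrix.mul_assoc]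
      _ = -(B.1 * A.1) := by rw [m]; simp
  have hnA : ∀ a : F, A.1 ≠ a • (1 : M2) := DicksonFull.not_scalar_of_ne_one fun e => by
    rw [show (QuotientGroup.mk' _ A : PSL) = mk A from rfl, e, orderOf_one] at hu; omega
  -- the sign pattern of `g`
  have hsign : ∀ C : SL, diagAut g (mk C) = mk C → g.1 * C.1 = C.1 * g.1 ∨ g.1 * C.1 = -(C.1 * g.1) := by
    intro C hC
    rw [CfsgLib.PSL2.diagAut_apply, mk_eq_mk, CfsgLib.PSL2.coe_conjSL] at hC
    rcases hC with h | h
    · left
      conv_rhs => rw [h]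
      rw [Matrix.mul_assoc _ (g⁻¹).1, ← Units.val_mul, inv_mul_cancel, Units.val_one, Matrix.mul_one]
    · right
      conv_rhs => rw [h]
      rw [Matrix.neg_mul, neg_neg, Matrix.mul_assoc _ (g⁻¹).1, ← Units.val_mul, inv_mul_cancel, Units.val_one,
        Matrix.mul_one]
  obtain ⟨X, hXA, hXB⟩ : ∃ X : SL, (g.1 * X.1) * A.1 = A.1 * (g.1 * X.1) ∧ (g.1 * X.1) * B.1 = B.1 * (g.1 * X.1) := by
    rcases hsign A hgu with ha | ha <;> rcases hsign B hgv with hb | hb
    · exact ⟨1, by simpa using ha, by simpa using hb⟩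
    · refine ⟨A, ?_, ?_⟩
      · rw [Matrix.mul_assoc, ← Matrix.mul_assoc A.1, ← ha, Matrix.mul_assoc]
      · rw [Matrix.mul_assoc, hanti, Matrix.mul_neg, ← Matrix.mul_assoc, hb, Matrix.neg_mul, neg_neg, Matrix.mul_assoc]
    · refine ⟨B, ?_, ?_⟩
      · rw [Matrix.mul_assoc, show B.1 * A.1 = -(A.1 * B.1) by rw [hanti, neg_neg], Matrix.mul_neg, ← Matrix.mul_assoc,
          ha, Matrix.neg_mul, neg_neg, Matrix.mul_assoc]
      · rw [Matrix.mul_assoc, ← Matrix.mul_assoc B.1, ← hb, Matrix.mul_assoc]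
    · refine ⟨A * B, ?_, ?_⟩
      · change g.1 * (A.1 * B.1) * A.1 = A.1 * (g.1 * (A.1 * B.1))
        rw [Matrix.mul_assoc, Matrix.mul_assoc A.1, show B.1 * A.1 = -(A.1 * B.1) by
          rw [hanti, neg_neg], Matrix.mul_neg, ← Matrix.mul_assoc A.1, ← Matrix.mul_assoc A.1, Matrix.mul_neg,
          ← Matrix.mul_assoc g.1, ← Matrix.mul_assoc g.1, ha]
        simp [Matrix.mul_assoc]
      · change g.1 * (A.1 * B.1) * B.1 = B.1 * (g.1 * (A.1 * B.1))
        have hb' : B.1 * g.1 = -(g.1 * B.1) := by rw [hb, neg_neg]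
        have hba : B.1 * A.1 = -(A.1 * B.1) := by rw [hanti, neg_neg]
        calc g.1 * (A.1 * B.1) * B.1 = g.1 * (-(B.1 * A.1)) * B.1 := by rw [hanti]
          _ = -(g.1 * B.1) * (A.1 * B.1) := by simp [Matrix.mul_assoc]
          _ = _ := by rw [← hb', Matrix.mul_assoc]
  obtain ⟨s, t, hst⟩ := SL2Centralizer.exists_of_commute hnA hXA
  have ht : t = 0 := by
    have h0 := hXB
    rw [hst, Matrix.add_mul, Matrix.mul_add, Matrix.smul_mul, Matrix.smul_mul, Matrix.mul_smul, Matrix.mul_smul,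
      Matrix.one_mul, Matrix.mul_one, add_right_inj, hanti, smul_neg] at h0
    have hne : B.1 * A.1 ≠ 0 := fun h1 => by
      have := congrArg Matrix.det h1
      rw [Matrix.det_mul, A.2, B.2, one_mul] at this
      simp at this
    have h3 : (2 * t) • (B.1 * A.1) = 0 := by
      rw [two_mul, add_smul]
      nth_rewrite 1 [← h0]
      exact neg_add_cancel _
    exact (mul_eq_zero.mp ((smul_eq_zero.mp h3).resolve_right hne)).resolve_left h2
  rw [ht, zero_smul, add_zero] at hst
  have hsc : diagAut (g * SpecialLinearGroup.toGL X) = 1 := by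
    refine CfsgLib.PSL2.diagAut_scalar _ s ?_
    rw [Units.val_mul, show (SpecialLinearGroup.toGL X : GL (Fin 2) F).1 = X.1 from rfl, hst, Matrix.scalar_apply,
      ← Matrix.smul_one_eq_diagonal]
  rw [map_mul, CfsgLib.PSL2.diagAut_toGL, mul_eq_one_iff_eq_inv] at hsc
  rw [hsc]
  exact inv_mem ⟨_, rfl⟩

include p in
/-- An automorphism of `r`-power order of `PSL₂(q)` fixing a Sylow `r`-subgroup elementwise is inner. -/
theorem inner_of_fix_sylow (hq4 : 4 ≤ Fintype.card F)
    (hq : Fintype.card F % 8 = 0 ∨ Fintype.card F % 8 = 3 ∨ Fintype.card F % 8 = 5) {r : ℕ} [hr : Fact r.Prime]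
    (hrG : r ∣ Nat.card PSL) {φ : MulAut PSL} {k : ℕ} (hk : orderOf φ = r ^ k) (R : Sylow r PSL)
    (hfix : ∀ x ∈ (R : Subgroup PSL), φ x = x) : φ ∈ Cfsg.Inn PSL := by
  classical
  set q := Fintype.card F with hqdef
  obtain ⟨f, -, hqp⟩ := FiniteField.card F p
  have hp : p.Prime := Fact.out
  set e := fieldPart p φ with he
  have he1 : e = 1 := by
    by_contra hne
    obtain ⟨j, hjk, hj⟩ : ∃ j ≤ k, orderOf e = r ^ j :=
      (Nat.dvd_prime_pow hr.out).mp (hk ▸ orderOf_map_dvd (fieldPart p) φ)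
    have hj1 : 1 ≤ j := by
      by_contra h0
      rw [show j = 0 by omega, pow_zero, orderOf_eq_one_iff] at hj
      exact hne hj
    set ψ := φ ^ r ^ (j - 1) with hψ
    have hψe : orderOf (fieldPart p ψ) = r := by
      rw [hψ, map_pow, orderOf_pow' _ (pow_ne_zero _ hr.out.ne_zero), ← he, hj,
        Nat.gcd_eq_right (pow_dvd_pow r (Nat.sub_le j 1)), Nat.pow_div (Nat.sub_le j 1) hr.out.pos,
        show j - (j - 1) = 1 by omega, pow_one]
    have hψfix : ∀ x ∈ (R : Subgroup PSL), ψ x = x := fun x hx =>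
      Subgroup.pow_mem (MulAction.stabilizer (MulAut PSL) x) (show φ ∈ MulAction.stabilizer (MulAut PSL) x from hfix x hx) _
    rcases eq_or_ne r p with rfl | hrp
    · obtain ⟨h, hh⟩ := MulAction.exists_smul_eq PSL R (CfsgLib.PSL2.uSylow r)
      have h1 : ∀ t, (MulAut.conj h * ψ * (MulAut.conj h)⁻¹) (uu t) = uu t := by
        intro t
        have hu : uu t ∈ ((h • R : Sylow r PSL) : Subgroup PSL) := by rw [hh]; exact ⟨_, rfl⟩
        obtain ⟨x, hx, hxe⟩ := hu
        rw [← hxe]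
        show MulAut.conj h (ψ ((MulAut.conj h)⁻¹ (MulAut.conj h x))) = MulAut.conj h x
        rw [MulAut.inv_apply_self, hψfix x hx]
      have h2 := fieldPart_of_fix_uu r h1
      rw [map_mul, map_mul, map_inv] at h2
      have h3 : fieldPart r (MulAut.conj h) = 1 := by
        obtain ⟨A, rfl⟩ := QuotientGroup.mk'_surjective _ h
        exact fieldPart_eq r (g := SpecialLinearGroup.toGL A) (by
          erw [CfsgLib.PSL2.fieldAut_refl]; rw [CfsgLib.PSL2.diagAut_toGL, mul_one])
      rw [h3, one_mul, inv_one, mul_one] at h2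
      rw [h2, orderOf_one] at hψe
      exact hr.out.one_lt.ne hψe
    rcases eq_or_ne r 2 with rfl | hr2
    · obtain ⟨S, -, hcard, -⟩ := AutOrder.card_fixed (fieldPart p ψ)
      rw [hψe, ← hqdef] at hcard
      have hodd : q % 2 = 1 := by
        rcases hp.eq_two_or_odd with h | h
        · exact absurd h.symm hrp
        · rw [hqdef, hqp, Nat.pow_mod, h]; simp
      have hm : ∀ s, s < 8 → s * s % 8 ≠ 3 ∧ s * s % 8 ≠ 5 := by decide
      have hs := hm (Nat.card S % 8) (Nat.mod_lt _ (by norm_num))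
      have h8 : q % 8 = Nat.card S % 8 * (Nat.card S % 8) % 8 := by rw [hcard, pow_two, Nat.mul_mod]
      omega
    set d := Nat.gcd 2 (q - 1) with hd
    have hd2 : d ∣ 2 := Nat.gcd_dvd_left _ _
    have hrd : ¬ r ∣ d := fun h => hr2 ((Nat.prime_dvd_prime_iff_eq hr.out Nat.prime_two).mp (h.trans hd2))
    have hrq : ¬ r ∣ q := fun h => hrp ((Nat.prime_dvd_prime_iff_eq hr.out hp).mp
      (hr.out.dvd_of_dvd_pow (show r ∣ p ^ (f : ℕ) from by rw [← hqp, ← hqdef]; exact h)))
    obtain ⟨a, ha⟩ := R.isPGroup'.exists_card_eq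
    have hcardP : d * Nat.card PSL = q * (q ^ 2 - 1) := DicksonFull.card_psl
    have hdiv : r ^ a ∣ q ^ 2 - 1 := by
      have : r ^ a ∣ q * (q ^ 2 - 1) := hcardP ▸ Dvd.dvd.mul_left (ha ▸ Subgroup.card_subgroup_dvd_card _) d
      exact (((hr.out.coprime_iff_not_dvd).mpr hrq).pow_left a).dvd_of_dvd_mul_left this
    have hmax : ¬ r ^ (a + 1) ∣ q ^ 2 - 1 := fun h => by
      have h' : r ^ (a + 1) ∣ d * Nat.card PSL := hcardP ▸ Dvd.dvd.mul_left h q
      have h'' := (((hr.out.coprime_iff_not_dvd).mpr hrd).pow_left (a + 1)).dvd_of_dvd_mul_left h'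
      rw [← (R : Subgroup PSL).card_mul_index, ha, pow_succ] at h''
      exact R.not_dvd_index (Nat.dvd_of_mul_dvd_mul_left (pow_pos hr.out.pos a) h'')
    have ha1 : 1 ≤ a := by
      by_contra h0
      apply R.not_dvd_index
      rw [← (R : Subgroup PSL).card_mul_index, ha, show a = 0 by omega, pow_zero, one_mul] at hrG
      exact hrG
    obtain ⟨n, hn, hnd⟩ : ∃ n, (n = (q + 1) / d ∨ n = (q - 1) / d) ∧ r ^ a ∣ n := by
      have hsq : q ^ 2 - 1 = (q + 1) * (q - 1) := by
        have h := Nat.sq_sub_sq q 1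
        rwa [one_pow] at h
      rw [hsq] at hdiv
      have hd' : d ∣ q + 1 ∧ d ∣ q - 1 := ⟨by
        rcases (Nat.dvd_prime Nat.prime_two).mp hd2 with h | h
        · rw [h]; exact one_dvd _
        · have := Nat.gcd_dvd_right 2 (q - 1); rw [← hd, h] at this; rw [h]; omega, Nat.gcd_dvd_right _ _⟩
      have hco : (r ^ a).Coprime d := ((hr.out.coprime_iff_not_dvd).mpr hrd).pow_left a
      by_cases h1 : r ∣ q + 1
      · have h2 : ¬ r ∣ q - 1 := fun h2 => hr2 ((Nat.prime_dvd_prime_iff_eq hr.out Nat.prime_two).mp (by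
          have := Nat.dvd_sub h1 h2
          rwa [show q + 1 - (q - 1) = 2 by omega] at this))
        refine ⟨_, Or.inl rfl, hco.dvd_of_dvd_mul_left ?_⟩
        rw [Nat.mul_div_cancel' hd'.1]
        exact (((hr.out.coprime_iff_not_dvd).mpr h2).pow_left a).dvd_of_dvd_mul_right hdiv
      · refine ⟨_, Or.inr rfl, hco.dvd_of_dvd_mul_left ?_⟩
        rw [Nat.mul_div_cancel' hd'.2]
        exact (((hr.out.coprime_iff_not_dvd).mpr h1).pow_left a).dvd_of_dvd_mul_left hdiv
    have hn0 : n ≠ 0 := by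
      have hd0 : 0 < d := Nat.pos_of_dvd_of_pos hd2 (by norm_num)
      have hd3 : d ≤ 2 := Nat.le_of_dvd (by norm_num) hd2
      have := Nat.div_pos (show d ≤ q - 1 by omega) hd0
      have := Nat.div_pos (show d ≤ q + 1 by omega) hd0
      rcases hn with rfl | rfl <;> omega
    have hn2 : 2 ≤ n := le_trans (le_trans hr.out.two_le (Nat.le_self_pow (by omega) r))
      (Nat.le_of_dvd (Nat.pos_of_ne_zero hn0) hnd)
    obtain ⟨x, -, -, -, -, w, -, -, hx⟩ := DicksonFull.exists_torus (F := F) p hn2 hn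
    set y₀ := x ^ (n / r ^ a) with hy₀
    have hy₀o : orderOf y₀ = r ^ a := by
      rw [hy₀, orderOf_pow' _ (Nat.div_pos (Nat.le_of_dvd (Nat.pos_of_ne_zero hn0) hnd) (pow_pos hr.out.pos a)).ne',
        hx, Nat.gcd_eq_right (Nat.div_dvd_of_dvd hnd), Nat.div_div_self hnd hn0]
    obtain ⟨Q, hQ⟩ := (IsPGroup.of_card (G := Subgroup.zpowers y₀) (n := a)
      (by rw [Nat.card_zpowers, hy₀o])).exists_le_sylow
    obtain ⟨h, hh⟩ := MulAction.exists_smul_eq PSL Q R
    refine false_of_fix_torus p hr.out hr2 hrp ha1 hmax hψe (y := h * y₀ * h⁻¹)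
      (by rw [← MulAut.conj_apply, MulEquiv.orderOf_eq, hy₀o]) (hψfix _ ?_)
    rw [← hh]
    exact ⟨y₀, hQ (Subgroup.mem_zpowers _), rfl⟩
  obtain ⟨g, rfl⟩ := CfsgLib.PSL2.exists_of_fieldPart_eq_one p he1
  by_cases hev : Even q
  · exact diag_inner hev g
  rcases eq_or_ne r 2 with rfl | hr2
  · have h2 : (2 : F) ≠ 0 := Ring.two_ne_zero fun hc => hev (by
      rw [hqdef]
      exact Nat.even_iff.mpr (FiniteField.even_card_of_char_two hc))
    have hmod : q % 8 = 3 ∨ q % 8 = 5 := hq.resolve_left fun h => hev (Nat.even_iff.mpr (by omega))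
    have hd : Nat.gcd 2 (q - 1) = 2 := Nat.gcd_eq_left (by omega)
    have hcard : Nat.card (R : Subgroup PSL) = 4 := by
      have h := DicksonFull.card_psl (F := F)
      rw [← hqdef, hd, ← (R : Subgroup PSL).card_mul_index] at h
      obtain ⟨a, ha⟩ := R.isPGroup'.exists_card_eq
      have hi : Odd (R : Subgroup PSL).index :=
        Nat.not_even_iff_odd.mp fun he => R.not_dvd_index he.two_dvd
      have hsq : q ^ 2 - 1 = 8 * ((q ^ 2 - 1) / 8) ∧ Odd ((q ^ 2 - 1) / 8) := by
        obtain ⟨m, hm⟩ : ∃ m, q = 8 * m + 3 ∨ q = 8 * m + 5 := ⟨q / 8, by omega⟩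
        rcases hm with hm | hm <;> rw [hm]
        · rw [show (8 * m + 3) ^ 2 - 1 = 8 * (2 * (4 * m ^ 2 + 3 * m) + 1) by
            rw [show (8 * m + 3) ^ 2 = 8 * (2 * (4 * m ^ 2 + 3 * m) + 1) + 1 by ring]; omega,
            Nat.mul_div_cancel_left _ (by norm_num : 0 < 8)]
          exact ⟨rfl, ⟨_, rfl⟩⟩
        · rw [show (8 * m + 5) ^ 2 - 1 = 8 * (2 * (4 * m ^ 2 + 5 * m + 1) + 1) by
            rw [show (8 * m + 5) ^ 2 = 8 * (2 * (4 * m ^ 2 + 5 * m + 1) + 1) + 1 by ring]; omega,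
            Nat.mul_div_cancel_left _ (by norm_num : 0 < 8)]
          exact ⟨rfl, ⟨_, rfl⟩⟩
      have hfac := congrArg (fun n : ℕ => n.factorization 2) h
      obtain ⟨hsq1, hsq2⟩ := hsq
      generalize (q ^ 2 - 1) / 8 = M at hsq1 hsq2
      rw [hsq1] at hfac
      rw [Nat.factorization_mul (by norm_num) (mul_ne_zero Nat.card_pos.ne' hi.pos.ne'),
        Nat.factorization_mul Nat.card_pos.ne' hi.pos.ne', Nat.factorization_mul (by omega)
          (mul_ne_zero (by norm_num) hsq2.pos.ne'), Nat.factorization_mul (by norm_num) hsq2.pos.ne'] at hfac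
      have z : ∀ {n : ℕ}, Odd n → n.factorization 2 = 0 := fun hn =>
        Nat.factorization_eq_zero_of_not_dvd fun hd => Nat.not_even_iff_odd.mpr hn (even_iff_two_dvd.mpr hd)
      simp only [Finsupp.coe_add, Pi.add_apply, z hi, z hsq2, z (Nat.not_even_iff_odd.mp hev), ha,
        show (8 : ℕ) = 2 ^ 3 from rfl, Nat.Prime.factorization_pow Nat.prime_two,
        Nat.Prime.factorization_self Nat.prime_two, Finsupp.single_eq_same] at hfac
      rw [ha, show a = 2 by omega]
      norm_num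
    have hexp : ∀ x ∈ (R : Subgroup PSL), x ≠ 1 → orderOf x = 2 := by
      intro x hx hx1
      have hd4 : orderOf x ∣ 2 ^ 2 := by
        rw [show (2 : ℕ) ^ 2 = 4 from rfl, ← hcard]; exact Subgroup.orderOf_dvd_natCard _ hx
      obtain ⟨j, hj, hje⟩ := (Nat.dvd_prime_pow Nat.prime_two).mp hd4
      interval_cases j
      · exact absurd (orderOf_eq_one_iff.mp (by simpa using hje)) hx1
      · simpa using hje
      · exfalso
        have h3 := (PSL2Spectrum.psl_orders (F := F) p 4).mp ⟨x, by simpa using hje⟩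
        rw [← hqdef, hd] at h3
        rcases h3 with h | h | h
        · omega
        · omega
        · rw [← h] at hp; exact absurd hp (by decide)
    obtain ⟨u, huR, hu⟩ : ∃ u ∈ (R : Subgroup PSL), u ≠ 1 :=
      (Subgroup.bot_or_exists_ne_one _).resolve_left fun h => by rw [h, Subgroup.card_bot] at hcard; omega
    obtain ⟨v, hvR, hv⟩ : ∃ v ∈ (R : Subgroup PSL), v ∉ Subgroup.zpowers u := SetLike.not_le_iff_exists.mp fun h => by
      have := Subgroup.card_le_of_le h
      rw [Nat.card_zpowers, hexp u huR hu, hcard] at this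
      omega
    refine diag_inner_of_fix_klein h2 (hexp u huR hu) (hexp v hvR fun e => hv (e ▸ one_mem _))
      (hexp _ (mul_mem huR hvR) fun e => hv ?_) (hfix u huR) (hfix v hvR)
    rw [eq_inv_of_mul_eq_one_right e]
    exact inv_mem (Subgroup.mem_zpowers u)
  · obtain ⟨m, hm⟩ := (hr.out.odd_of_ne_two hr2).pow (n := k)
    have h1 : diagAut g = (diagAut g * diagAut g) ^ (m + 1) := by
      rw [← pow_two, ← pow_mul, show 2 * (m + 1) = orderOf (diagAut g) + 1 by omega, pow_succ, pow_orderOf_eq_one,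
        one_mul]
    rw [h1]
    exact Subgroup.pow_mem _ (sq_inner g) _

end CfsgLib.WalterUse
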