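import Cfsg.Agent.Lib.WalterUse.PiLocal
import Cfsg.Agent.Lib.J1.Order

/-!
The odd prime divisors of the order of `J1` have real elements.
-/

set_option autoImplicit false
set_option linter.unusedSectionVars false
set_option linter.style.haveILetI false

namespace CfsgLib.WalterUse

open Cfsg Cfsg.Spor CfsgLib.J1 CfsgLib.S3Simple.PiHom

local notation "G7" => GL (Fin 7) (ZMod 11)

/-- A word in the two generators. -/
def wordN : List Bool → ℕ
  | [] => oneN
  | c :: l => mulN (bif c then xN else yN) (wordN l)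

theorem exists_word : ∀ l : List Bool, ∃ g : ↥Cfsg.Spor.J1, eN (g : G7) = wordN l
  | [] => ⟨1, eN_one⟩
  | c :: l => by
    obtain ⟨g, hg⟩ := exists_word l
    cases c
    · refine ⟨⟨jankoY, Subgroup.subset_closure (Or.inr rfl)⟩ * g, ?_⟩
      rw [Subgroup.coe_mul, eN_mul, eN_jankoY, hg]; rfl
    · refine ⟨⟨jankoX, Subgroup.subset_closure (Or.inl rfl)⟩ * g, ?_⟩
      rw [Subgroup.coe_mul, eN_mul, eN_jankoX, hg]; rfl

/-- The word of the first involution. -/
def cw : List Bool := [true, false, true, false, true, false, true, false, true, false]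

def inv6 : List Bool := [true, true, true, true, true, true]

def inv4 : List Bool := [false, false, false, false]

theorem pair_checks :
    mulN (wordN cw) (wordN cw) = oneN ∧
    ([(3, [true] ++ cw ++ inv6), (7, [true, true] ++ cw ++ inv6 ++ inv6),
      (11, [false, true] ++ cw ++ inv6 ++ inv4), (5, [false, false] ++ cw ++ inv4 ++ inv4),
      (19, [true, true, true] ++ cw ++ inv6 ++ inv6 ++ inv6)].all fun d =>
      mulN (wordN d.2) (wordN d.2) == oneN &&
        (powN (mulN (wordN cw) (wordN d.2)) d.1 == oneN && mulN (wordN cw) (wordN d.2) != oneN)) = true := by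
  decide +kernel

theorem j1_inverted {p : ℕ} (hp : p = 3 ∨ p = 5 ∨ p = 7 ∨ p = 11 ∨ p = 19) :
    ∃ x g : ↥Cfsg.Spor.J1, orderOf x = p ∧ g * x * g⁻¹ = x⁻¹ := by
  obtain ⟨h1, h2⟩ := pair_checks
  have hp' : p.Prime := by rcases hp with rfl | rfl | rfl | rfl | rfl <;> norm_num
  obtain ⟨w, hw1, hw2, hw3⟩ : ∃ w, mulN (wordN w) (wordN w) = oneN ∧
      powN (mulN (wordN cw) (wordN w)) p = oneN ∧ mulN (wordN cw) (wordN w) ≠ oneN := by
    simp only [List.all_cons, List.all_nil, Bool.and_eq_true, beq_iff_eq, bne_iff_ne, Bool.and_true] at h2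
    rcases hp with rfl | rfl | rfl | rfl | rfl
    exacts [⟨_, h2.1⟩, ⟨_, h2.2.2.2.1⟩, ⟨_, h2.2.1⟩, ⟨_, h2.2.2.1⟩, ⟨_, h2.2.2.2.2⟩]
  obtain ⟨a, ha⟩ := exists_word cw
  obtain ⟨b, hb⟩ := exists_word w
  have inj : ∀ g g' : ↥Cfsg.Spor.J1, eN (g : G7) = eN (g' : G7) → g = g' :=
    fun g g' h => Subtype.ext (eN_injective h)
  have haa : a * a = 1 := inj _ _ (by rw [Subgroup.coe_mul, eN_mul, ha, h1, Subgroup.coe_one, eN_one])
  have hbb : b * b = 1 := inj _ _ (by rw [Subgroup.coe_mul, eN_mul, hb, hw1, Subgroup.coe_one, eN_one])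
  haveI := Fact.mk hp'
  refine ⟨a * b, a, orderOf_eq_prime (inj _ _ ?_) fun e => hw3 ?_, ?_⟩
  · rw [SubmonoidClass.coe_pow, eN_pow, Subgroup.coe_mul, eN_mul, ha, hb, hw2, Subgroup.coe_one, eN_one]
  · rw [← ha, ← hb, ← eN_mul, ← Subgroup.coe_mul, e, Subgroup.coe_one, eN_one]
  · rw [mul_inv_rev, inv_eq_of_mul_eq_one_right haa, inv_eq_of_mul_eq_one_right hbb, ← mul_assoc, haa, one_mul]

universe u

variable {π : Set ℕ}

theorem j1_not_dvd {G : Type u} [Group G] [Finite G] (hJ : Cfsg.Spor.IsoJ1 G) (hπ : ∀ p ∈ π, p.Prime ∧ p ≠ 2)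
    (hL : Loc π G) {p : ℕ} (hp : p ∈ π) : ¬ p ∣ Nat.card G := by
  obtain ⟨e⟩ := hJ
  intro hd
  rw [Nat.card_congr e.toEquiv, card_J1] at hd
  have hpp := (hπ p hp).1
  have hcases : p = 3 ∨ p = 5 ∨ p = 7 ∨ p = 11 ∨ p = 19 := by
    rw [show (175560 : ℕ) = 2 ^ 3 * 3 * 5 * 7 * 11 * 19 by norm_num, hpp.dvd_mul, hpp.dvd_mul, hpp.dvd_mul,
      hpp.dvd_mul, hpp.dvd_mul] at hd
    have hne := (hπ p hp).2
    rcases hd with ((((h | h) | h) | h) | h) | h
    · exact absurd ((Nat.prime_dvd_prime_iff_eq hpp Nat.prime_two).mp (hpp.dvd_of_dvd_pow h)) hne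
    all_goals
      have := (Nat.prime_dvd_prime_iff_eq hpp (by norm_num)).mp h
      omega
  obtain ⟨x, g, hx, hg⟩ := j1_inverted hcases
  haveI := Fact.mk hpp
  exact not_mem_of_inverted hπ hL (x := e.symm x) (g := e.symm g) (by rw [MulEquiv.orderOf_eq, hx])
    (by rw [← map_inv, ← map_mul, ← map_mul, hg, map_inv]) hp

end CfsgLib.WalterUse
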