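import Cfsg.Agent.Lib.WalterUse.RealChars
import Cfsg.Agent.Lib.WalterUse.SimpleCases
import Cfsg.Agent.Lib.WalterUse.J1Local
import Cfsg.Agent.Lib.PSL2Max.Tori
import Cfsg.Agent.S4483

/-!
Galois-fixed characters of simple groups with abelian Sylow 2-subgroups (S4523), from Walter's classification.
-/

set_option autoImplicit false
set_option linter.unusedSectionVars false
set_option linter.style.haveILetI false

namespace CfsgLib.WalterUse

open Cfsg CfsgLib

universe u v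

/-- No element of order four, and a real element with centraliser of odd order. -/
def Facts (G : Type u) [Group G] : Prop :=
  (∀ g : G, ¬ 4 ∣ orderOf g) ∧
    ∃ x g : G, x ≠ 1 ∧ g * x * g⁻¹ = x⁻¹ ∧ Odd (Nat.card (Subgroup.centralizer ({x} : Set G)))

theorem Facts.of_equiv {G : Type u} [Group G] {H : Type v} [Group H] (e : G ≃* H) (h : Facts H) : Facts G := by
  obtain ⟨h4, x, g, hx, hg, ho⟩ := h
  refine ⟨fun a => by rw [← MulEquiv.orderOf_eq e]; exact h4 _, e.symm x, e.symm g,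
    fun he => hx (by rw [← e.apply_symm_apply x, he, map_one]), by rw [← map_inv, ← map_mul, ← map_mul, hg, map_inv], ?_⟩
  have hc : Nat.card (Subgroup.centralizer ({e.symm x} : Set G)) = Nat.card (Subgroup.centralizer ({x} : Set H)) := by
    refine Nat.card_congr (Equiv.subtypeEquiv e.toEquiv fun a => ?_)
    rw [Subgroup.mem_centralizer_singleton_iff, Subgroup.mem_centralizer_singleton_iff]
    constructor
    · intro h
      simpa using congrArg e h
    · intro h
      apply e.injective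
      simpa using h
  rw [hc]
  exact ho

/-- A prime that is prime to the centralisers of the involutions. -/
theorem odd_centralizer {G : Type u} [Group G] [Finite G] {x : G} {p : ℕ} (hx : orderOf x = p)
    (h : ∀ t : G, orderOf t = 2 → ¬ p ∣ Nat.card (Subgroup.centralizer ({t} : Set G))) :
    Odd (Nat.card (Subgroup.centralizer ({x} : Set G))) := by
  haveI : Fact (Nat.Prime 2) := ⟨Nat.prime_two⟩
  rw [← Nat.not_even_iff_odd, even_iff_two_dvd]
  intro hd
  obtain ⟨⟨t, htx⟩, ht⟩ := exists_prime_orderOf_dvd_card' 2 hd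
  rw [← Subgroup.orderOf_coe] at ht
  refine h t ht (hx ▸ Subgroup.orderOf_dvd_natCard _ ?_)
  exact Subgroup.mem_centralizer_singleton_iff.mpr (Subgroup.mem_centralizer_singleton_iff.mp htx).symm

section Linear

variable {F : Type v} [Field F] [Fintype F]

local notation "PSL" => Matrix.ProjectiveSpecialLinearGroup (Fin 2) F

theorem psl_facts (h4 : 4 ≤ Fintype.card F)
    (hq : (∃ a : ℕ, Fintype.card F = 2 ^ a) ∨ Fintype.card F % 8 = 3 ∨ Fintype.card F % 8 = 5) : Facts PSL := by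
  classical
  obtain ⟨c, hcF⟩ := CharP.exists F
  haveI : Fact c.Prime := ⟨CharP.char_is_prime F c⟩
  obtain ⟨n, -, hn⟩ := FiniteField.card F c
  have hcard := DicksonFull.card_psl (F := F)
  have inverted : ∀ l : ℕ, l.Prime → l ∣ Nat.card PSL → l ≠ c →
      (∀ t : PSL, orderOf t = 2 → ¬ l ∣ Nat.card (Subgroup.centralizer ({t} : Set PSL))) →
      ∃ x g : PSL, x ≠ 1 ∧ g * x * g⁻¹ = x⁻¹ ∧ Odd (Nat.card (Subgroup.centralizer ({x} : Set PSL))) := by
    intro l hl hld hlc hcent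
    haveI := Fact.mk hl
    obtain ⟨x, hx⟩ := exists_prime_orderOf_dvd_card' l hld
    have hx1 : x ≠ 1 := fun e => hl.ne_one (by rw [← hx, e, orderOf_one])
    obtain ⟨g, -, hg⟩ := PSL2Max.exists_inverting (x := x) c
      ⟨hx1, fun h => hlc ((Nat.prime_dvd_prime_iff_eq Fact.out hl).mp (hx ▸ h)).symm⟩
    exact ⟨x, g, hx1, hg, odd_centralizer hx hcent⟩
  by_cases hc2 : c = 2
  · -- even `q`
    subst hc2
    refine ⟨fun g h4g => ?_, ?_⟩
    · rcases eq_or_ne g 1 with rfl | hg1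
      · rw [orderOf_one] at h4g; norm_num at h4g
      rcases (DicksonFull.psl (F := F) 2).order_cases g hg1 with ⟨-, h⟩ | h
      · exact h (dvd_trans (by norm_num) h4g)
      · rw [h] at h4g; norm_num at h4g
    obtain ⟨l, hl, hld⟩ := Nat.exists_prime_and_dvd (show Fintype.card F + 1 ≠ 1 by omega)
    have heven : Fintype.card F % 2 = 0 := by
      rw [hn]
      exact Nat.mod_eq_zero_of_dvd (dvd_pow_self 2 n.ne_zero)
    have hl2 : l ≠ 2 := by rintro rfl; omega
    have hg : Nat.gcd 2 (Fintype.card F - 1) = 1 :=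
      Nat.coprime_two_left.mpr (Nat.odd_iff.mpr (by omega))
    refine inverted l hl ?_ hl2 fun t ht h => ?_
    · rw [hg, one_mul] at hcard
      rw [hcard, show Fintype.card F ^ 2 - 1 = (Fintype.card F + 1) * (Fintype.card F - 1) from
        Nat.sq_sub_sq (Fintype.card F) 1 ▸ by rw [one_pow]]
      exact dvd_mul_of_dvd_right (dvd_mul_of_dvd_left hld _) _
    · have hct := DicksonFull.card_cent (F := F) 2 ht
      rw [show (DicksonFull.cent t : Subgroup PSL) = Subgroup.centralizer {t} from rfl] at hct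
      rw [hct, hn] at h
      exact hl2 ((Nat.prime_dvd_prime_iff_eq hl Nat.prime_two).mp (hl.dvd_of_dvd_pow h))
  -- odd `q`
  have hodd : Fintype.card F % 2 = 1 := by
    have hco : Odd c := (Fact.out : c.Prime).odd_of_ne_two hc2
    exact Nat.odd_iff.mp (hn ▸ hco.pow)
  have h8 : Fintype.card F % 8 = 3 ∨ Fintype.card F % 8 = 5 := by
    refine hq.resolve_left fun ⟨a, ha⟩ => ?_
    have : a ≠ 0 := by rintro rfl; omega
    rw [ha, Nat.pow_mod] at hodd
    simp [this] at hodd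
  have hgcd : Nat.gcd 2 (Fintype.card F - 1) = 2 := Nat.gcd_eq_left (by omega)
  have torus : ∀ x : PSL, DicksonFull.SS c x → ∃ k, (2 * k = Fintype.card F + 1 ∨ 2 * k = Fintype.card F - 1) ∧
      orderOf x ∣ k ∧ Nat.card (Subgroup.centralizer ({x} : Set PSL)) ∣ 2 * k := by
    intro x hx
    obtain ⟨k, g, hk, hT, hN, -, -, -, -⟩ := PSL2Max.torus_data c h4 hx
    rw [hgcd] at hk
    refine ⟨k, hk, hT ▸ Subgroup.orderOf_dvd_natCard _ ((DicksonFull.psl (F := F) c).mem_T x hx), hN ▸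
      Subgroup.card_dvd_of_le fun y hy => ?_⟩
    refine DicksonFull.mem_norm hx ?_
    rw [Subgroup.mem_centralizer_singleton_iff.mp hy, mul_inv_cancel_right]
    exact (DicksonFull.psl (F := F) c).mem_T x hx
  have hss : ∀ x : PSL, 2 ∣ orderOf x → DicksonFull.SS c x := by
    intro x h2
    rcases (DicksonFull.psl (F := F) c).order_cases x (fun e => by
      rw [e, orderOf_one] at h2; norm_num at h2) with h | h
    · exact h
    · exact absurd ((Nat.prime_dvd_prime_iff_eq Nat.prime_two Fact.out).mp (h ▸ h2)).symm hc2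
  refine ⟨fun g h4g => ?_, ?_⟩
  · obtain ⟨k, hk, hdk, -⟩ := torus g (hss g (dvd_trans (by norm_num) h4g))
    have := h4g.trans hdk
    omega
  -- the odd torus
  obtain ⟨z, hz, hz1⟩ : ∃ z : ℕ, ((Fintype.card F % 8 = 3 ∧ 2 * z = Fintype.card F - 1) ∨
      (Fintype.card F % 8 = 5 ∧ 2 * z = Fintype.card F + 1)) ∧ z ≠ 1 := by
    rcases h8 with h | h
    · exact ⟨(Fintype.card F - 1) / 2, Or.inl ⟨h, by omega⟩, by omega⟩
    · exact ⟨(Fintype.card F + 1) / 2, Or.inr ⟨h, by omega⟩, by omega⟩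
  obtain ⟨l, hl, hlz⟩ := Nat.exists_prime_and_dvd hz1
  have hl2 : l ≠ 2 := by rintro rfl; omega
  have hl3 : 3 ≤ l := by have := hl.two_le; omega
  have hl2z : l ∣ 2 * z := dvd_mul_of_dvd_right hlz 2
  refine inverted l hl ?_ ?_ fun t ht h => ?_
  · have h2 : l ∣ 2 * Nat.card PSL := by
      rw [hgcd] at hcard
      rw [hcard, show Fintype.card F ^ 2 - 1 = (Fintype.card F + 1) * (Fintype.card F - 1) from
        Nat.sq_sub_sq (Fintype.card F) 1 ▸ by rw [one_pow]]
      refine dvd_mul_of_dvd_right ?_ _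
      rcases hz with ⟨-, e⟩ | ⟨-, e⟩ <;> rw [e] at hl2z
      exacts [dvd_mul_of_dvd_right hl2z _, dvd_mul_of_dvd_left hl2z _]
    exact (hl.dvd_mul.mp h2).resolve_left fun h => hl2 ((Nat.prime_dvd_prime_iff_eq hl Nat.prime_two).mp h)
  · intro e
    have h1 : l ∣ Fintype.card F := e ▸ hn ▸ dvd_pow_self c n.ne_zero
    rcases hz with ⟨-, he⟩ | ⟨-, he⟩ <;> rw [he] at hl2z
    · have := Nat.dvd_sub h1 hl2z
      rw [show Fintype.card F - (Fintype.card F - 1) = 1 by omega, Nat.dvd_one] at this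
      exact hl.ne_one this
    · have := Nat.dvd_sub hl2z h1
      rw [show Fintype.card F + 1 - Fintype.card F = 1 by omega, Nat.dvd_one] at this
      exact hl.ne_one this
  · obtain ⟨k, hk, hdk, hck⟩ := torus t (hss t (dvd_of_eq ht.symm))
    rw [ht] at hdk
    have h2k := h.trans hck
    obtain ⟨k', rfl⟩ := hdk
    have hd : l ∣ 2 := by
      rcases hz with ⟨h', e⟩ | ⟨h', e⟩
      · have hk' : 2 * (2 * k') = Fintype.card F + 1 := by omega
        have := Nat.dvd_sub h2k hl2z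
        rwa [show 2 * (2 * k') - 2 * z = 2 by omega] at this
      · have hk' : 2 * (2 * k') = Fintype.card F - 1 := by omega
        have := Nat.dvd_sub hl2z h2k
        rwa [show 2 * z - 2 * (2 * k') = 2 by omega] at this
    exact hl2 ((Nat.prime_dvd_prime_iff_eq hl Nat.prime_two).mp hd)

end Linear

theorem ree_facts {G : Type u} [Group G] [Fintype G] (h : ReeCase G) : Facts G := by
  classical
  obtain ⟨F, _, _, _, C, -, R⟩ := h
  haveI : Fact (Nat.Prime 2) := ⟨Nat.prime_two⟩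
  refine ⟨fun g hg => ?_, ?_⟩
  · set y := g ^ (orderOf g / 4)
    have hy : orderOf y = 4 := orderOf_pow_orderOf_div (orderOf_pos g).ne' hg
    have hy2 : orderOf (y ^ 2) = 2 := by rw [orderOf_pow' y two_ne_zero, hy]; norm_num
    obtain ⟨a, ha⟩ := C.all_conj _ hy2
    set w := a⁻¹ * y * a with hw
    have hw2 : w * w = C.t := by
      rw [hw, show a⁻¹ * y * a * (a⁻¹ * y * a) = a⁻¹ * y ^ 2 * a by rw [pow_two]; group, ← ha]
      group
    obtain ⟨l, hl⟩ := C.cent w (by rw [← hw2]; exact (Commute.refl w).mul_right (Commute.refl w))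
    refine C.t_not (l * l) ?_
    rw [map_mul, ← hw2]
    rcases hl with hl | hl <;> rw [hl]
    rw [show C.t * C.E l * (C.t * C.E l) = C.t * (C.E l * C.t) * C.E l by group, ← (C.E_comm l).eq,
      ← mul_assoc, C.t_sq, one_mul]
  have hW : reeW C ≠ 1 := by
    have := R.seven_q
    intro h
    rw [reeW] at h
    have : C.D.q * (C.D.q - 1) = 0 := by omega
    rcases mul_eq_zero.mp this with h' | h' <;> omega
  obtain ⟨p, hp, hpW⟩ := Nat.exists_prime_and_dvd hW
  haveI := Fact.mk hp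
  obtain ⟨x, hx⟩ := exists_prime_orderOf_dvd_card' (G := G) p (by rw [card_factor R]; exact dvd_mul_of_dvd_right hpW _)
  obtain ⟨g, -, hg⟩ := inverted_of_dvd_reeW R hp hpW hx
  refine ⟨x, g, fun e => hp.ne_one (by rw [← hx, e, orderOf_one]), hg, odd_centralizer hx fun t ht hd => ?_⟩
  obtain ⟨hp3, hpq, hpq1, hpq2⟩ := not_dvd_of_dvd_reeW R hp hpW
  have hp2 : p ≠ 2 := by
    rintro rfl
    obtain ⟨m, -, hm⟩ := R.pow
    have : Odd C.D.q := hm ▸ (by decide : Odd 3).pow
    obtain ⟨i, hi⟩ := this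
    exact hpq2 ⟨i, by omega⟩
  obtain ⟨⟨y, hy⟩, hyo⟩ := exists_prime_orderOf_dvd_card' p hd
  rw [← Subgroup.orderOf_coe] at hyo
  obtain ⟨a, rfl⟩ := C.all_conj t ht
  have hcomm : Commute (a⁻¹ * y * a) C.t := by
    have h : y * (a * C.t * a⁻¹) = a * C.t * a⁻¹ * y := Subgroup.mem_centralizer_singleton_iff.mp hy
    calc a⁻¹ * y * a * C.t = a⁻¹ * (y * (a * C.t * a⁻¹)) * a := by group
      _ = a⁻¹ * (a * C.t * a⁻¹ * y) * a := by rw [h]
      _ = C.t * (a⁻¹ * y * a) := by group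
  have ho : orderOf (a⁻¹ * y * a) = p := by
    rw [show a⁻¹ * y * a = MulAut.conj a⁻¹ y by simp, MulEquiv.orderOf_eq, hyo]
  obtain ⟨l, hl⟩ := odd_mem_E (C := C) hcomm (ho ▸ hp.odd_of_ne_two hp2)
  have hdvd : p ∣ Nat.card (Matrix.ProjectiveSpecialLinearGroup (Fin 2) F) := by
    rw [← ho, hl, orderOf_injective C.E C.E_inj]
    exact orderOf_dvd_natCard l
  have h2 : (p : ℤ) ∣ (C.D.q : ℤ) * ((C.D.q : ℤ) ^ 2 - 1) := by
    rw [← C.D.card]
    exact dvd_mul_of_dvd_right (Int.natCast_dvd_natCast.mpr hdvd) 2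
  have hp' := Nat.prime_iff_prime_int.mp hp
  have h1 : 1 ≤ C.D.q := by have := R.seven_q; omega
  rw [show (C.D.q : ℤ) ^ 2 - 1 = ((C.D.q + 1 : ℕ) : ℤ) * ((C.D.q - 1 : ℕ) : ℤ) by
    push_cast [Nat.cast_sub h1]; ring] at h2
  rcases hp'.dvd_mul.mp h2 with e | e
  · exact hpq (Int.natCast_dvd_natCast.mp e)
  rcases hp'.dvd_mul.mp e with e | e
  exacts [hpq1 (Int.natCast_dvd_natCast.mp e), hpq2 (Int.natCast_dvd_natCast.mp e)]

theorem j1_facts : Facts ↥Cfsg.Spor.J1 := by
  refine ⟨fun g hg => ?_, ?_⟩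
  · obtain ⟨e, he, hpow⟩ := J1.exists_exponent g.2
    have h4 : ∀ e ∈ J1.expo, ¬ 4 ∣ e := by decide
    refine h4 e he (hg.trans (orderOf_dvd_of_pow_eq_one (Subtype.ext ?_)))
    rw [Subgroup.coe_pow]; exact hpow
  obtain ⟨x, g, hx, hg⟩ := j1_inverted (p := 19) (by norm_num)
  haveI : Finite ↥Cfsg.Spor.J1 := Nat.finite_of_card_ne_zero (by rw [J1.card_J1]; norm_num)
  refine ⟨x, g, fun e => by rw [e, orderOf_one] at hx; norm_num at hx, hg, odd_centralizer hx fun t ht hd => ?_⟩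
  haveI : Fact (Nat.Prime 19) := ⟨by norm_num⟩
  obtain ⟨⟨y, hy⟩, hyo⟩ := exists_prime_orderOf_dvd_card' 19 hd
  rw [← Subgroup.orderOf_coe] at hyo
  exact J1.not_commute (p := 19) (q := 2) (by norm_num) (by decide) hyo ht
    (Subgroup.mem_centralizer_singleton_iff.mp hy)

/-- S4523. -/
theorem galois_of (hO : OrderClass.{u}) (hW : ∀ (X : Type u) [Group X] [Finite X], Walter.P X)
    {S : Type u} [Group S] [Finite S] [IsSimpleGroup S] (hna : ¬ IsMulCommutative S) (P : Sylow 2 S)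
    (hP : IsMulCommutative P) (M : Ideal Cfsg.AlgInt) (hM : Cfsg.IsPModular 2 M) (k : ℕ)
    (hk₁ : ∀ g : S, (∃ j : ℕ, orderOf g = 2 ^ j) → g ^ k = g) (hk₂ : ∀ g : S, Odd (orderOf g) → g ^ k = g⁻¹) :
    (∃ χ₁ : Cfsg.IrrCharacter S, Even (Cfsg.charDegree (χ₁ : S → ℂ)) ∧
        ∀ g : S, (χ₁ : S → ℂ) (g ^ k) = (χ₁ : S → ℂ) g) ∧
      ∃ χ₂ ∈ Cfsg.principalBlock M S, (χ₂ : S → ℂ) ≠ (fun _ => 1) ∧
        ∀ g : S, (χ₂ : S → ℂ) (g ^ k) = (χ₂ : S → ℂ) g := by
  classical
  letI := Fintype.ofFinite S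
  obtain ⟨h4, x, g₀, hx, hg₀, hodd⟩ : Facts S := by
    cases abKind hO hW hna P hP with
    | psl F h4 hq e => exact (psl_facts h4 hq).of_equiv e
    | ree h => exact ree_facts h
    | janko h =>
      obtain ⟨e⟩ := h
      exact j1_facts.of_equiv e
  have hinv : ∀ g : S, g ^ k = g⁻¹ := by
    intro g
    rcases Nat.even_or_odd (orderOf g) with he | ho
    swap
    · exact hk₂ g ho
    obtain ⟨m, hm⟩ := even_iff_two_dvd.mp he
    have hmo : Odd m := Nat.not_even_iff_odd.mp fun hme => h4 g (by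
      obtain ⟨i, rfl⟩ := even_iff_two_dvd.mp hme
      exact ⟨i, by omega⟩)
    set a := g ^ m
    set b := g ^ (m + 1)
    have ha : a ^ 2 = 1 := by rw [← pow_mul, mul_comm, ← hm, pow_orderOf_eq_one]
    have hb : b ^ m = 1 := by
      obtain ⟨i, hi⟩ := hmo
      rw [← pow_mul, show (m + 1) * m = orderOf g * (i + 1) by rw [hm, hi]; ring, pow_mul, pow_orderOf_eq_one, one_pow]
    have hab : a * b = g := by
      rw [← pow_add, show m + (m + 1) = orderOf g + 1 by omega, pow_succ, pow_orderOf_eq_one, one_mul]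
    have hc : Commute a b := (Commute.refl g).pow_pow _ _
    obtain ⟨i, -, hi⟩ := (Nat.dvd_prime_pow Nat.prime_two (m := 1)).mp
      (show orderOf a ∣ 2 ^ 1 from orderOf_dvd_of_pow_eq_one ha)
    rw [← hab, hc.mul_pow, hk₁ a ⟨i, hi⟩, hk₂ b (hmo.of_dvd_nat (orderOf_dvd_of_pow_eq_one hb)),
      mul_inv_rev, show a⁻¹ = a from inv_eq_of_mul_eq_one_right (pow_two a ▸ ha)]
    exact hc.inv_right.eq
  have hfix : ∀ χ : IrrCharacter S, (∀ g : S, ((χ : S → ℂ) g).im = 0) →
      ∀ g : S, (χ : S → ℂ) (g ^ k) = (χ : S → ℂ) g := fun χ h g => by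
    rw [hinv, Blocks.irr_inv]
    exact Complex.conj_eq_iff_im.mpr (h g)
  refine ⟨?_, ?_⟩
  · obtain ⟨χ, h1, h2⟩ := exists_real_even hM hx hg₀ hodd
    exact ⟨χ, h2, hfix χ h1⟩
  · have heven : Even (Nat.card S) := by
      have hne : g₀ ^ 2 * x * (g₀ ^ 2)⁻¹ = x := by
        rw [pow_two, mul_inv_rev, show g₀ * g₀ * x * (g₀⁻¹ * g₀⁻¹) = g₀ * (g₀ * x * g₀⁻¹) * g₀⁻¹ by group, hg₀,
          ← conj_inv, hg₀, inv_inv]
      rw [even_iff_two_dvd]
      by_contra hodd2
      have hoddS : Odd (Nat.card S) := Nat.not_even_iff_odd.mp fun h => hodd2 h.two_dvd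
      obtain ⟨i, hi⟩ := hoddS.of_dvd_nat (orderOf_dvd_natCard g₀)
      have hg1 : (g₀ ^ 2) ^ (i + 1) = g₀ := by
        rw [← pow_mul, show 2 * (i + 1) = orderOf g₀ + 1 by omega, pow_succ, pow_orderOf_eq_one, one_mul]
      have hcomm : Commute g₀ x := hg1 ▸ (show Commute (g₀ ^ 2) x from mul_inv_eq_iff_eq_mul.mp hne).pow_left _
      rw [hcomm.eq, mul_inv_cancel_right] at hg₀
      have h2 : orderOf x ∣ 2 := orderOf_dvd_of_pow_eq_one (by rw [pow_two]; nth_rw 2 [hg₀]; exact mul_inv_cancel x)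
      have := hoddS.of_dvd_nat (orderOf_dvd_natCard x)
      rcases (Nat.dvd_prime Nat.prime_two).mp h2 with h | h
      · exact hx (orderOf_eq_one_iff.mp h)
      · rw [h] at this; norm_num at this
    obtain ⟨χ, h1, h2, h3⟩ := exists_real_odd heven
    exact ⟨χ, (Cfsg.Agent.S4483.result M hM).1 χ h1 h2, h3, hfix χ h1⟩

end CfsgLib.WalterUse
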