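import Cfsg.Agent.Lib.WalterUse.PiInduction
import Cfsg.Agent.Lib.WalterUse.J1Local
import Cfsg.Agent.Lib.WalterUse.SimpleCases

/-!
π-homogeneous groups with dihedral or abelian Sylow 2-subgroups (S4047), from Walter's classification.
-/

set_option autoImplicit false
set_option linter.unusedSectionVars false
set_option linter.style.haveILetI false

namespace CfsgLib.WalterUse

open Cfsg CfsgLib.S3Simple.PiHom Equiv

universe u

variable {π : Set ℕ}

theorem a7_not_dvd {G : Type u} [Group G] [Finite G] (e : G ≃* alternatingGroup (Fin 7))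
    (hπ : ∀ p ∈ π, p.Prime ∧ p ≠ 2) (hL0 : Loc π G) {p : ℕ} (hp : p ∈ π) : ¬ p ∣ Nat.card G := by
  have hL : Loc π (alternatingGroup (Fin 7)) := loc_of_injective hL0 e.symm.toMonoidHom e.symm.injective
  haveI : Fact (Nat.Prime 3) := ⟨Nat.prime_three⟩
  haveI : Fact (Nat.Prime 5) := ⟨by norm_num⟩
  haveI : Fact (Nat.Prime 7) := ⟨by norm_num⟩
  have h3 : 3 ∉ π := by
    refine not_mem_of_inverted hπ hL
      (x := ⟨swap (0 : Fin 7) 1 * swap 1 2, Perm.mem_alternatingGroup.mpr (by decide +kernel)⟩)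
      (g := ⟨swap (0 : Fin 7) 1 * swap 3 4, Perm.mem_alternatingGroup.mpr (by decide +kernel)⟩)
      (orderOf_eq_prime (Subtype.ext (by decide +kernel)) fun h => ?_) (Subtype.ext (by decide +kernel))
    exact absurd (congrArg (fun s : alternatingGroup (Fin 7) => (s : Perm (Fin 7)) 0) h) (by decide +kernel)
  have h5 : 5 ∉ π := by
    refine not_mem_of_inverted hπ hL
      (x := ⟨swap (0 : Fin 7) 1 * swap 1 2 * swap 2 3 * swap 3 4, Perm.mem_alternatingGroup.mpr (by decide +kernel)⟩)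
      (g := ⟨swap (1 : Fin 7) 4 * swap 2 3, Perm.mem_alternatingGroup.mpr (by decide +kernel)⟩)
      (orderOf_eq_prime (Subtype.ext (by decide +kernel)) fun h => ?_) (Subtype.ext (by decide +kernel))
    exact absurd (congrArg (fun s : alternatingGroup (Fin 7) => (s : Perm (Fin 7)) 0) h) (by decide +kernel)
  have h7 : 7 ∉ π := by
    intro h7
    set x : alternatingGroup (Fin 7) :=
      ⟨swap (0 : Fin 7) 1 * swap 1 2 * swap 2 3 * swap 3 4 * swap 4 5 * swap 5 6, Perm.mem_alternatingGroup.mpr (by decide +kernel)⟩ with hx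
    set g : alternatingGroup (Fin 7) :=
      ⟨swap (1 : Fin 7) 2 * swap 2 4 * (swap 3 6 * swap 6 5), Perm.mem_alternatingGroup.mpr (by decide +kernel)⟩ with hg
    have hx7 : orderOf x = 7 := orderOf_eq_prime (Subtype.ext (by decide +kernel)) fun h =>
      absurd (congrArg (fun s : alternatingGroup (Fin 7) => (s : Perm (Fin 7)) 0) h) (by decide +kernel)
    have hconj : g * x * g⁻¹ = x ^ 2 := Subtype.ext (by decide +kernel)
    have hn : g ∈ Subgroup.normalizer ((Subgroup.zpowers x : Subgroup (alternatingGroup (Fin 7))) : Set _) := by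
      refine CfsgLib.Comp.mem_normalizer_of_maps fun w hw => ?_
      obtain ⟨j, rfl⟩ := Subgroup.mem_zpowers_iff.mp hw
      rw [← conj_zpow, hconj]
      exact zpow_mem (pow_mem (Subgroup.mem_zpowers x) 2) j
    have hc := hL 7 h7 (Subgroup.zpowers x) (IsPGroup.of_card (n := 1) (by rw [Nat.card_zpowers, hx7, pow_one]))
      3 Nat.prime_three h3 g hn ⟨1, Subtype.ext (by decide +kernel)⟩ x (Subgroup.mem_zpowers x)
    rw [← hc, mul_inv_cancel_right, pow_two, left_eq_mul] at hconj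
    rw [hconj, orderOf_one] at hx7
    norm_num at hx7
  intro hd
  rw [Nat.card_congr e.toEquiv, nat_card_alternatingGroup, Nat.card_fin,
    show Nat.factorial 7 / 2 = 2 ^ 3 * 3 ^ 2 * 5 * 7 by rfl] at hd
  have hpp := (hπ p hp).1
  rw [hpp.dvd_mul, hpp.dvd_mul, hpp.dvd_mul] at hd
  rcases hd with ((h | h) | h) | h
  · exact (hπ p hp).2 ((Nat.prime_dvd_prime_iff_eq hpp Nat.prime_two).mp (hpp.dvd_of_dvd_pow h))
  · exact h3 ((Nat.prime_dvd_prime_iff_eq hpp Nat.prime_three).mp (hpp.dvd_of_dvd_pow h) ▸ hp)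
  · exact h5 ((Nat.prime_dvd_prime_iff_eq hpp (by norm_num)).mp h ▸ hp)
  · exact h7 ((Nat.prime_dvd_prime_iff_eq hpp (by norm_num)).mp h ▸ hp)

theorem ree_not_dvd {G : Type u} [Group G] [Fintype G] (h : ReeCase G) (hπ : ∀ p ∈ π, p.Prime ∧ p ≠ 2)
    (hL : Loc π G) {p : ℕ} (hp : p ∈ π) : ¬ p ∣ Nat.card G := by
  obtain ⟨F, _, _, _, C, hqF, R⟩ := h
  intro hd
  have hpp := (hπ p hp).1
  haveI := Fact.mk hpp
  by_cases hW : p ∣ reeW C
  · obtain ⟨x, hx⟩ := exists_prime_orderOf_dvd_card' p hd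
    obtain ⟨g, -, hg⟩ := inverted_of_dvd_reeW R hpp hW hx
    exact not_mem_of_inverted hπ hL hx hg hp
  refine not_dvd_psl_of_injective (by rw [← hqF]; have := R.seven_q; omega) hπ hL C.E C.E_inj hp ?_
  rw [card_factor R, hpp.dvd_mul, hpp.dvd_mul, hpp.dvd_mul] at hd
  have hcard := C.D.card
  set q := C.D.q
  have hq := R.seven_q
  have h2 : p ∣ 2 * Nat.card (Matrix.ProjectiveSpecialLinearGroup (Fin 2) F) := by
    have e : 2 * Nat.card (Matrix.ProjectiveSpecialLinearGroup (Fin 2) F) = q * (q + 1) * (q - 1) := by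
      have h1 : 1 ≤ q := by omega
      zify [h1]
      rw [hcard]; ring
    rw [e, hpp.dvd_mul, hpp.dvd_mul]
    rcases hd with ((h | h) | h) | h
    exacts [Or.inl (Or.inl (hpp.dvd_of_dvd_pow h)), Or.inl (Or.inr h), Or.inr h, absurd h hW]
  exact ((Nat.Prime.dvd_mul hpp).mp h2).resolve_left fun h =>
    (hπ p hp).2 ((Nat.prime_dvd_prime_iff_eq hpp Nat.prime_two).mp h)

/-- The simple groups of the class. -/
theorem simple_not_dvd (hO : OrderClass.{u}) (hP : ∀ (X : Type u) [Group X] [Finite X], Walter.P X)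
    (hπ : ∀ p ∈ π, p.Prime ∧ p ≠ 2) (G : Type u) [Group G] [Finite G] (hs : IsSimpleGroup G)
    (hG : ¬ IsMulCommutative G) (hQ : DihAb G) (hL : Loc π G) (p : ℕ) (hp : p ∈ π) : ¬ p ∣ Nat.card G := by
  classical
  haveI := hs
  letI := Fintype.ofFinite G
  obtain ⟨S⟩ : Nonempty (Sylow 2 G) := inferInstance
  have habel : IsMulCommutative (S : Subgroup G) → ¬ p ∣ Nat.card G := by
    intro hS
    cases abKind hO hP hG S hS with
    | psl F h4 hq e =>
      rw [Nat.card_congr e.toEquiv]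
      exact psl_not_dvd h4 hπ (loc_of_injective hL e.symm.toMonoidHom e.symm.injective) hp
    | ree h => exact ree_not_dvd h hπ hL hp
    | janko h => exact j1_not_dvd h hπ hL hp
  rcases hQ S with hab | ⟨n, ⟨e⟩⟩
  · exact habel hab
  by_cases hn : 2 ≤ n
  · rcases dihedralKind hG S hn e with ⟨F, _, _, -, h3, ⟨f⟩⟩ | ⟨⟨f⟩⟩
    · rw [Nat.card_congr f.toEquiv]
      exact psl_not_dvd h3 hπ (loc_of_injective hL f.symm.toMonoidHom f.symm.injective) hp
    · exact a7_not_dvd f hπ hL hp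
  · refine habel ⟨⟨fun a b => e.injective ?_⟩⟩
    interval_cases n
    · exact absurd (Finite.of_equiv _ e.toEquiv) (not_finite_iff_infinite.mpr inferInstance)
    · rw [map_mul, map_mul]
      exact (by decide : ∀ a b : DihedralGroup 1, a * b = b * a) _ _

/-- S4047. -/
theorem piClosed_of (hO : OrderClass.{u}) (hP : ∀ (X : Type u) [Group X] [Finite X], Walter.P X)
    {G : Type u} [Group G] [Finite G] (π : Set ℕ) (hodd : ∀ p ∈ π, p.Prime ∧ p ≠ 2)
    (h2 : ∀ S : Sylow 2 G, IsMulCommutative S ∨ ∃ n : ℕ, Nonempty ((S : Subgroup G) ≃* DihedralGroup n))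
    (hhom : ∀ H : Subgroup G, H ≠ ⊥ → (∀ p : ℕ, p.Prime → p ∣ Nat.card ↥H → p ∈ π) →
      ∀ p : ℕ, p.Prime → p ∣ (Subgroup.centralizer (H : Set G)).relIndex (Subgroup.normalizer (H : Set G)) → p ∈ π) :
    ∃ K : Subgroup G, ∀ x : G, x ∈ K ↔ ∀ p : ℕ, p.Prime → p ∣ orderOf x → p ∉ π :=
  exists_subgroup_of_simple (fun X [Group X] => DihAb X) (fun _ _ _ H h => DihAb.subgroup H h)
    (fun _ _ _ N _ h => DihAb.quotient N h)
    (fun X _ _ hs hG hQ hL => simple_not_dvd hO hP hodd X hs hG hQ hL) _ G rfl hodd h2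
    (loc_of_hom (fun p hp => (hodd p hp).1) hhom)

end CfsgLib.WalterUse
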