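import Cfsg.Agent.Lib.WalterUse.PiLocal

/-!
The induction of `S3Simple.PiHomogeneous` for an arbitrary hereditary class.
-/

set_option autoImplicit false
set_option linter.unusedSectionVars false
set_option linter.style.haveILetI false

namespace CfsgLib.WalterUse

open Cfsg CfsgLib.S3Simple.PiHom

universe u

/-- Local π-homogeneity gives closure, once it does for the simple groups of a hereditary class. -/
theorem exists_subgroup_of_simple {π : Set ℕ} (Q : ∀ (G : Type u) [Group G], Prop)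
    (qsub : ∀ (G : Type u) [Group G] [Finite G] (H : Subgroup G), Q G → Q H)
    (qquot : ∀ (G : Type u) [Group G] [Finite G] (N : Subgroup G) [N.Normal], Q G → Q (G ⧸ N))
    (hsimple : ∀ (G : Type u) [Group G] [Finite G], IsSimpleGroup G → ¬ IsMulCommutative G → Q G → Loc π G →
      ∀ p ∈ π, ¬ p ∣ Nat.card G) :
    ∀ (n : ℕ) (G : Type u) [Group G] [Finite G], Nat.card G = n → (∀ p ∈ π, p.Prime ∧ p ≠ 2) →
      Q G → Loc π G → ∃ K : Subgroup G, ∀ x : G, x ∈ K ↔ Out' π x := by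
  intro n
  induction n using Nat.strong_induction_on with
  | _ n ih =>
  intro G _ _ hn hπ hQ hL
  have hπ' : ∀ p ∈ π, p.Prime := fun p hp => (hπ p hp).1
  have hone : Out' π (1 : G) := fun p hp hd => absurd (Nat.dvd_one.mp (orderOf_one (G := G) ▸ hd)) hp.ne_one
  rcases subsingleton_or_nontrivial G with hsub | hnt
  · exact ⟨⊤, fun x => by rw [Subsingleton.elim x 1]; exact iff_of_true (Subgroup.mem_top _) hone⟩
  have hlt : ∀ H : Subgroup G, H ≠ ⊤ → Nat.card H < n := fun H hH =>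
    hn ▸ lt_of_le_of_ne (Subgroup.card_le_card_group H) fun e => hH (Subgroup.eq_top_of_card_eq H e)
  by_cases hs : IsSimpleGroup G
  · by_cases hcm : IsMulCommutative G
    · haveI := hcm
      have hp := Group.is_simple_iff_prime_card.mp hs
      by_cases hpπ : Nat.card G ∈ π
      · refine ⟨⊥, fun x => ⟨fun hx => by rw [Subgroup.mem_bot.mp hx]; exact hone, fun hx => ?_⟩⟩
        rw [Subgroup.mem_bot]
        by_contra hne
        have hox : orderOf x = Nat.card G := ((Nat.dvd_prime hp).mp (orderOf_dvd_natCard x)).resolve_left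
          fun e => hne (orderOf_eq_one_iff.mp e)
        exact hx _ hp (dvd_of_eq hox.symm) hpπ
      · refine ⟨⊤, fun x => iff_of_true (Subgroup.mem_top x) fun p hp' hd h => hpπ ?_⟩
        rwa [← (Nat.prime_dvd_prime_iff_eq hp' hp).mp (hd.trans (orderOf_dvd_natCard x))]
    · exact ⟨⊤, fun x => iff_of_true (Subgroup.mem_top x) fun p hp hd h =>
        hsimple G hs hcm hQ hL p h (hd.trans (orderOf_dvd_natCard x))⟩
  obtain ⟨N₀, hN₀, hb₀, ht₀⟩ : ∃ N : Subgroup G, N.Normal ∧ N ≠ ⊥ ∧ N ≠ ⊤ := by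
    by_contra hcon
    push Not at hcon
    exact hs { eq_bot_or_eq_top_of_normal := fun H hH => or_iff_not_imp_left.mpr (hcon H hH) }
  obtain ⟨N, hNle, ⟨hNn, hNb⟩, hmin⟩ :=
    (Set.toFinite {N : Subgroup G | N.Normal ∧ N ≠ ⊥}).exists_le_minimal ⟨hN₀, hb₀⟩
  haveI := hNn
  have hNt : N ≠ ⊤ := fun e => ht₀ (top_le_iff.mp (e ▸ hNle))
  obtain ⟨KN, hKN⟩ := ih _ (hlt N hNt) N rfl hπ (qsub G N hQ)
    (hL.subgroup N)
  obtain ⟨Kb, hKb⟩ := ih _ (hn ▸ lt_of_le_of_ne (Nat.card_le_card_of_surjective _ (QuotientGroup.mk'_surjective N))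
    (fun e => hNb (Subgroup.card_eq_one.mp (by
      have h := Subgroup.card_eq_card_quotient_mul_card_subgroup N
      rw [e] at h
      exact (mul_eq_left₀ Nat.card_pos.ne').mp h.symm)))) (G ⧸ N) rfl hπ
    (qquot G N hQ) (hL.quotient hπ' N)
  have hin : ∀ x : G, Out' π x → x ∈ Kb.comap (QuotientGroup.mk' N) := fun x hx => (hKb _).mpr (hx.map _)
  haveI hM : (KN.map N.subtype).Normal := by
    refine ⟨fun y hy g => ?_⟩
    obtain ⟨⟨a, ha⟩, haK, rfl⟩ := hy
    refine ⟨⟨g * a * g⁻¹, hNn.conj_mem a ha g⟩, (hKN _).mpr fun p hp hd => (hKN _).mp haK p hp ?_, rfl⟩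
    rw [← Subgroup.orderOf_coe] at hd ⊢
    exact (MulEquiv.orderOf_eq (MulAut.conj g) a) ▸ hd
  by_cases hKNb : KN.map N.subtype = ⊥
  swap
  · -- `N` has order prime to `π`
    have hall : ∀ q : ℕ, q.Prime → q ∣ Nat.card N → q ∉ π := fun q hq hd => by
      haveI : Fact q.Prime := ⟨hq⟩
      obtain ⟨a, ha⟩ := exists_prime_orderOf_dvd_card' q hd
      have hNK : N ≤ KN.map N.subtype := hmin ⟨hM, hKNb⟩ (Subgroup.map_subtype_le KN)
      obtain ⟨b, hb, hbe⟩ := hNK a.2
      rw [Subtype.ext hbe] at hb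
      exact (hKN a).mp hb q hq (dvd_of_eq ha.symm)
    refine ⟨Kb.comap (QuotientGroup.mk' N), fun x => ⟨fun hx => ?_, hin x⟩⟩
    refine out'_mul_dvd (a := orderOf (QuotientGroup.mk' N x)) (b := Nat.card N) ?_ ((hKb _).mp hx) hall
    refine orderOf_dvd_of_pow_eq_one ?_
    rw [pow_mul]
    exact congrArg Subtype.val (pow_card_eq_one' (x := (⟨x ^ orderOf (QuotientGroup.mk' N x),
      (QuotientGroup.eq_one_iff _).mp (by
        rw [QuotientGroup.mk_pow]; exact pow_orderOf_eq_one _)⟩ : N)))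
  -- `N` is a `π`-group
  have hNπ : ∀ q : ℕ, q.Prime → q ∣ Nat.card N → q ∈ π := fun q hq hd => by
    by_contra hqπ
    haveI : Fact q.Prime := ⟨hq⟩
    obtain ⟨a, ha⟩ := exists_prime_orderOf_dvd_card' q hd
    have haK : a ∈ KN := (hKN a).mpr fun p hp hpd h => hqπ (by
      rw [ha] at hpd; rwa [← (Nat.prime_dvd_prime_iff_eq hp hq).mp hpd])
    rw [Subgroup.map_eq_bot_iff_of_injective _ N.subtype_injective] at hKNb
    rw [hKNb, Subgroup.mem_bot] at haK
    exact hq.ne_one (ha ▸ haK ▸ orderOf_one)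
  set C := Subgroup.centralizer (N : Set G) with hC
  haveI : C.Normal := Subgroup.normal_centralizer
  have hinC : ∀ x : G, Out' π x → x ∈ C := by
    intro x hx
    rw [← QuotientGroup.eq_one_iff, ← orderOf_eq_one_iff]
    by_contra hne
    obtain ⟨r, hr, hrd⟩ := Nat.exists_prime_and_dvd hne
    have hrx : r ∣ orderOf x := hrd.trans (orderOf_map_dvd (QuotientGroup.mk' C) x)
    obtain ⟨k, a, ha, he⟩ := Nat.exists_eq_pow_mul_and_not_dvd (orderOf_pos x).ne' r hr.ne_one
    have := centralizes_pi_normal hπ' hL N hNπ hr (hx r hr hrx) (g := x ^ a) ⟨k, by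
      rw [← pow_mul, mul_comm, ← he, pow_orderOf_eq_one]⟩
    refine ha (hrd.trans (orderOf_dvd_of_pow_eq_one ?_))
    rw [← QuotientGroup.mk_pow]
    exact (QuotientGroup.eq_one_iff _).mpr this
  by_cases hCt : C = ⊤
  swap
  · obtain ⟨K, hK⟩ := ih _ (hlt C hCt) C rfl hπ (qsub G C hQ)
      (hL.subgroup C)
    refine ⟨K.map C.subtype, fun x => ⟨?_, fun hx => ⟨⟨x, hinC x hx⟩, (hK _).mpr fun p hp hd =>
      hx p hp (by rwa [← Subgroup.orderOf_coe] at hd), rfl⟩⟩⟩
    rintro ⟨y, hy, rfl⟩ p hp hd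
    exact (hK y).mp hy p hp (by rwa [Subgroup.coe_subtype, Subgroup.orderOf_coe] at hd)
  -- `N` is central
  set X := Kb.comap (QuotientGroup.mk' N) with hX
  have hNX : N ≤ X := fun a ha => by
    rw [hX, Subgroup.mem_comap, show QuotientGroup.mk' N a = 1 from (QuotientGroup.eq_one_iff a).mpr ha]
    exact one_mem Kb
  have hidx : (N.subgroupOf X).index = Nat.card Kb := by
    rw [Subgroup.index_eq_card]
    exact Nat.card_congr ((QuotientGroup.quotientMulEquivOfEq (by
        ext a; rw [MonoidHom.mem_ker]; exact ⟨fun h => Subtype.ext ((QuotientGroup.eq_one_iff _).mpr h),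
          fun h => (QuotientGroup.eq_one_iff (N := N) _).mp (show QuotientGroup.mk' N (a : G) = 1 from congrArg Subtype.val h)⟩)).trans
      (QuotientGroup.quotientKerEquivOfSurjective ((QuotientGroup.mk' N).subgroupComap Kb)
        ((QuotientGroup.mk' N).subgroupComap_surjective_of_surjective Kb (QuotientGroup.mk'_surjective N)))).toEquiv
  have hKbπ : ∀ q : ℕ, q.Prime → q ∣ Nat.card Kb → q ∉ π := fun q hq hd => by
    haveI : Fact q.Prime := ⟨hq⟩
    obtain ⟨a, ha⟩ := exists_prime_orderOf_dvd_card' q hd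
    exact (hKb a).mp a.2 q hq (by rw [Subgroup.orderOf_coe, ha])
  haveI : (N.subgroupOf X).Normal := Subgroup.normal_subgroupOf
  obtain ⟨M, hMc⟩ := Subgroup.exists_right_complement'_of_coprime (N := N.subgroupOf X) (by
    refine Nat.coprime_of_dvd fun q hq h1 h2 => ?_
    rw [hidx] at h2
    rw [Nat.card_congr (Subgroup.subgroupOfEquivOfLe hNX).toEquiv] at h1
    exact hKbπ q hq h2 (hNπ q hq h1))
  have hMcard : Nat.card M = Nat.card Kb := hidx ▸ hMc.symm.index_eq_card.symm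
  refine ⟨M.map X.subtype, fun x => ⟨?_, fun hx => ?_⟩⟩
  · rintro ⟨y, hy, rfl⟩ p hp hd
    rw [Subgroup.coe_subtype, Subgroup.orderOf_coe] at hd
    exact hKbπ p hp (hMcard ▸ hd.trans (Subgroup.orderOf_dvd_natCard M hy))
  · obtain ⟨⟨a, b⟩, hab⟩ := hMc.2 ⟨x, hin x hx⟩
    have hab' : ((a : X) : G) * ((b : X) : G) = x := congrArg Subtype.val hab
    have hcomm : Commute ((a : X) : G) ((b : X) : G) :=
      ((hCt ▸ Subgroup.mem_top ((b : X) : G) : ((b : X) : G) ∈ C) _ a.2)
    refine ⟨(b : X), b.2, ?_⟩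
    show ((b : X) : G) = x
    suffices h : ((a : X) : G) = 1 by rw [← hab', h, one_mul]
    rw [← orderOf_eq_one_iff]
    by_contra hne
    obtain ⟨q, hq, hqd⟩ := Nat.exists_prime_and_dvd hne
    have hdq : orderOf ((a : X) : G) ∣ orderOf x * Nat.card Kb := by
      refine orderOf_dvd_of_pow_eq_one ?_
      have h1 : ((b : X) : G) ^ (orderOf x * Nat.card Kb) = 1 := by
        rw [mul_comm, pow_mul, ← hMcard, show ((b : X) : G) ^ Nat.card M = 1 from
          congrArg (fun w : M => ((w : X) : G)) (pow_card_eq_one' (x := b)), one_pow]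
      have h2 : x ^ (orderOf x * Nat.card Kb) = 1 := by rw [pow_mul, pow_orderOf_eq_one, one_pow]
      calc ((a : X) : G) ^ (orderOf x * Nat.card Kb)
          = (((a : X) : G) * ((b : X) : G)) ^ (orderOf x * Nat.card Kb) := by rw [hcomm.mul_pow, h1, mul_one]
        _ = 1 := by rw [hab', h2]
    have hqN : q ∈ π := hNπ q hq (hqd.trans (Subgroup.orderOf_dvd_natCard N a.2))
    exact ((Nat.Prime.dvd_mul hq).mp (hqd.trans hdq)).elim (fun h => hx q hq h hqN) fun h => hKbπ q hq h hqN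

end CfsgLib.WalterUse
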