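import Cfsg.Agent.Lib.S3Simple.PiHomogeneous
import Cfsg.Agent.Lib.PSL2Max.Tori
import Cfsg.Agent.Lib.PSL2.Aut

/-!
The odd primes of `PSL₂(q)` avoid a π for which the group is locally π-homogeneous.
-/

set_option autoImplicit false
set_option linter.unusedSectionVars false
set_option linter.style.haveILetI false

namespace CfsgLib.WalterUse

open Cfsg CfsgLib.S3Simple.PiHom

universe u v

variable {π : Set ℕ}

/-- The local condition passes along injective homomorphisms. -/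
theorem loc_of_injective {H : Type v} {G : Type u} [Group H] [Group G] (hL : Loc π G) (f : H →* G)
    (hf : Function.Injective f) : Loc π H := by
  intro p hp K hK r hr hrπ g hg ⟨k, hk⟩ x hx
  have hn : f g ∈ Subgroup.normalizer ((K.map f : Subgroup G) : Set G) :=
    Subgroup.le_normalizer_map f ⟨g, hg, rfl⟩
  refine hf ?_
  rw [map_mul, map_mul]
  exact hL p hp _ (hK.map f) r hr hrπ (f g) hn ⟨k, by rw [← map_pow, hk, map_one]⟩ _ ⟨x, hx, rfl⟩

/-- A real element of prime order `p ≠ 2` keeps `p` out of `π`. -/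
theorem not_mem_of_inverted {G : Type u} [Group G] [Finite G] (hπ : ∀ p ∈ π, p.Prime ∧ p ≠ 2) (hL : Loc π G)
    {p : ℕ} [Fact p.Prime] {x g : G} (hx : orderOf x = p) (hg : g * x * g⁻¹ = x⁻¹) : p ∉ π := by
  intro hp
  have h2π : (2 : ℕ) ∉ π := fun h => (hπ 2 h).2 rfl
  obtain ⟨i, m, hm, he⟩ := Nat.exists_eq_pow_mul_and_not_dvd (orderOf_pos g).ne' 2 (by norm_num)
  have hpow : ∀ n : ℕ, g ^ n * x * (g ^ n)⁻¹ = if Even n then x else x⁻¹ := by
    intro n
    induction n with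
    | zero => simp
    | succ n ih =>
      rw [pow_succ', mul_inv_rev, show g * g ^ n * x * ((g ^ n)⁻¹ * g⁻¹) = g * (g ^ n * x * (g ^ n)⁻¹) * g⁻¹ by group,
        ih]
      by_cases h : Even n
      · rw [if_pos h, if_neg (Nat.even_add_one.not.mpr (not_not.mpr h)), hg]
      · rw [if_neg h, if_pos (Nat.even_add_one.mpr h), ← conj_inv, hg, inv_inv]
  have hm' : g ^ m * x * (g ^ m)⁻¹ = x⁻¹ := by rw [hpow, if_neg fun h => hm h.two_dvd]
  have hn : g ^ m ∈ Subgroup.normalizer ((Subgroup.zpowers x : Subgroup G) : Set G) := by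
    refine CfsgLib.Comp.mem_normalizer_of_maps fun w hw => ?_
    obtain ⟨j, rfl⟩ := Subgroup.mem_zpowers_iff.mp hw
    rw [← conj_zpow, hm', inv_zpow]
    exact inv_mem (zpow_mem (Subgroup.mem_zpowers x) j)
  have hc := hL p hp (Subgroup.zpowers x) (IsPGroup.of_card (n := 1) (by rw [Nat.card_zpowers, hx, pow_one]))
    2 Nat.prime_two h2π (g ^ m) hn ⟨i, by rw [← pow_mul, mul_comm, ← he, pow_orderOf_eq_one]⟩ x
    (Subgroup.mem_zpowers x)
  rw [mul_inv_eq_iff_eq_mul.mpr hc.symm] at hm'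
  have h2 : orderOf x ∣ 2 := orderOf_dvd_of_pow_eq_one (by rw [pow_two]; nth_rw 2 [hm']; exact mul_inv_cancel x)
  rw [hx] at h2
  exact (hπ p hp).2 ((Nat.prime_dvd_prime_iff_eq (hπ p hp).1 Nat.prime_two).mp h2)

/-- `PSL₂(F)`: no odd prime of the order lies in `π`. -/
theorem psl_not_dvd {F : Type v} [Field F] [Fintype F] (h4 : 4 ≤ Fintype.card F) (hπ : ∀ p ∈ π, p.Prime ∧ p ≠ 2)
    (hL : Loc π (Matrix.ProjectiveSpecialLinearGroup (Fin 2) F)) {p : ℕ} (hp : p ∈ π) :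
    ¬ p ∣ Nat.card (Matrix.ProjectiveSpecialLinearGroup (Fin 2) F) := by
  classical
  obtain ⟨c, hcF⟩ := CharP.exists F
  haveI : Fact c.Prime := ⟨CharP.char_is_prime F c⟩
  have hss : ∀ l, l ≠ c → ∀ [Fact l.Prime], ∀ x : Matrix.ProjectiveSpecialLinearGroup (Fin 2) F,
      orderOf x = l → l ∉ π := by
    intro l hlc _ x hx
    obtain ⟨g, -, hg⟩ := PSL2Max.exists_inverting (x := x) c ⟨fun e => (Fact.out : l.Prime).ne_one (by
      rw [← hx, e, orderOf_one]), fun h => hlc ((Nat.prime_dvd_prime_iff_eq Fact.out Fact.out).mp (hx ▸ h)).symm⟩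
    exact not_mem_of_inverted hπ hL hx hg
  intro hd
  haveI : Fact p.Prime := ⟨(hπ p hp).1⟩
  obtain ⟨x, hx⟩ := exists_prime_orderOf_dvd_card' p hd
  by_cases hpc : p = c
  swap
  · exact hss p hpc x hx hp
  subst hpc
  -- a diagonal element of prime order moves the unitriangular group
  obtain ⟨s, hs⟩ := IsCyclic.exists_ofOrder_eq_natCard (α := Fˣ)
  rw [Nat.card_units, Nat.card_eq_fintype_card] at hs
  set dd : Fˣ → Matrix.ProjectiveSpecialLinearGroup (Fin 2) F :=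
    fun a => PSL2.mk (PSL2.dSL (a : F) a.ne_zero)
  have hval : ∀ a : Fˣ, (PSL2.dSL (a : F) a.ne_zero).1 = !![(a : F), 0; 0, (a : F)⁻¹] := fun a => rfl
  have hconj : ∀ (a : Fˣ) (b : F), dd a * PSL2.uu b * (dd a)⁻¹ = PSL2.uu ((a : F) * a * b) := by
    intro a b
    rw [PSL2.uu_eq, PSL2.uu_eq, ← map_inv, ← map_mul, ← map_mul]
    congr 1
    apply Subtype.ext
    rw [Matrix.SpecialLinearGroup.coe_mul, Matrix.SpecialLinearGroup.coe_mul, Matrix.SpecialLinearGroup.coe_inv,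
      hval, PSL2.coe_uSL, PSL2.coe_uSL]
    simp [Matrix.adjugate_fin_two, Matrix.mul_fin_two]
    ring
  have hdd_mul : ∀ a b : Fˣ, dd (a * b) = dd a * dd b := by
    intro a b
    simp only [dd]
    rw [← map_mul]
    congr 1
    apply Subtype.ext
    rw [Matrix.SpecialLinearGroup.coe_mul, hval, hval, hval]
    simp [Matrix.mul_fin_two, mul_comm]
  set d : Fˣ →* Matrix.ProjectiveSpecialLinearGroup (Fin 2) F := MonoidHom.mk' dd hdd_mul
  have hne : d s ≠ 1 := by
    intro h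
    have h1 : dd s * PSL2.uu 1 * (dd s)⁻¹ = PSL2.uu (1 : F) := by
      rw [show dd s = 1 from h, one_mul, inv_one, mul_one]
    rw [hconj, mul_one] at h1
    have h2 : s ^ 2 = 1 := Units.ext (by rw [Units.val_pow_eq_pow_val, pow_two]; exact PSL2.uu_injective h1)
    have := Nat.le_of_dvd (by norm_num) (orderOf_dvd_of_pow_eq_one h2)
    omega
  obtain ⟨r, hr, hrd⟩ := Nat.exists_prime_and_dvd (fun h => hne (orderOf_eq_one_iff.mp h))
  haveI : Fact r.Prime := ⟨hr⟩
  obtain ⟨g, hgo, a, ha⟩ : ∃ g, orderOf g = r ∧ ∃ a, d a = g := by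
    refine ⟨d s ^ (orderOf (d s) / r), ?_, s ^ (orderOf (d s) / r), map_pow d _ _⟩
    exact orderOf_pow_orderOf_div (orderOf_pos _).ne' hrd
  have hrc : r ≠ p := by
    intro e
    have h1 : p ∣ Fintype.card F - 1 := hs ▸ (e ▸ hrd).trans (orderOf_map_dvd d s)
    obtain ⟨n, -, hn⟩ := FiniteField.card F p
    have h2 : p ∣ Fintype.card F := hn ▸ dvd_pow_self p n.ne_zero
    have h3 := Nat.dvd_sub h2 h1
    rw [show Fintype.card F - (Fintype.card F - 1) = 1 by omega, Nat.dvd_one] at h3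
    exact (hπ p hp).1.ne_one h3
  have hrπ : r ∉ π := hss r hrc g hgo
  set U := (PSL2.uHom : Multiplicative F →* Matrix.ProjectiveSpecialLinearGroup (Fin 2) F).range
  have hgn : g ∈ Subgroup.normalizer (U : Set (Matrix.ProjectiveSpecialLinearGroup (Fin 2) F)) := by
    refine CfsgLib.Comp.mem_normalizer_of_maps ?_
    rintro _ ⟨b, rfl⟩
    exact ⟨Multiplicative.ofAdd ((a : F) * a * b.toAdd), by rw [← ha]; exact (hconj a b.toAdd).symm⟩
  have hc := hL p hp U (PSL2.uSylow p).2 r hr hrπ g hgn ⟨1, by rw [pow_one, ← hgo, pow_orderOf_eq_one]⟩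
    (PSL2.uu 1) ⟨_, rfl⟩
  have h1 : dd a * PSL2.uu (1 : F) * (dd a)⁻¹ = PSL2.uu 1 := by
    rw [show dd a = g from ha, ← hc, mul_inv_cancel_right]
  rw [hconj, mul_one] at h1
  have h2 : (a : F) * a = 1 := PSL2.uu_injective h1
  refine hr.ne_one (hgo ▸ orderOf_eq_one_iff.mpr ?_)
  rw [← ha]
  show PSL2.mk _ = 1
  rw [← map_one (PSL2.mk : Matrix.SpecialLinearGroup (Fin 2) F →* _), eq_comm, PSL2.mk_eq_mk]
  rcases mul_self_eq_one_iff.mp h2 with e | e
  · left; simp [PSL2.dSL, e, Matrix.one_fin_two]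
  · right; simp [PSL2.dSL, e, Matrix.one_fin_two, inv_neg]

/-- A group containing `PSL₂(F)`. -/
theorem not_dvd_psl_of_injective {G : Type u} [Group G] {F : Type v} [Field F] [Fintype F]
    (h4 : 4 ≤ Fintype.card F) (hπ : ∀ p ∈ π, p.Prime ∧ p ≠ 2) (hL : Loc π G)
    (f : Matrix.ProjectiveSpecialLinearGroup (Fin 2) F →* G) (hf : Function.Injective f) {p : ℕ} (hp : p ∈ π) :
    ¬ p ∣ Nat.card (Matrix.ProjectiveSpecialLinearGroup (Fin 2) F) :=
  psl_not_dvd h4 hπ (loc_of_injective hL f hf) hp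

end CfsgLib.WalterUse
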