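import Cfsg.Agent.Lib.Blocks.Central
import Cfsg.Agent.Lib.CharTheory.Irr
import Cfsg.Agent.Lib.CharTheory.InvolutionCount

/-!
Two parity arguments for real irreducible characters.
-/

set_option autoImplicit false
set_option linter.unusedSectionVars false
set_option linter.style.haveILetI false

namespace CfsgLib.WalterUse

open Cfsg CfsgLib CfsgLib.CharTheory
open scoped ComplexConjugate

universe u

variable {G : Type u} [Group G] [Fintype G]

theorem real_iff_conj (χ : IrrCharacter G) :
    (∀ g : G, ((χ : G → ℂ) g).im = 0) ↔ Blocks.conjIrr χ = χ :=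
  ⟨fun h => Subtype.ext (funext fun g => Complex.conj_eq_iff_im.mpr (h g)),
    fun h g => Complex.conj_eq_iff_im.mp (congrFun (congrArg Subtype.val h) g)⟩

/-- In characteristic two the non-real characters drop out of a symmetric sum. -/
theorem sum_real {R : Type*} [CommRing R] (h2 : (2 : R) = 0) [DecidablePred fun χ : IrrCharacter G => Blocks.conjIrr χ = χ]
    (f : IrrCharacter G → R) (hf : ∀ χ, f (Blocks.conjIrr χ) = f χ) :
    ∑ χ : IrrCharacter G, f χ = ∑ χ ∈ Finset.univ.filter (fun χ => Blocks.conjIrr χ = χ), f χ := by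
  classical
  have hinv : ∀ χ : IrrCharacter G, Blocks.conjIrr (Blocks.conjIrr χ) = χ := fun χ =>
    Subtype.ext (funext fun g => Complex.conj_conj _)
  rw [← Finset.sum_filter_add_sum_filter_not Finset.univ (fun χ => Blocks.conjIrr χ = χ) f,
    add_eq_left]
  refine Finset.sum_involution (fun χ _ => Blocks.conjIrr χ) (fun χ _ => ?_) (fun χ hχ _ => ?_)
    (fun χ hχ => ?_) (fun χ _ => hinv χ)
  · rw [hf, ← two_mul, h2, zero_mul]
  · exact (Finset.mem_filter.mp hχ).2
  · rw [Finset.mem_filter]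
    exact ⟨Finset.mem_univ _, fun h => (Finset.mem_filter.mp hχ).2 ((hinv χ).symm.trans h).symm⟩

/-- A group of even order has a non-principal real character of odd degree. -/
theorem exists_real_odd (heven : Even (Nat.card G)) :
    ∃ χ : IrrCharacter G, (∀ g : G, ((χ : G → ℂ) g).im = 0) ∧ Odd (charDegree (χ : G → ℂ)) ∧
      (χ : G → ℂ) ≠ fun _ => 1 := by
  classical
  by_contra hcon
  push Not at hcon
  have h := sum_irr_degree_sq (G := G)
  simp only [fun χ : IrrCharacter G => (charDegree_spec' χ.2).1] at h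
  have h' : ∑ χ : IrrCharacter G, charDegree (χ : G → ℂ) ^ 2 = Nat.card G := by exact_mod_cast h
  have hz := congrArg (fun n : ℕ => (n : ZMod 2)) h'
  simp only [Nat.cast_sum] at hz
  rw [ZMod.natCast_eq_zero_iff_even.mpr heven, sum_real (h2 := by decide) _ fun χ => ?_] at hz
  · let t₁ : IrrCharacter G := ⟨fun _ => 1, isIrrCharacter_one⟩
    have ht : t₁ ∈ Finset.univ.filter (fun χ : IrrCharacter G => Blocks.conjIrr χ = χ) :=
      Finset.mem_filter.mpr ⟨Finset.mem_univ _, (real_iff_conj _).mp fun g => Complex.one_im⟩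
    rw [Finset.sum_eq_single t₁ ?_ (fun h => absurd ht h), show charDegree (t₁ : G → ℂ) = 1 by simp [charDegree, t₁]] at hz
    · simp at hz
    · intro χ hχ hne
      have hev : ¬ Odd (charDegree (χ : G → ℂ)) := fun ho =>
        hne (Subtype.ext (hcon χ ((real_iff_conj χ).mpr (Finset.mem_filter.mp hχ).2) ho))
      rw [ZMod.natCast_eq_zero_iff_even]
      exact (Nat.not_odd_iff_even.mp hev).pow_of_ne_zero two_ne_zero
  · have e : charDegree (Blocks.conjIrr χ : G → ℂ) = charDegree (χ : G → ℂ) := by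
      apply Nat.cast_injective (R := ℂ)
      rw [Blocks.irr_charDegree_cast, Blocks.irr_charDegree_cast, Blocks.conjIrr_apply, Blocks.irr_one_conj]
    rw [e]

theorem sum_sq_of_two {ι R : Type*} [CommRing R] (h2 : (2 : R) = 0) (s : Finset ι) (a : ι → R) :
    (∑ i ∈ s, a i) ^ 2 = ∑ i ∈ s, a i ^ 2 := by
  classical
  induction s using Finset.induction_on with
  | empty => simp
  | insert i s hi ih =>
    rw [Finset.sum_insert hi, Finset.sum_insert hi, ← ih, add_sq, h2]
    ring

/-- A real element with centraliser of odd order gives a real character of even degree. -/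
theorem exists_real_even {M : Ideal AlgInt} (hM : IsPModular 2 M) {x g : G} (hx : x ≠ 1)
    (hg : g * x * g⁻¹ = x⁻¹) (hodd : Odd (Nat.card (Subgroup.centralizer ({x} : Set G)))) :
    ∃ χ : IrrCharacter G, (∀ a : G, ((χ : G → ℂ) a).im = 0) ∧ Even (charDegree (χ : G → ℂ)) := by
  classical
  by_contra hcon
  push Not at hcon
  haveI := hM.2.1
  set π := Ideal.Quotient.mk M with hπ
  have h2 : (2 : AlgInt ⧸ M) = 0 := by
    rw [show (2 : AlgInt ⧸ M) = π ((2 : ℕ) : AlgInt) by rw [map_natCast]; rfl]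
    exact Ideal.Quotient.eq_zero_iff_mem.mpr hM.2.2
  let v : IrrCharacter G → AlgInt := fun χ => ⟨(χ : G → ℂ) x, by
    obtain ⟨n, ρ, -, hρ⟩ := χ.2
    exact hρ ▸ isIntegral_character ρ x⟩
  have hreal : ∀ χ : IrrCharacter G, conj ((χ : G → ℂ) x) = (χ : G → ℂ) x := fun χ => by
    rw [← Blocks.irr_inv, ← hg, isClassFunction_irr χ.2]
  have hvc : ∀ χ, v (Blocks.conjIrr χ) = v χ := fun χ => Subtype.ext (hreal χ)
  have hdc : ∀ χ : IrrCharacter G, charDegree (Blocks.conjIrr χ : G → ℂ) = charDegree (χ : G → ℂ) := fun χ => by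
    apply Nat.cast_injective (R := ℂ)
    rw [Blocks.irr_charDegree_cast, Blocks.irr_charDegree_cast, Blocks.conjIrr_apply, Blocks.irr_one_conj]
  have e0 : ∑ χ : IrrCharacter G, v χ * (charDegree (χ : G → ℂ) : AlgInt) = 0 := by
    apply Subtype.ext
    have h := sum_irr_apply_mul_degree x
    rw [if_neg hx] at h
    rw [AddSubmonoidClass.coe_finsetSum]
    refine Eq.trans ?_ h
    refine Finset.sum_congr rfl fun χ _ => ?_
    rw [MulMemClass.coe_mul]
    show (χ : G → ℂ) x * ((charDegree (χ : G → ℂ) : AlgInt) : ℂ) = _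
    rw [show ((charDegree (χ : G → ℂ) : AlgInt) : ℂ) = (charDegree (χ : G → ℂ) : ℂ) by norm_cast,
      Blocks.irr_charDegree_cast]
  have e1 : ∑ χ : IrrCharacter G, v χ * v χ = (Nat.card (Subgroup.centralizer ({x} : Set G)) : AlgInt) := by
    apply Subtype.ext
    have h := sum_irr_mul_conj x x
    rw [if_pos (IsConj.refl x)] at h
    rw [AddSubmonoidClass.coe_finsetSum]
    refine Eq.trans ?_ (h.trans (by norm_cast))
    exact Finset.sum_congr rfl fun χ _ => by rw [MulMemClass.coe_mul, hreal]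
  have f0 := congrArg π e0
  have f1 := congrArg π e1
  simp only [map_sum, map_mul, map_natCast, map_zero] at f0 f1
  rw [sum_real h2 _ fun χ => by rw [hvc, hdc]] at f0
  rw [sum_real h2 _ fun χ => by rw [hvc]] at f1
  have hone : ∀ n : ℕ, Odd n → (n : AlgInt ⧸ M) = 1 := fun n hn => by
    obtain ⟨k, rfl⟩ := hn
    push_cast
    rw [h2, zero_mul, zero_add]
  rw [Finset.sum_congr rfl fun χ hχ => by
    rw [hone _ (Nat.not_even_iff_odd.mp (hcon χ ((real_iff_conj χ).mpr (Finset.mem_filter.mp hχ).2))), mul_one]] at f0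
  rw [hone _ hodd] at f1
  have h3 : (∑ χ ∈ Finset.univ.filter (fun χ : IrrCharacter G => Blocks.conjIrr χ = χ), π (v χ)) ^ 2 = 1 := by
    rw [sum_sq_of_two h2, ← f1]
    exact Finset.sum_congr rfl fun χ _ => by rw [pow_two]
  rw [f0, zero_pow two_ne_zero] at h3
  exact zero_ne_one h3

end CfsgLib.WalterUse
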