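import Cfsg.Agent.Lib.WalterUse.ReeReal
import Cfsg.Agent.Lib.CharTheory.Linear
import Cfsg.Agent.Lib.CharTheory.More

/-!
Two bounds from the characters in the small Ree case: on the centraliser of an inverted element of prime order
dividing `q² - q + 1`, and the impossibility of abelian Sylow 3-subgroups with trivial intersections and a small
normaliser.
-/

set_option autoImplicit false
set_option linter.unusedSectionVars false
set_option linter.style.haveILetI false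

namespace CfsgLib.WalterUse

open Cfsg CfsgLib CfsgLib.CharTheory CfsgLib.JankoThompson
open scoped ComplexConjugate

universe u v

/-- A character of degree `d` has norm at least `d` on an abelian group. -/
theorem card_mul_le_sum_normSq {P : Type u} [Group P] [Fintype P] (hc : ∀ a b : P, a * b = b * a)
    {θ : P → ℂ} (hθ : IsCharacter P θ) {d : ℕ} (hd : θ 1 = d) :
    (Nat.card P : ℝ) * d ≤ ∑ x : P, ‖θ x‖ ^ 2 := by
  classical
  obtain ⟨hcf, hn⟩ := isCharacter_iff_coeff_nat.mp hθ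
  choose n hn using fun ψ : IrrCharacter P => hn ψ ψ.2
  have h1 : (∑ ψ : IrrCharacter P, (n ψ : ℂ)) = d := by
    rw [← hd]
    conv_rhs => rw [eq_sum_irr hcf]
    rw [Finset.sum_apply]
    refine Finset.sum_congr rfl fun ψ _ => ?_
    rw [Pi.smul_apply, smul_eq_mul, degree_one_of_commutative hc ψ.2, mul_one, hn]
  have h2 : classInner θ θ = ∑ ψ : IrrCharacter P, (n ψ : ℂ) ^ 2 := by
    rw [classInner_eq_sum_irr hcf]
    refine Finset.sum_congr rfl fun ψ _ => ?_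
    rw [← classInner_comm θ, hn, map_natCast, sq]
  have h3 : ∑ x : P, (θ x * conj (θ x)) = ((Nat.card P * ∑ ψ : IrrCharacter P, n ψ ^ 2 : ℕ) : ℂ) := by
    have h4 := h2
    rw [classInner] at h4
    push_cast
    rw [← h4, ← mul_assoc, mul_inv_cancel₀ (Nat.cast_ne_zero.mpr Nat.card_pos.ne'), one_mul]
  have h5 : ∑ x : P, ‖θ x‖ ^ 2 = ((Nat.card P * ∑ ψ : IrrCharacter P, n ψ ^ 2 : ℕ) : ℝ) := by
    simp only [Complex.mul_conj, Complex.normSq_eq_norm_sq] at h3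
    rw [← Complex.ofReal_sum] at h3
    exact_mod_cast h3
  have h6 : ∑ ψ : IrrCharacter P, n ψ = d := by exact_mod_cast h1
  have h7 : d ≤ ∑ ψ : IrrCharacter P, n ψ ^ 2 := by
    rw [← h6]
    exact Finset.sum_le_sum fun ψ _ => Nat.le_self_pow two_ne_zero _
  rw [h5, ← Nat.cast_mul]
  exact_mod_cast Nat.mul_le_mul_left _ h7

variable {G : Type u} [Group G] [Fintype G] {L : Type v} [Group L] [Fintype L] {C : Cfg G L}

theorem reeW_le (R : ReeCfg C) : reeW C + 1 ≤ C.D.q ^ 2 ∧ 2 * (C.D.q - 1) < reeW C := by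
  have hq := R.seven_q
  obtain ⟨k, hk⟩ : ∃ k, C.D.q = k + 27 := ⟨_, (Nat.sub_add_cancel hq).symm⟩
  rw [reeW, hk, show k + 27 - 1 = k + 26 by omega]
  constructor <;> nlinarith

/-- A character of degree `q² - q + 1` forbids abelian Sylow 3-subgroups with trivial intersections and a
normaliser of order at most `q³(q - 1)`. -/
theorem false_of_ti (R : ReeCfg C) [Fact (Nat.Prime 3)] (P : Sylow 3 G) (hc : ∀ a b : (P : Subgroup G), a * b = b * a)
    (hcard : Nat.card (P : Subgroup G) = C.D.q ^ 3)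
    (hN : Nat.card (Subgroup.normalizer ((P : Subgroup G) : Set G)) ≤ C.D.q ^ 3 * (C.D.q - 1))
    (hTI : ∀ Q Q' : Sylow 3 G, ∀ x : G, x ∈ (Q : Subgroup G) → x ∈ (Q' : Subgroup G) → x ≠ 1 → Q = Q') : False := by
  classical
  obtain ⟨u, v, z, r, s, hV⟩ := exists_vals R
  set W := reeW C with hW
  obtain ⟨hWq, hqW⟩ := reeW_le R
  have hzd : (z : G → ℂ) 1 = (W : ℕ) := by
    have h1 := hV.degW
    have h2 := (C.deg_spec z).2
    have h3 : (0 : ℤ) < reeW C := by have := hqW; omega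
    have : C.deg z = (W : ℤ) := by
      rcases hV.conf.sA.hd with e | e <;> rw [e] at h1 <;> linarith
    rw [(C.deg_spec z).1, this, Int.cast_natCast]
  set f : G → ℝ := fun g => ‖(z : G → ℂ) g‖ ^ 2 with hf
  set S : Sylow 3 G → Finset G := fun Q => Finset.univ.filter fun g => g ∈ (Q : Subgroup G) ∧ g ≠ 1 with hS
  have hconst : ∀ Q : Sylow 3 G, ∑ g ∈ S Q, f g = ∑ g ∈ S P, f g := by
    intro Q
    obtain ⟨w, hw⟩ := MulAction.exists_smul_eq G P Q
    have hmem : ∀ x, w * x * w⁻¹ ∈ (Q : Subgroup G) ↔ x ∈ (P : Subgroup G) := fun x => by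
      rw [← hw, Sylow.coe_subgroup_smul]
      exact Subgroup.smul_mem_pointwise_smul_iff (a := MulAut.conj w) (x := x)
    symm
    refine Finset.sum_nbij' (fun x => w * x * w⁻¹) (fun x => w⁻¹ * x * w) ?_ ?_ ?_ ?_ ?_
    · intro x hx
      simp only [hS, Finset.mem_filter, Finset.mem_univ, true_and] at hx ⊢
      exact ⟨(hmem x).mpr hx.1, fun e => hx.2 (conj_eq_one_iff.mp e)⟩
    · intro x hx
      simp only [hS, Finset.mem_filter, Finset.mem_univ, true_and] at hx ⊢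
      have e : w * (w⁻¹ * x * w) * w⁻¹ = x := by group
      refine ⟨(hmem _).mp (by rw [e]; exact hx.1), fun e1 => hx.2 ?_⟩
      rw [← e, e1, mul_one, mul_inv_cancel]
    · intro x _; simp [mul_assoc]
    · intro x _; simp [mul_assoc]
    · intro x _
      show f x = f (w * x * w⁻¹)
      rw [hf]
      have hcl := isClassFunction_irr z.2
      exact congrArg (fun c : ℂ => ‖c‖ ^ 2) (hcl x w).symm
  have hdis : ∀ Q Q' : Sylow 3 G, Q ≠ Q' → Disjoint (S Q) (S Q') := fun Q Q' hne =>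
    Finset.disjoint_left.mpr fun x h1 h2 => by
      simp only [hS, Finset.mem_filter, Finset.mem_univ, true_and] at h1 h2
      exact hne (hTI Q Q' x h1.1 h2.1 h1.2)
  have hP : (Nat.card (P : Subgroup G) : ℝ) * W ≤ f 1 + ∑ g ∈ S P, f g := by
    refine (card_mul_le_sum_normSq hc (isCharacter_restrict (isCharacter_of_irr z.2) (P : Subgroup G))
      (d := W) hzd).trans (le_of_eq ?_)
    rw [← Finset.sum_subtype (Finset.univ.filter fun g => g ∈ (P : Subgroup G)) (by simp) f,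
      ← Finset.add_sum_erase _ f (a := (1 : G)) (by simp)]
    exact congrArg (f 1 + ·) (Finset.sum_congr (by ext x; simp [hS, and_comm]) fun _ _ => rfl)
  have hall : f 1 + (Nat.card (Sylow 3 G) : ℝ) * ∑ g ∈ S P, f g ≤ (Nat.card G : ℝ) := by
    rw [← sum_norm_sq_irr z.2, ← Finset.add_sum_erase Finset.univ f (Finset.mem_univ 1), add_le_add_iff_left,
      Nat.card_eq_fintype_card]
    calc (Fintype.card (Sylow 3 G) : ℝ) * ∑ g ∈ S P, f g
        = ∑ Q : Sylow 3 G, ∑ g ∈ S Q, f g := by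
          rw [Finset.sum_congr rfl fun Q _ => hconst Q, Finset.sum_const, nsmul_eq_mul, Finset.card_univ]
      _ = ∑ g ∈ Finset.univ.biUnion S, f g :=
          (Finset.sum_biUnion fun Q _ Q' _ hne => hdis Q Q' hne).symm
      _ ≤ _ := Finset.sum_le_sum_of_subset_of_nonneg (fun x hx => by
          simp only [Finset.mem_biUnion, hS, Finset.mem_filter, Finset.mem_univ, true_and] at hx
          obtain ⟨Q, -, hx1⟩ := hx
          simp [hx1]) fun x _ _ => by positivity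
  have hf1 : f 1 = (W : ℝ) ^ 2 := by rw [hf]; simp only; rw [hzd, Complex.norm_natCast]
  have hG : (Nat.card G : ℝ) = (Nat.card (Sylow 3 G) : ℝ) *
      (Nat.card (Subgroup.normalizer ((P : Subgroup G) : Set G)) : ℝ) := by
    rw [Sylow.card_eq_index_normalizer P, ← Nat.cast_mul]
    exact congrArg Nat.cast (Subgroup.index_mul_card _).symm
  have hn : (0 : ℝ) < Nat.card (Sylow 3 G) := by exact_mod_cast Nat.card_pos
  have hmain : (C.D.q : ℝ) ^ 3 * W - (W : ℝ) ^ 2 ≤ (C.D.q : ℝ) ^ 3 * ((C.D.q : ℝ) - 1) := by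
    have h1 : ∑ g ∈ S P, f g ≤ (Nat.card (Subgroup.normalizer ((P : Subgroup G) : Set G)) : ℝ) := by
      refine le_of_mul_le_mul_left ?_ hn
      rw [← hG]
      nlinarith [sq_nonneg (W : ℝ)]
    have h2 : (Nat.card (Subgroup.normalizer ((P : Subgroup G) : Set G)) : ℝ) ≤
        ((C.D.q ^ 3 * (C.D.q - 1) : ℕ) : ℝ) := Nat.cast_le.mpr hN
    push_cast [Nat.cast_sub (show 1 ≤ C.D.q by have := R.seven_q; omega)] at h2
    rw [hcard, hf1] at hP
    push_cast at hP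
    linarith
  have e1 : (W : ℝ) ≤ (C.D.q : ℝ) ^ 2 - 1 := by
    have h : ((W + 1 : ℕ) : ℝ) ≤ ((C.D.q ^ 2 : ℕ) : ℝ) := Nat.cast_le.mpr hWq
    push_cast at h
    linarith
  have e2 : 2 * ((C.D.q : ℝ) - 1) < W := by
    have h : ((2 * (C.D.q - 1) : ℕ) : ℝ) < (W : ℝ) := Nat.cast_lt.mpr hqW
    push_cast [Nat.cast_sub (show 1 ≤ C.D.q by have := R.seven_q; omega)] at h
    exact h
  have hq : (27 : ℝ) ≤ C.D.q := by exact_mod_cast R.seven_q
  have e3 : 2 * (W : ℝ) ≤ (C.D.q : ℝ) ^ 3 := by nlinarith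
  nlinarith [mul_le_mul_of_nonneg_left e3 (show (0 : ℝ) ≤ W by positivity),
    mul_lt_mul_of_pos_left e2 (show (0 : ℝ) < (C.D.q : ℝ) ^ 3 by positivity)]

namespace Vals

variable {u v z : IrrCharacter G} {r s : Fin 2 → IrrCharacter G}

/-- The term of one of the two further characters of `φ_b` is small. -/
theorem rest_small (hV : Vals C u v z r s) (R : ReeCfg C) (i : Fin 2) (c : IrrCharacter G) (hc : c = r i ∨ c = s i) :
    2 * (C.D.q : ℝ) * ((C.T c : ℝ) ^ 2 / (C.deg c : ℝ)) ^ 2 ≤ 3 := by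
  obtain ⟨m, hm, hm'⟩ := R.pow
  obtain ⟨tr, ts, hsum⟩ := hV.T_rest R i
  have hpr := hV.prod_rest R i
  have hB := hV.conf.sB i
  have hW := reeW_cast R
  obtain ⟨w, hw⟩ : ∃ w : ℝ, w = (3 : ℝ) ^ m := ⟨_, rfl⟩
  have hw3 : (3 : ℝ) ≤ w := hw ▸ le_self_pow₀ (by norm_num) (by omega)
  obtain ⟨Z, hZ⟩ : ∃ Z : ℝ, Z = (C.D.z : ℝ) := ⟨_, rfl⟩
  have hQ : (C.D.q : ℝ) = 3 * w ^ 2 := by
    rw [hw, hm']; push_cast; rw [← pow_mul, pow_succ, mul_comm m 2]; ring
  have hQZ : (C.D.q : ℝ) = 2 * Z + 1 := by rw [hZ]; exact_mod_cast R.q_z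
  obtain ⟨A, hA, hTA⟩ : ∃ A : ℝ, (A + Z * C.D.q) ^ 2 = Z ^ 2 * w ^ 2 * ((C.D.q : ℝ) + 1) ^ 2 ∧
      (C.T c : ℝ) ^ 2 = Z ^ 2 ∧ (C.deg c : ℝ) ^ 2 = A ^ 2 := by
    set a : ℝ := (C.vb i (r i) : ℝ) * C.deg (r i) with ha
    set b : ℝ := (C.vb i (s i) : ℝ) * C.deg (s i) with hb
    have h1 : a + b = -((C.D.q : ℝ) * C.D.q - C.D.q) := by rw [ha, hb]; exact_mod_cast hsum
    have h2 : 3 * (a * b) = -(Z ^ 2 * C.D.q * (((C.D.q : ℝ) * C.D.q - C.D.q) + 1)) := by
      have h3 : ((3 * ((C.vb i (r i) * C.deg (r i)) * (C.vb i (s i) * C.deg (s i))) : ℤ) : ℝ) =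
          ((-((C.D.z : ℤ) ^ 2 * C.D.q * ((C.D.q : ℤ) * C.D.q - C.D.q + 1)) : ℤ) : ℝ) :=
        congrArg _ (hW ▸ hpr)
      rw [hZ, ha, hb]; push_cast at h3 ⊢; exact h3
    have key : ∀ x y : ℝ, x + y = -((C.D.q : ℝ) * C.D.q - C.D.q) →
        3 * (x * y) = -(Z ^ 2 * C.D.q * (((C.D.q : ℝ) * C.D.q - C.D.q) + 1)) →
        (x + Z * C.D.q) ^ 2 = Z ^ 2 * w ^ 2 * ((C.D.q : ℝ) + 1) ^ 2 := by
      intro x y hxy hxy'
      obtain rfl : y = -((C.D.q : ℝ) * C.D.q - C.D.q) - x := by linarith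
      rw [hQZ] at hxy'
      rw [hQZ]
      have hw2 : 3 * w ^ 2 = 2 * Z + 1 := hQ.symm.trans hQZ
      linear_combination (-1 / 3 : ℝ) * hxy' - (Z ^ 2 * (2 * Z + 1 + 1) ^ 2 / 3) * hw2
    rcases hc with rfl | rfl
    · refine ⟨a, key a b h1 h2, ?_, ?_⟩
      · rw [tr, hZ]; push_cast
        rcases hB.hc with e | e <;> rw [e] <;> simp
      · rw [ha]; rcases hB.hc with e | e <;> rw [e] <;> simp
    · refine ⟨b, key b a (by linarith) (by linarith), ?_, ?_⟩
      · rw [ts, hZ]; push_cast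
        rcases hB.hd with e | e <;> rw [e] <;> simp
      · rw [hb]; rcases hB.hd with e | e <;> rw [e] <;> simp
  obtain ⟨hT, hD⟩ := hTA
  have hd : (C.deg c : ℝ) ≠ 0 := Int.cast_ne_zero.mpr (C.deg_spec c).2.ne'
  rw [div_pow, ← mul_div_assoc, div_le_iff₀ (by positivity), hD, hT]
  have hwZ : 0 ≤ Z := hZ ▸ Nat.cast_nonneg _
  -- `|A| ≥ z w (q + 1 - 3 w)`
  set B := Z * w * ((C.D.q : ℝ) + 1 - 3 * w) with hBdef
  have hB0 : 0 ≤ B := by
    rw [hBdef, hQ]
    have : 0 ≤ 3 * w ^ 2 + 1 - 3 * w := by nlinarith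
    positivity
  have hAB : B ^ 2 ≤ A ^ 2 := by
    rcases sq_eq_sq_iff_eq_or_eq_neg.mp (show (A + Z * C.D.q) ^ 2 = (Z * w * ((C.D.q : ℝ) + 1)) ^ 2 by
      rw [hA]; ring) with e | e
    · exact le_of_eq (by rw [hBdef, show A = Z * w * ((C.D.q : ℝ) + 1) - Z * C.D.q by linarith, hQ]; ring)
    · refine pow_le_pow_left₀ hB0 ?_ 2 |>.trans (le_of_eq (neg_sq A))
      have hp : 0 ≤ Z * C.D.q := by positivity
      have hp2 : 0 ≤ Z * w * (3 * w) := by positivity
      rw [hBdef]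
      linarith
  refine le_trans ?_ (mul_le_mul_of_nonneg_left hAB (by norm_num))
  rw [hBdef, mul_pow, mul_pow]
  have hkey : 2 * Z ^ 2 ≤ ((C.D.q : ℝ) + 1 - 3 * w) ^ 2 := by
    rw [show Z = ((C.D.q : ℝ) - 1) / 2 by linarith, hQ]
    obtain ⟨e, he, rfl⟩ : ∃ e : ℝ, 0 ≤ e ∧ w = e + 3 := ⟨w - 3, by linarith, by ring⟩
    nlinarith [pow_nonneg he 2, pow_nonneg he 3, pow_nonneg he 4]
  calc 2 * (C.D.q : ℝ) * (Z ^ 2) ^ 2 = 3 * (Z ^ 2 * w ^ 2 * (2 * Z ^ 2)) := by rw [hQ]; ring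
    _ ≤ _ := by gcongr

/-- In each column one of the two further characters vanishes at an element of prime order dividing `q² - q + 1`. -/
theorem rest_vanish (hV : Vals C u v z r s) (R : ReeCfg C) {p : ℕ} (hp : p.Prime) (hpW : p ∣ reeW C) {x : G}
    (hx : orderOf x = p) (i : Fin 2) : (r i : G → ℂ) x = 0 ∨ (s i : G → ℂ) x = 0 := by
  have hB := hV.conf.sB i
  obtain ⟨hp3, hpq, -, hpq1⟩ := not_dvd_of_dvd_reeW R hp hpW
  have hp' := Nat.prime_iff_prime_int.mp hp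
  obtain ⟨-, -, hsum⟩ := hV.T_rest R i
  have hpr := hV.prod_rest R i
  set A := C.vb i (r i) * C.deg (r i) with hA
  set B := C.vb i (s i) * C.deg (s i) with hBd
  set Q : ℤ := ((p ^ (Nat.card G).factorization p : ℕ) : ℤ) with hQ
  have hfull : Q ∣ (reeW C : ℤ) :=
    Int.natCast_dvd_natCast.2 (by rw [factorization_reeW R hp hpW]; exact Nat.ordProj_dvd _ _)
  have hdiv : Q ∣ 3 * (A * B) := by rw [hpr]; exact (dvd_mul_of_dvd_right hfull _).neg_right
  have hcop : ∀ n : ℤ, ¬ (p : ℤ) ∣ n → IsCoprime Q n := fun n hn => by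
    rw [hQ]; push_cast
    exact ((Prime.coprime_iff_not_dvd hp').2 hn).pow_left
  have h3 : ¬ (p : ℤ) ∣ 3 := fun e =>
    hp3 ((Nat.prime_dvd_prime_iff_eq hp Nat.prime_three).1 (Int.natCast_dvd_natCast.1 e))
  have hAB := (hcop 3 h3).dvd_of_dvd_mul_left hdiv
  have unit : ∀ {c : IrrCharacter G} {n : ℤ}, (C.vb i c = 1 ∨ C.vb i c = -1) →
      (n ∣ C.vb i c * C.deg c → n ∣ C.deg c) := by
    intro c n hc
    rcases hc with e | e <;> simp [e]
  by_cases hpA : (p : ℤ) ∣ A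
  · have hnB : ¬ (p : ℤ) ∣ B := by
      intro d2
      have d3 := dvd_add hpA d2
      rw [hsum, dvd_neg, show (C.D.q : ℤ) * C.D.q - C.D.q = (C.D.q : ℤ) * ((C.D.q - 1 : ℕ) : ℤ) by
        push_cast [Nat.cast_sub (show 1 ≤ C.D.q by have := R.seven_q; omega)]; ring] at d3
      rcases hp'.dvd_mul.1 d3 with e | e
      exacts [hpq (Int.natCast_dvd_natCast.1 e), hpq1 (Int.natCast_dvd_natCast.1 e)]
    exact Or.inl (vanish_of_pow_dvd hp hx (unit hB.hc ((hcop B hnB).dvd_of_dvd_mul_right hAB)))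
  · exact Or.inr (vanish_of_pow_dvd hp hx (unit hB.hd ((hcop A hpA).dvd_of_dvd_mul_left hAB)))

end Vals

/-- An inverted element of prime order dividing `q² - q + 1` has a small centraliser. -/
theorem cent_bound (R : ReeCfg C) {y : G} (hp : (orderOf y).Prime) (hpW : orderOf y ∣ reeW C)
    (hy : C.t * y * C.t⁻¹ = y⁻¹) {c : ℕ}
    (hc : Nat.card (Subgroup.centralizer ({y} : Set G) ⊓ Subgroup.centralizer ({C.t} : Set G) : Subgroup G) = c) :
    Nat.card (Subgroup.centralizer ({y} : Set G)) < 7 * C.D.q * c ^ 2 := by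
  classical
  set H := Subgroup.centralizer ({y} : Set G) with hH
  set K := H ⊓ Subgroup.centralizer ({C.t} : Set G) with hK
  set N := Nat.card H with hN
  have hc1 : 1 ≤ c := hc ▸ Nat.card_pos
  have htt : C.t * C.t = 1 := C.t_sq
  -- inverting involutions
  set n := Nat.card {g : G // g ∈ Cfg.invs G ∧ g⁻¹ * y ∈ Cfg.invs G} with hn
  have hpairs : ∀ h ∈ H, (h * C.t * h⁻¹) ∈ Cfg.invs G ∧ (h * C.t * h⁻¹)⁻¹ * y ∈ Cfg.invs G := by
    intro h hh
    have hhy : h * y = y * h := Subgroup.mem_centralizer_singleton_iff.mp hh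
    have hhy' : h⁻¹ * y * h = y := by rw [mul_assoc, ← hhy, inv_mul_cancel_left]
    have e1 : (h * C.t * h⁻¹) * (h * C.t * h⁻¹) = 1 := by
      rw [show h * C.t * h⁻¹ * (h * C.t * h⁻¹) = h * (C.t * C.t) * h⁻¹ by group, htt]; group
    have e2 : (h * C.t * h⁻¹)⁻¹ = h * C.t * h⁻¹ := inv_eq_of_mul_eq_one_right e1
    have e3 : h * C.t * h⁻¹ * y * (h * C.t * h⁻¹) = y⁻¹ := by
      rw [show h * C.t * h⁻¹ * y * (h * C.t * h⁻¹) = h * (C.t * (h⁻¹ * y * h) * C.t) * h⁻¹ by group, hhy',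
        show C.t * y * C.t = y⁻¹ by
          nth_rw 2 [← inv_eq_of_mul_eq_one_right htt]; exact hy]
      have : h * y⁻¹ = y⁻¹ * h := (Commute.inv_right hhy).eq
      rw [this, mul_inv_cancel_right]
    refine ⟨Cfg.mem_invs.mpr ⟨e1, fun e => C.t_ne (conj_eq_one_iff.mp e)⟩, Cfg.mem_invs.mpr ⟨?_, fun e => ?_⟩⟩
    · rw [e2, ← mul_assoc, e3, inv_mul_cancel]
    · rw [e2] at e
      have h1 : y = (h * C.t * h⁻¹)⁻¹ := eq_inv_of_mul_eq_one_right e
      rw [e2] at h1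
      have : y * y = 1 := by rw [h1]; exact e1
      have h2 := Nat.le_of_dvd two_pos (orderOf_dvd_of_pow_eq_one ((pow_two y).trans this))
      have h3 := hp.two_le
      have h4 : orderOf y = 2 := le_antisymm h2 h3
      obtain ⟨-, hq0, hq1, hq2⟩ := not_dvd_of_dvd_reeW R hp hpW
      rw [h4] at hq0 hq1 hq2
      have := R.seven_q
      omega
  have hcount : N ≤ n * c := by
    rw [hN, ← (K.subgroupOf H).index_mul_card, Nat.card_congr (Subgroup.subgroupOfEquivOfLe inf_le_left).toEquiv, hc]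
    refine Nat.mul_le_mul_right _ ?_
    rw [Subgroup.index_eq_card]
    refine Nat.card_le_card_of_injective (fun q => ⟨(q.out : G) * C.t * (q.out : G)⁻¹,
      hpairs _ q.out.2⟩) fun a b e => ?_
    have e' : (a.out : G) * C.t * (a.out : G)⁻¹ = (b.out : G) * C.t * (b.out : G)⁻¹ := congrArg Subtype.val e
    rw [← a.out_eq', ← b.out_eq', QuotientGroup.eq, Subgroup.mem_subgroupOf]
    refine Subgroup.mem_inf.mpr ⟨(a.out⁻¹ * b.out : H).2, Subgroup.mem_centralizer_singleton_iff.mpr ?_⟩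
    show (a.out : G)⁻¹ * b.out * C.t = C.t * ((a.out : G)⁻¹ * b.out)
    calc (a.out : G)⁻¹ * b.out * C.t = (a.out : G)⁻¹ * ((b.out : G) * C.t * (b.out : G)⁻¹) * b.out := by group
      _ = C.t * ((a.out : G)⁻¹ * b.out) := by rw [← e']; group
  -- the equation
  obtain ⟨u, v, z, r, s, hV⟩ := exists_vals R
  have h := hV.conf
  have hsel : ∀ i, ∃ a : IrrCharacter G, (a = r i ∨ a = s i) ∧ C.va a = 0 ∧ (∀ j, i ≠ j → C.vb j a = 0) ∧
      C.vb i a ≠ 0 ∧ ∀ χ, χ = r i ∨ χ = s i → χ ≠ a → (χ : G → ℂ) y = 0 := by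
    intro i
    rcases hV.rest_vanish R hp hpW rfl i with e | e
    · exact ⟨s i, Or.inr rfl, h.s_a i, h.s_b i, by rcases (h.sB i).hd with e | e <;> omega,
        fun χ hχ hne => by rw [hχ.resolve_right hne]; exact e⟩
    · exact ⟨r i, Or.inl rfl, h.r_a i, h.r_b i, by rcases (h.sB i).hc with e | e <;> omega,
        fun χ hχ hne => by rw [hχ.resolve_left hne]; exact e⟩
  choose a ha hva hoth hne hvan using hsel
  have hu : C.va u ≠ 0 := by rcases h.sA.ha with e | e <;> omega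
  have hone : C.va (Blocks.oneIrr G) ≠ 0 := by rw [C.va_one]; norm_num
  have h01 : a 0 ≠ a 1 := fun e => hne 0 (by rw [e]; exact hoth 1 0 (by decide))
  have hua : ∀ i, u ≠ a i := fun i e => hu (e ▸ hva i)
  set S : Finset (IrrCharacter G) := {u, a 0, a 1} with hS
  have hout : ∀ χ : IrrCharacter G, χ ∉ insert (Blocks.oneIrr G) S → C.T χ = 0 ∨ (χ : G → ℂ) y = 0 := by
    intro χ hχ
    simp only [hS, Finset.mem_insert, Finset.mem_singleton, not_or] at hχ
    by_cases hT : C.T χ = 0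
    · exact Or.inl hT
    right
    rcases hV.cases R hT with e | e | ⟨i, e⟩ | e
    · exact absurd e hχ.1
    · exact absurd e hχ.2.1
    · refine hvan i χ e ?_
      fin_cases i
      exacts [hχ.2.2.1, hχ.2.2.2]
    · refine vanish_of_pow_dvd hp rfl ((Int.natCast_dvd_natCast.2 ?_).trans e)
      rw [factorization_reeW R hp hpW]
      exact Nat.ordProj_dvd _ _
  have h1S : Blocks.oneIrr G ∉ S := by
    simp only [hS, Finset.mem_insert, Finset.mem_singleton, not_or]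
    exact ⟨fun e => h.sA.ac e.symm, fun e => hone (e ▸ hva 0), fun e => hone (e ▸ hva 1)⟩
  set co : IrrCharacter G → ℝ := fun χ => (C.T χ : ℝ) ^ 2 / (C.deg χ : ℝ) with hco
  have hsum : (1 : ℂ) + ∑ χ ∈ S, (co χ : ℂ) * conj ((χ : G → ℂ) y) = ((C.Kq : ℝ) : ℂ) * (n : ℂ) := by
    have hKK : ((C.Kq : ℝ) : ℂ) = C.K := by rw [Cfg.Kq, Cfg.K]; push_cast; ring
    rw [hKK, hn, ← C.sum_sq_div y,
      ← Finset.sum_subset (Finset.subset_univ (insert (Blocks.oneIrr G) S)) fun χ _ hχ => by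
        rcases hout χ hχ with e | e
        · rw [C.T_spec, e]; simp
        · rw [e]; simp,
      Finset.sum_insert h1S]
    congr 1
    · simp [Blocks.oneIrr]
    · refine Finset.sum_congr rfl fun χ _ => ?_
      rw [C.T_spec, (C.deg_spec χ).1, hco]
      push_cast
      ring
  have hco2 : ∑ χ ∈ S, co χ ^ 2 ≤ 4 / (C.D.q : ℝ) := by
    have hq : (27 : ℝ) ≤ C.D.q := by exact_mod_cast R.seven_q
    rw [hS, Finset.sum_insert (by simp [hua]), Finset.sum_pair h01, le_div_iff₀ (by linarith)]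
    have hu2 : co u = 1 / (C.D.q : ℝ) := by
      rw [hco]; simp only
      rw [show (C.T u : ℝ) ^ 2 = (C.D.q : ℝ) ^ 2 by exact_mod_cast hV.T_sq_u,
        show (C.deg u : ℝ) = (C.D.q : ℝ) ^ 3 by exact_mod_cast hV.deg_u R]
      field_simp
    have hu3 : co u ^ 2 * C.D.q ≤ 1 := by
      rw [hu2, div_pow, one_pow, div_mul_eq_mul_div, one_mul, div_le_iff₀ (by positivity)]
      nlinarith
    have ha0 := hV.rest_small R 0 (a 0) (ha 0)
    have ha1 := hV.rest_small R 1 (a 1) (ha 1)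
    change 2 * (C.D.q : ℝ) * co (a 0) ^ 2 ≤ 3 at ha0
    change 2 * (C.D.q : ℝ) * co (a 1) ^ 2 ≤ 3 at ha1
    nlinarith
  have hnorm : ∑ χ ∈ S, ‖(χ : G → ℂ) y‖ ^ 2 ≤ (N : ℝ) := by
    refine (Finset.sum_le_sum_of_subset_of_nonneg (Finset.subset_univ S) fun _ _ _ => by positivity).trans
      (le_of_eq ?_)
    have h2 := sum_irr_mul_conj (G := G) y y
    rw [if_pos (IsConj.refl y)] at h2
    simp only [Complex.mul_conj, Complex.normSq_eq_norm_sq] at h2
    rw [← Complex.ofReal_sum] at h2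
    exact_mod_cast h2
  have hest : ((C.Kq : ℝ) * n - 1) ^ 2 ≤ 4 / (C.D.q : ℝ) * N := by
    have h3 : |(C.Kq : ℝ) * n - 1| ≤ ∑ χ ∈ S, |co χ| * ‖(χ : G → ℂ) y‖ := by
      rw [show |(C.Kq : ℝ) * n - 1| = ‖((((C.Kq : ℝ) * n - 1 : ℝ)) : ℂ)‖ by rw [Complex.norm_real, Real.norm_eq_abs]]
      rw [Complex.ofReal_sub, Complex.ofReal_mul, Complex.ofReal_natCast, Complex.ofReal_one, ← hsum,
        add_sub_cancel_left]
      refine (norm_sum_le _ _).trans (le_of_eq (Finset.sum_congr rfl fun χ _ => ?_))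
      rw [norm_mul, Complex.norm_real, Real.norm_eq_abs, Complex.norm_conj]
    calc ((C.Kq : ℝ) * n - 1) ^ 2 = |(C.Kq : ℝ) * n - 1| ^ 2 := (sq_abs _).symm
      _ ≤ (∑ χ ∈ S, |co χ| * ‖(χ : G → ℂ) y‖) ^ 2 := by gcongr
      _ ≤ (∑ χ ∈ S, |co χ| ^ 2) * ∑ χ ∈ S, ‖(χ : G → ℂ) y‖ ^ 2 := Finset.sum_mul_sq_le_sq_mul_sq _ _ _
      _ ≤ _ := by
          simp only [sq_abs]
          exact mul_le_mul hco2 hnorm (Finset.sum_nonneg fun _ _ => by positivity) (by positivity)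
  -- the conclusion
  by_contra hcon
  push Not at hcon
  have hq : (27 : ℝ) ≤ C.D.q := by exact_mod_cast R.seven_q
  have hqpos : (0 : ℝ) < C.D.q := by linarith
  have hW : (reeW C : ℝ) + 1 ≤ (C.D.q : ℝ) ^ 2 := by exact_mod_cast (reeW_le R).1
  have hWpos : (0 : ℝ) < reeW C := by
    have := (reeW_le R).2
    exact_mod_cast (show 0 < reeW C by omega)
  have hKq : 1 ≤ (C.Kq : ℝ) * C.D.q := by
    rw [Kq_eq R]; push_cast
    rw [div_mul_eq_mul_div, le_div_iff₀ (by positivity)]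
    nlinarith
  have hcpos : (1 : ℝ) ≤ c := by exact_mod_cast hc1
  have hcount' : (N : ℝ) ≤ n * c := by exact_mod_cast hcount
  have hcon' : 7 * (C.D.q : ℝ) * c ^ 2 ≤ N := by exact_mod_cast hcon
  obtain ⟨M, hM⟩ : ∃ M : ℝ, M = (N : ℝ) / (C.D.q * c) := ⟨_, rfl⟩
  have hMN : M * (C.D.q * c) = N := by rw [hM, div_mul_cancel₀]; positivity
  have hM7 : 7 * (c : ℝ) ≤ M := by
    rw [hM, le_div_iff₀ (by positivity)]
    nlinarith
  have hMK : M ≤ (C.Kq : ℝ) * n := by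
    rw [hM, div_le_iff₀ (by positivity)]
    nlinarith [mul_le_mul_of_nonneg_right hKq (show (0 : ℝ) ≤ n * c by positivity)]
  have h5 : (M - 1) ^ 2 ≤ 4 / (C.D.q : ℝ) * N :=
    (pow_le_pow_left₀ (by linarith) (by linarith) 2).trans hest
  rw [← hMN, show 4 / (C.D.q : ℝ) * (M * (C.D.q * c)) = 4 * c * M by field_simp] at h5
  nlinarith [mul_le_mul_of_nonneg_left hM7 (show (0 : ℝ) ≤ M by linarith)]

end CfsgLib.WalterUse
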