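import Cfsg.Agent.Lib.WalterUse.ReePairs
import Cfsg.Agent.Lib.JankoThompson.Cases

/-!
The degrees and the values at `t` of the characters with a non-zero value at `t` in the small Ree case.
-/

set_option autoImplicit false
set_option linter.unusedSectionVars false
set_option linter.style.haveILetI false

namespace CfsgLib.WalterUse

open Cfsg CfsgLib CfsgLib.CharTheory CfsgLib.JankoThompson

universe u v

variable {G : Type u} [Group G] [Fintype G] {L : Type v} [Group L] [Fintype L]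

/-- `q² - q + 1`. -/
def reeW (C : Cfg G L) : ℕ := C.D.q * (C.D.q - 1) + 1

/-- The principal configuration with its values. -/
structure Vals (C : Cfg G L) (u v z : IrrCharacter G) (r s : Fin 2 → IrrCharacter G) : Prop where
  conf : Cfg.Conf1 C u v z r s
  degU : C.va u * C.deg u = (C.D.q : ℤ) ^ 3
  degV : C.va v * C.deg v = -((C.D.q : ℤ) * reeW C)
  degW : C.va z * C.deg z = -(reeW C : ℤ)
  Tu : C.va u * C.T u = C.D.q
  Tv : C.va v * C.T v = C.D.q
  Tz : C.va z * C.T z = 1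
  degP : C.Qv = (reeW C : ℤ) * ((C.D.q : ℤ) - 1) ∨ C.Qv = -((reeW C : ℤ) * ((C.D.q : ℤ) - 1))

variable {C : Cfg G L}

theorem Kq_eq (R : ReeCfg C) :
    C.Kq = ((C.D.q : ℚ) ^ 2 - 1) / ((C.D.q : ℚ) * (reeW C : ℚ)) := by
  have hq := R.seven_q
  have h1 : (1 : ℕ) ≤ C.D.q := by omega
  have hL : 2 * (Nat.card L : ℚ) = (C.D.q : ℚ) * ((C.D.q : ℚ) ^ 2 - 1) := by exact_mod_cast C.D.card
  have hq' : (27 : ℚ) ≤ C.D.q := by exact_mod_cast hq
  rw [Cfg.Kq, show (4 : ℚ) * (Nat.card L : ℚ) ^ 2 = (2 * (Nat.card L : ℚ)) ^ 2 by ring, hL, R.card, reeW]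
  push_cast [Nat.cast_sub h1]
  have hw : (C.D.q : ℚ) * ((C.D.q : ℚ) - 1) + 1 ≠ 0 := by nlinarith
  have h0 : (C.D.q : ℚ) ≠ 0 := by linarith
  have h2 : (C.D.q : ℚ) ^ 3 + 1 ≠ 0 := by positivity
  have h3 : (C.D.q : ℚ) - 1 ≠ 0 := by linarith
  rw [div_eq_div_iff (by positivity) (mul_ne_zero h0 hw)]
  ring

set_option maxHeartbeats 1000000 in
theorem exists_vals (R : ReeCfg C) : ∃ u v z r s, Vals C u v z r s := by
  classical
  obtain ⟨u, v, z, r, s, h, hv, hz⟩ : ∃ u v z r s, Cfg.Conf1 C u v z r s ∧ C.P v = C.va v ∧ C.P z = -C.va z := by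
    rcases C.exists_conf with ⟨u, v, z, r, s, h⟩ | ⟨u, v, r, s, h⟩
    · rcases h.P_cases with ⟨u', v', h', hv, hz⟩ | ⟨r', s', h', hP⟩
      · exact ⟨u', v', z, r, s, h', hv, hz⟩
      · exact (h'.caseB hP).elim
    · rcases h.P_cases with ⟨hv, hu, hr, hs⟩ | ⟨hs, -, -, -⟩
      · exact (h.false_v hv hu hr hs).elim
      · exact (h.false_s hs).elim
  refine ⟨u, v, z, r, s, ?_⟩
  have hdq : (C.D.δ : ℚ) = -1 := by rw [R.delta]; simp
  have uv := h.sA.hb
  have uz := h.sA.hd
  have uu := h.sA.ha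
  have hPv : C.P v ≠ 0 := by rw [hv]; rcases uv with e | e <;> rw [e] <;> norm_num
  have hPz : C.P z ≠ 0 := by rw [hz]; rcases uz with e | e <;> rw [e] <;> norm_num
  have hvz : v ≠ z := h.sA.bd
  have fu : C.Free u := C.free_va (by rcases uu with e | e <;> rw [e] <;> norm_num)
  have fv : C.Free v := C.free_P hPv
  have fz : C.Free z := C.free_P hPz
  have hq := C.q_eq
  have hzq := C.z_eq
  rw [hdq] at hq hzq
  have Tv : (C.T v : ℚ) = (C.va v : ℚ) * (C.D.q : ℚ) := by
    rw [C.T_of_unique fv (Or.inl hPv), h.v_eq, h.v_eq]; push_cast; rw [hdq, hq, hzq]; ring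
  have Tu : (C.T u : ℚ) = (C.va u : ℚ) * (C.D.q : ℚ) := by
    rw [C.T_of_unique fu (Or.inr fun χ' hP _ ha hb => by
      have hne : C.va χ' ≠ 0 := by rw [ha]; rcases uu with e | e <;> rw [e] <;> norm_num
      rcases h.sA.cov χ' hne with e | e | e | e
      · exact e
      · exact absurd (e ▸ hP) hPv
      · have := hb 0
        rw [e, C.vb_one, h.u_eq] at this
        rcases uu with a | a <;> omega
      · exact absurd (e ▸ hP) hPz), h.u_eq, h.u_eq]
    push_cast; rw [hdq, hq, hzq]; ring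
  have Tz : (C.T z : ℚ) = (C.va z : ℚ) * 1 := by
    rw [C.T_of_unique fz (Or.inl hPz), h.z_b, h.z_b]; simp
  obtain ⟨W, hW⟩ : ∃ W : ℚ, W = (C.va z : ℚ) * C.deg z := ⟨_, rfl⟩
  obtain ⟨V, hV⟩ : ∃ V : ℚ, V = (C.va v : ℚ) * C.deg v := ⟨_, rfl⟩
  obtain ⟨U, hU⟩ : ∃ U : ℚ, U = (C.va u : ℚ) * C.deg u := ⟨_, rfl⟩
  have hW0 : W ≠ 0 := hW ▸ C.unit_deg_ne uz z
  have hV0 : V ≠ 0 := hV ▸ C.unit_deg_ne uv v
  have hQ : (C.Qv : ℚ) = W - V := by
    rw [C.deg_P_eq hvz hPv hPz, hv, hz, hW, hV]; push_cast; ring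
  have hQ0 : (W - V : ℚ) ≠ 0 := hQ ▸ Int.cast_ne_zero.2 C.Qv_ne
  have hwP := C.wsum_P_eq hvz hPv hPz
  rw [hv, hz, Int.cast_neg, neg_mul, wterm uv Tv, wterm uz Tz, ← hV, ← hW, hQ] at hwP
  have hz2 : 2 * (C.D.z : ℚ) = C.D.q - 1 := by rw [hq, hzq]; ring
  have hVW : V = (C.D.q : ℚ) * W := by
    field_simp at hwP
    have : (V - (C.D.q : ℚ) * W) ^ 2 = 0 := by
      linear_combination hwP - (V * W * (2 * C.D.z + C.D.q - 1)) * hz2
    linarith [pow_eq_zero_iff (two_ne_zero) |>.1 this]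
  have hq0 : (C.D.q : ℚ) ≠ 0 := by linarith [C.two_le_q]
  have hW' : W = -(reeW C : ℚ) := by
    have hK := C.K_eq
    rw [hQ, hVW, Kq_eq R, hdq] at hK
    have hw : (reeW C : ℚ) ≠ 0 := by rw [reeW]; positivity
    have hq1 : (C.D.q : ℚ) - 1 ≠ 0 := by linarith [C.two_le_q]
    have hq2 : (C.D.q : ℚ) + 1 ≠ 0 := by linarith [C.two_le_q]
    field_simp at hK
    have : ((C.D.q : ℚ) - 1) * ((C.D.q : ℚ) + 1) * ((C.D.q : ℚ) - 1) * (W + reeW C) = 0 := by
      linear_combination (-1 : ℚ) * hK - (reeW C : ℚ) * ((C.D.q : ℚ) + 1) * (2 * C.D.z + C.D.q - 1) * hz2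
    rcases mul_eq_zero.mp this with h' | h'
    · simp [mul_eq_zero, hq1, hq2] at h'
    · linarith
  have hUe : U = -1 - V - W := by
    have e := congrArg (fun n : ℤ => (n : ℚ)) C.va_deg
    simp only [h.sA.dot_eq, C.va_one, C.deg_one] at e
    push_cast at e
    rw [hU, hV, hW]; linarith
  have hwc : (reeW C : ℚ) = (C.D.q : ℚ) * ((C.D.q : ℚ) - 1) + 1 := by
    rw [reeW]; push_cast [Nat.cast_sub (show 1 ≤ C.D.q by have := R.seven_q; omega)]; rfl
  refine ⟨h, ?_, ?_, ?_, ?_, ?_, ?_, ?_⟩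
  · apply Int.cast_injective (α := ℚ)
    push_cast; rw [← hU, hUe, hVW, hW', hwc]; ring
  · apply Int.cast_injective (α := ℚ)
    push_cast; rw [← hV, hVW, hW']; ring
  · apply Int.cast_injective (α := ℚ)
    push_cast; rw [← hW, hW']
  · apply Int.cast_injective (α := ℚ)
    push_cast; rw [Tu, ← mul_assoc, unit_sq uu, one_mul]
  · apply Int.cast_injective (α := ℚ)
    push_cast; rw [Tv, ← mul_assoc, unit_sq uv, one_mul]
  · apply Int.cast_injective (α := ℚ)
    push_cast; rw [Tz, ← mul_assoc, unit_sq uz, one_mul]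
  · left
    apply Int.cast_injective (α := ℚ)
    push_cast; rw [hQ, hVW, hW']; ring

/-- The degree divides the number of involutions times the value at `t`. -/
theorem deg_dvd (χ : IrrCharacter G) : C.deg χ ∣ ((Cfg.invs G).card : ℤ) * C.T χ := by
  classical
  obtain ⟨n, ρ, hirr, hχ⟩ := χ.2
  haveI := hirr
  have h := isIntegral_centralChar ρ C.t
  rw [← ρ.char_one, hχ, C.T_spec, (C.deg_spec χ).1] at h
  have hc : Nat.card {x : G // IsConj C.t x} = (Cfg.invs G).card := by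
    rw [← Nat.card_eq_finsetCard]
    refine Nat.card_congr (Equiv.subtypeEquivRight fun x => ?_)
    rw [Cfg.invs, Finset.mem_filter]
    exact ⟨fun hx => ⟨Finset.mem_univ _, by obtain ⟨g, rfl⟩ := isConj_iff.1 hx; rw [order_conj, C.t_ord]⟩,
      fun hx => isConj_iff.2 (C.all_conj x hx.2)⟩
  rw [hc] at h
  obtain ⟨m, hm⟩ := exists_int_of_isIntegral_ratCast (q := ((Cfg.invs G).card : ℚ) * (C.T χ : ℚ) / (C.deg χ : ℚ))
    (by push_cast; exact h)
  refine ⟨m, Int.cast_injective (α := ℚ) ?_⟩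
  push_cast
  rw [← hm]
  have := C.deg_ne χ
  field_simp

theorem card_invs_eq (R : ReeCfg C) : (Cfg.invs G).card = C.D.q ^ 2 * reeW C := by
  have h : ((Cfg.invs G).card : ℤ) * (2 * Nat.card L) = Nat.card G := by exact_mod_cast C.card_invs
  rw [C.D.card] at h
  have hq := R.seven_q
  have h1 : 1 ≤ C.D.q := by omega
  rw [R.card] at h
  push_cast [Nat.cast_sub h1] at h
  have hne : (C.D.q : ℤ) * ((C.D.q : ℤ) ^ 2 - 1) ≠ 0 := by
    refine mul_ne_zero (by omega) (ne_of_gt ?_)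
    nlinarith
  have : ((Cfg.invs G).card : ℤ) = (C.D.q : ℤ) ^ 2 * reeW C := by
    apply mul_right_cancel₀ hne
    rw [h, reeW]
    push_cast [Nat.cast_sub h1]
    ring
  exact_mod_cast this

theorem bool_of_unit {d a b : ℤ} (hd : d = 1 ∨ d = -1) (h : a - b = d) (h2 : a * a + b * b = 1) :
    ∃ c : ℤ, (c = 0 ∨ c = 1) ∧ a = c * d := by
  have ha : a ≤ 1 := by nlinarith
  have ha' : -1 ≤ a := by nlinarith
  rcases hd with rfl | rfl
  · obtain rfl | rfl | rfl : a = 0 ∨ a = 1 ∨ a = -1 := by omega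
    · exact ⟨0, Or.inl rfl, by ring⟩
    · exact ⟨1, Or.inr rfl, by ring⟩
    · rw [show b = -2 by omega] at h2; norm_num at h2
  · obtain rfl | rfl | rfl : a = 0 ∨ a = 1 ∨ a = -1 := by omega
    · exact ⟨0, Or.inl rfl, by ring⟩
    · rw [show b = 2 by omega] at h2; norm_num at h2
    · exact ⟨1, Or.inr rfl, by ring⟩

namespace Vals

variable {u v z : IrrCharacter G} {r s : Fin 2 → IrrCharacter G}

set_option maxHeartbeats 2000000 in
/-- The characters in the columns `φ_l` have degree `q³ + 1`. -/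
theorem deg_vl (hV : Vals C u v z r s) (R : ReeCfg C) {lam : C.D.Z →* ℂˣ} (hl : lam ≠ 1) {χ : IrrCharacter G}
    (hχ : C.vl lam χ ≠ 0) : C.deg χ = (C.D.q : ℤ) ^ 3 + 1 := by
  classical
  have h := hV.conf
  obtain ⟨a, b, hab, hDab, hvl⟩ := exists_pair (D := C.deg) (fun χ => (C.deg_spec χ).2) (C.vl_vl hl) (C.vl_deg lam)
  have hd : C.deg χ = C.deg a := by
    rcases eq_or_ne χ a with rfl | ha
    · rfl
    rcases eq_or_ne χ b with rfl | hb
    · exact hDab.symm
    exact absurd (by simp [hvl, ha, hb]) hχ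
  rw [hd]
  set e₁ := Blocks.oneIrr G with he₁
  set q : ℤ := ((C.D.q : ℕ) : ℤ) with hqdef
  set w : ℤ := (reeW C : ℤ) with hwdef
  have hq : (27 : ℤ) ≤ q := Int.ofNat_le.mpr R.seven_q
  have hw : w = q * q - q + 1 := by
    rw [hwdef, reeW]; push_cast [Nat.cast_sub (show 1 ≤ C.D.q by have := R.seven_q; omega)]; ring
  have hDu : C.deg u = q ^ 3 := by
    rcases h.sA.ha with e | e
    · have := hV.degU; rwa [e, one_mul] at this
    · have h1 := hV.degU; rw [e] at h1
      have := (C.deg_spec u).2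
      nlinarith
  have hDv : C.deg v = q * w := by
    rcases h.sA.hb with e | e
    · have h1 := hV.degV; rw [e, one_mul] at h1
      have := (C.deg_spec v).2
      nlinarith
    · have h1 := hV.degV; rw [e] at h1; linarith
  have hDz : C.deg z = w := by
    rcases h.sA.hd with e | e
    · have h1 := hV.degW; rw [e, one_mul] at h1
      have := (C.deg_spec z).2
      nlinarith
    · have h1 := hV.degW; rw [e] at h1; linarith
  have hq3 : 27 * (q * q) ≤ q ^ 3 := by nlinarith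
  have hq2 : 27 * q ≤ q * q := by nlinarith
  have hqw : q * w = q ^ 3 - q * q + q := by rw [hw]; ring
  -- the pair avoids the support of `va`
  have hva : C.va a = C.va b := by
    have h1 := C.vl_va hl
    rw [dotI_single hvl] at h1
    linarith
  have hva0 : C.va a = 0 := by
    by_contra hne
    have hb : C.va b ≠ 0 := hva ▸ hne
    refine hab ?_
    rcases h.sA.cov a hne with rfl | rfl | rfl | rfl <;> rcases h.sA.cov b hb with rfl | rfl | rfl | rfl <;>
      first | rfl | (exfalso; rw [C.deg_one] at hDab; omega) | (exfalso; omega)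
  have hvb0 : C.va b = 0 := hva ▸ hva0
  have hne : ∀ c, (c = u ∨ c = v ∨ c = e₁ ∨ c = z) → C.va c ≠ 0 := by
    rintro c (rfl | rfl | rfl | rfl)
    · rcases h.sA.ha with e | e <;> omega
    · rcases h.sA.hb with e | e <;> omega
    · rw [C.va_one]; norm_num
    · rcases h.sA.hd with e | e <;> omega
  have hna : ∀ c, (c = u ∨ c = v ∨ c = e₁ ∨ c = z) → c ≠ a ∧ c ≠ b := fun c hc =>
    ⟨fun e => hne c hc (e ▸ hva0), fun e => hne c hc (e ▸ hvb0)⟩
  -- pointwise shape of the two vectors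
  obtain ⟨n1, n2⟩ := norms R hl
  set d : IrrCharacter G → ℤ := fun c => C.vl lam c - C.va c with hd'
  set T6 : Finset (IrrCharacter G) := {u, v, e₁, z, a, b} with hT6
  have hd6 : ∀ c ∈ T6, d c = 1 ∨ d c = -1 := by
    intro c hc
    simp only [hT6, Finset.mem_insert, Finset.mem_singleton] at hc
    simp only [hd', hvl]
    rcases hc with hc | hc | hc | hc | hc | hc <;> rw [hc]
    · rw [if_neg (hna u (Or.inl rfl)).1, if_neg (hna u (Or.inl rfl)).2]
      rcases h.sA.ha with e | e <;> omega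
    · rw [if_neg (hna v (Or.inr (Or.inl rfl))).1, if_neg (hna v (Or.inr (Or.inl rfl))).2]
      rcases h.sA.hb with e | e <;> omega
    · rw [if_neg (hna e₁ (Or.inr (Or.inr (Or.inl rfl)))).1, if_neg (hna e₁ (Or.inr (Or.inr (Or.inl rfl)))).2,
        C.va_one]
      omega
    · rw [if_neg (hna z (Or.inr (Or.inr (Or.inr rfl)))).1, if_neg (hna z (Or.inr (Or.inr (Or.inr rfl)))).2]
      rcases h.sA.hd with e | e <;> omega
    · simp [hva0, hab]
    · simp [hvb0, hab.symm]
  have hd0 : ∀ c, c ∉ T6 → d c = 0 := by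
    intro c hc
    simp only [hT6, Finset.mem_insert, Finset.mem_singleton, not_or] at hc
    have : C.va c = 0 := by
      by_contra hne'
      rcases h.sA.cov c hne' with e | e | e | e
      exacts [hc.1 e, hc.2.1 e, hc.2.2.1 e, hc.2.2.2.1 e]
    simp [hd', hvl, this, hc.2.2.2.2.1, hc.2.2.2.2.2]
  have hcard : T6.card = 6 := by
    have e1 := hna u (Or.inl rfl)
    have e2 := hna v (Or.inr (Or.inl rfl))
    have e3 := hna e₁ (Or.inr (Or.inr (Or.inl rfl)))
    have e4 := hna z (Or.inr (Or.inr (Or.inr rfl)))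
    rw [hT6]
    simp [h.sA.ab, h.sA.ac, h.sA.ad, h.sA.bc, h.sA.bd, h.sA.cd, e1.1, e1.2, e2.1, e2.2, e3.1, e3.2, e4.1, e4.2, hab,
      show u ≠ e₁ from h.sA.ac, show v ≠ e₁ from h.sA.bc, show e₁ ≠ z from h.sA.cd]
  have hsq : ∀ c, vp C lam c * vp C lam c + vm C lam c * vm C lam c = if c ∈ T6 then 1 else 0 := by
    have hle : ∀ c, (if c ∈ T6 then (1 : ℤ) else 0) ≤ vp C lam c * vp C lam c + vm C lam c * vm C lam c := by
      intro c
      split_ifs with hc
      · have h1 := vp_sub_vm C lam c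
        rcases hd6 c hc with e | e <;> rw [hd'] at e <;> simp only at e <;> rw [e] at h1 <;>
          nlinarith [mul_self_nonneg (vp C lam c + vm C lam c)]
      · nlinarith [mul_self_nonneg (vp C lam c), mul_self_nonneg (vm C lam c)]
    have hsum : ∑ c : IrrCharacter G, (vp C lam c * vp C lam c + vm C lam c * vm C lam c) =
        ∑ c : IrrCharacter G, if c ∈ T6 then (1 : ℤ) else 0 := by
      rw [Finset.sum_add_distrib, ← dotI, ← dotI, n1, n2, Finset.sum_boole, Finset.filter_univ_mem, hcard]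
      norm_num
    exact fun c => ((Finset.sum_eq_sum_iff_of_le fun c _ => hle c).mp hsum.symm c (Finset.mem_univ c)).symm
  have hout : ∀ c, c ∉ T6 → vp C lam c = 0 := fun c hc => by
    have h1 := hsq c
    rw [if_neg hc] at h1
    nlinarith [mul_self_nonneg (vp C lam c), mul_self_nonneg (vm C lam c)]
  have hin : ∀ c ∈ T6, ∃ x : ℤ, (x = 0 ∨ x = 1) ∧ vp C lam c = x * d c := fun c hc => by
    have h1 := hsq c
    rw [if_pos hc] at h1
    exact bool_of_unit (hd6 c hc) (vp_sub_vm C lam c) h1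
  have mu : u ∈ T6 := by simp [hT6]
  have mv : v ∈ T6 := by simp [hT6]
  have mz : z ∈ T6 := by simp [hT6]
  have ma : a ∈ T6 := by simp [hT6]
  have mb : b ∈ T6 := by simp [hT6]
  obtain ⟨bu, hbu, eu⟩ := hin u mu
  obtain ⟨bv, hbv, ev⟩ := hin v mv
  obtain ⟨bz, hbz, ez⟩ := hin z mz
  obtain ⟨ba, hba, ea⟩ := hin a ma
  obtain ⟨bb, hbb, eb⟩ := hin b mb
  have e0 := (at_one R hl).1
  have hsum : ∀ f : IrrCharacter G → ℤ, dotI (vp C lam) f =
      bu * (d u * f u) + bv * (d v * f v) + (-1) * f e₁ + bz * (d z * f z) + ba * (d a * f a) + bb * (d b * f b) := by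
    intro f
    have e1 := hna u (Or.inl rfl)
    have e2 := hna v (Or.inr (Or.inl rfl))
    have e3 := hna e₁ (Or.inr (Or.inr (Or.inl rfl)))
    have e4 := hna z (Or.inr (Or.inr (Or.inr rfl)))
    rw [dotI, ← Finset.sum_subset (Finset.subset_univ T6) fun c _ hc => by rw [hout c hc, zero_mul], hT6,
      Finset.sum_insert (by simp [h.sA.ab, show u ≠ e₁ from h.sA.ac, h.sA.ad, e1.1, e1.2]),
      Finset.sum_insert (by simp [show v ≠ e₁ from h.sA.bc, h.sA.bd, e2.1, e2.2]),
      Finset.sum_insert (by simp [show e₁ ≠ z from h.sA.cd, e3.1, e3.2]),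
      Finset.sum_insert (by simp [e4.1, e4.2]), Finset.sum_pair hab, e0, eu, ev, ez, ea, eb]
    ring
  have du : d u = -C.va u := by simp [hd', hvl, hna u (Or.inl rfl)]
  have dv : d v = -C.va v := by simp [hd', hvl, hna v (Or.inr (Or.inl rfl))]
  have dz : d z = -C.va z := by simp [hd', hvl, hna z (Or.inr (Or.inr (Or.inr rfl)))]
  have da : d a = 1 := by simp [hd', hvl, hva0, hab]
  have db : d b = -1 := by simp [hd', hvl, hvb0, hab.symm]
  have hthree : bu + bv + bz + ba + bb = 2 := by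
    have h3 := n1
    rw [hsum, eu, ev, ez, ea, eb, e0] at h3
    have q1 : ∀ x : ℤ, (x = 0 ∨ x = 1) → ∀ e : ℤ, (e = 1 ∨ e = -1) → x * (e * (x * e)) = x := by
      rintro x (rfl | rfl) e (rfl | rfl) <;> norm_num
    rw [q1 bu hbu _ (hd6 u mu), q1 bv hbv _ (hd6 v mv), q1 bz hbz _ (hd6 z mz), q1 ba hba _ (hd6 a ma),
      q1 bb hbb _ (hd6 b mb)] at h3
    linarith
  have E1 : -1 - bu * q ^ 3 + bv * (q * w) + bz * w + (ba - bb) * C.deg a = 0 := by
    have h1 := (degrees R lam).1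
    rw [hsum, C.deg_one, du, dv, dz, da, db, ← hDab] at h1
    linear_combination h1 + bu * hV.degU + bv * hV.degV + bz * hV.degW
  have E2 : -1 - bu * q - bv * q - bz + ba * C.T a - bb * C.T b = 0 := by
    have h1 := dot_T R lam
    rw [hsum, C.T_one, du, dv, dz, da, db] at h1
    linear_combination h1 + bu * hV.Tu + bv * hV.Tv + bz * hV.Tz
  have hDpos := (C.deg_spec a).2
  -- the two false cases
  have key : ∀ D : ℤ, D = C.deg b → D ∣ q ^ 2 * w * C.T b := fun D hD => by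
    have h1 := deg_dvd (C := C) b
    rw [card_invs_eq R] at h1
    push_cast at h1
    rw [hD]; exact h1
  have badv : bv = 1 → bb = 1 → False := by
    intro h1 h2
    have h0 : bu = 0 ∧ bz = 0 ∧ ba = 0 := by omega
    rw [h1, h2, h0.1, h0.2.1, h0.2.2] at E1 E2
    have hb : C.T b = -(1 + q) := by linarith
    obtain ⟨c, hc⟩ := key (q * w - 1) (by rw [← hDab]; linarith)
    rw [hb] at hc
    have h4 : q ^ 2 + 1 ∣ q ^ 2 * w * -(1 + q) := by
      refine ⟨(q - 1) * c, ?_⟩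
      rw [hc, hw]; ring
    have h5 : q ^ 2 * w * -(1 + q) = (q ^ 2 + 1) * (-q ^ 3 + q - 1) + -(q - 1) := by rw [hw]; ring
    rw [h5] at h4
    have h6 := Int.le_of_dvd (by linarith) (dvd_neg.mp ((Int.dvd_add_right (dvd_mul_right _ _)).mp h4))
    nlinarith
  have badz : bz = 1 → bb = 1 → False := by
    intro h1 h2
    have h0 : bu = 0 ∧ bv = 0 ∧ ba = 0 := by omega
    rw [h1, h2, h0.1, h0.2.1, h0.2.2] at E1 E2
    have hb : C.T b = -2 := by linarith
    obtain ⟨c, hc⟩ := key (w - 1) (by rw [← hDab]; linarith)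
    rw [hb] at hc
    have h4 : q - 1 ∣ q ^ 2 * w * -2 := by
      refine ⟨q * c, ?_⟩
      rw [hc, hw]; ring
    have h5 : q ^ 2 * w * -2 = (q - 1) * (-2 * q ^ 3 - 2 * q - 2) + -2 := by rw [hw]; ring
    rw [h5] at h4
    have h6 := Int.le_of_dvd (by norm_num) (dvd_neg.mp ((Int.dvd_add_right (dvd_mul_right _ _)).mp h4))
    omega
  rcases hbu with rfl | rfl <;> rcases hbv with rfl | rfl <;> rcases hbz with rfl | rfl <;>
    rcases hba with rfl | rfl <;> rcases hbb with rfl | rfl <;>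
    first
      | omega
      | exact (badv rfl rfl).elim
      | exact (badz rfl rfl).elim
      | (simp only [zero_mul, one_mul, sub_zero, zero_sub, add_zero, zero_add, sub_self] at E1; omega)

end Vals

end CfsgLib.WalterUse
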