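import Cfsg.Agent.Lib.WalterUse.ReeThree

/-!
The small Ree case with abelian Sylow 3-subgroups: `|N(P)| ≤ q³(q - 1)` and `C(u) = P⟨t⟩` for `u` in `U#`.
-/

set_option autoImplicit false
set_option linter.unusedSectionVars false
set_option linter.style.haveILetI false

namespace CfsgLib.WalterUse

open Cfsg CfsgLib CfsgLib.CharTheory CfsgLib.JankoThompson

universe u v

variable {G : Type u} [Group G] [Fintype G] {L : Type v} [Group L] [Fintype L] {C : Cfg G L}

theorem TSplit.card_le {H X : Subgroup G} (S : TSplit C H X) : Nat.card H ≤ Nat.card X * 2 := by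
  classical
  rw [show (2 : ℕ) = Nat.card (Fin 2) from (Nat.card_fin 2).symm, ← Nat.card_prod]
  refine Nat.card_le_card_of_injective
    (fun g : H => if h : (g : G) ∈ X then ((⟨g, h⟩ : X), (0 : Fin 2)) else
      (⟨(g : G) * C.t, (S.cover g g.2).resolve_left h⟩, 1)) fun a b hab => ?_
  simp only at hab
  split_ifs at hab with ha hb hb
  · exact Subtype.ext (congrArg (fun p => (p.1 : G)) hab :)
  · exact absurd (congrArg Prod.snd hab) (by simp)
  · exact absurd (congrArg Prod.snd hab) (by simp)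
  · exact Subtype.ext (mul_right_cancel (congrArg (fun p => (p.1 : G)) hab :))

/-- An inverted element of odd order that moves an inverted element to an inverted one centralises it. -/
theorem commute_of_inverts {H : Type*} [Group H] {τ i y : H} (ho : Odd (orderOf i)) (hi : τ * i * τ⁻¹ = i⁻¹)
    (hy : τ * y * τ⁻¹ = y⁻¹) (h : τ * (i * y * i⁻¹) * τ⁻¹ = (i * y * i⁻¹)⁻¹) : Commute i y := by
  have h1 : i⁻¹ * y⁻¹ * i = i * y⁻¹ * i⁻¹ := by
    rw [show τ * (i * y * i⁻¹) * τ⁻¹ = (τ * i * τ⁻¹) * (τ * y * τ⁻¹) * (τ * i * τ⁻¹)⁻¹ by group, hi, hy,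
      inv_inv] at h
    rw [h]; group
  have h2 : Commute (i ^ 2) y⁻¹ := by
    show i ^ 2 * y⁻¹ = y⁻¹ * i ^ 2
    rw [pow_two]
    calc i * i * y⁻¹ = i * (i * y⁻¹ * i⁻¹) * i := by group
      _ = i * (i⁻¹ * y⁻¹ * i) * i := by rw [h1]
      _ = y⁻¹ * (i * i) := by group
  obtain ⟨j, hj⟩ := ho
  have h4 := h2.inv_right.pow_left (j + 1)
  rwa [← pow_mul, show 2 * (j + 1) = orderOf i + 1 by omega, pow_succ, pow_orderOf_eq_one, one_mul, inv_inv] at h4

namespace TData

variable {P U : Subgroup G} (D : TData C P U)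
include D

theorem t_mem_norm : C.t ∈ Subgroup.normalizer (P : Set G) := Subgroup.mem_normalizer_fintype D.tP

theorem exists_norm_split : ∃ X, TSplit C (Subgroup.normalizer (P : Set G)) X :=
  exists_tSplit C _ D.t_mem_norm fun g hg hgt k hk => D.norm_t g hgt (fun x hx => by
    refine D.P_t _ ((Subgroup.mem_normalizer_iff.mp hg x).mp (D.UP hx)) ?_
    exact (hgt.mul_left (D.U_t x hx)).mul_left hgt.inv_left) k hk

/-- The normaliser has no prime divisor of `q² - q + 1`. -/
theorem norm_no_W {l : ℕ} (hl : l.Prime) (hW : l ∣ reeW C) :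
    ¬ l ∣ Nat.card (Subgroup.normalizer (P : Set G)) := by
  classical
  intro hd
  haveI := Fact.mk hl
  obtain ⟨X, S⟩ := D.exists_norm_split
  obtain ⟨g, hg⟩ := exists_prime_orderOf_dvd_card' l hd
  have hgo : orderOf (g : G) = l := by rw [Subgroup.orderOf_coe, hg]
  have hgX : (g : G) ∈ X := S.odd_mem g g.2 (hgo ▸ hl.odd_of_ne_two (D.R.reeW_prime hl hW).2.1)
  have hlX : l ∣ Nat.card X := hgo ▸ Subgroup.orderOf_dvd_natCard X hgX
  have hnX : Subgroup.zpowers C.t ≤ Subgroup.normalizer (X : Set G) :=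
    Subgroup.zpowers_le.mpr (Subgroup.mem_normalizer_fintype fun x hx => S.norm _ D.t_mem_norm x hx)
  obtain ⟨Q, hQ⟩ := CfsgLib.coprime_exists_invariant_sylow hnX
    (by rw [Nat.card_zpowers, C.t_ord]; exact Nat.coprime_two_left.mpr S.odd) (Or.inl inferInstance) l
  set O := (Q : Subgroup X).map X.subtype with hO
  have hOp : IsPGroup l O := Q.2.map _
  have hinv := inverts_of_fpf C.t_sq O
    (fun x hx => (Subgroup.mem_normalizer_iff.mp (hQ (Subgroup.mem_zpowers _)) x).mp hx) (by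
      intro x hx hxt
      by_contra hx1
      obtain ⟨k, hk⟩ := hOp ⟨x, hx⟩
      obtain ⟨i, -, hi⟩ := (Nat.dvd_prime_pow hl).mp (orderOf_dvd_of_pow_eq_one
        (congrArg Subtype.val hk : x ^ l ^ k = 1))
      obtain ⟨i', rfl⟩ : ∃ i', i = i' + 1 := ⟨i - 1, by
        rcases i with _ | i
        · exact absurd (orderOf_eq_one_iff.mp (by rw [hi, pow_zero])) hx1
        · rfl⟩
      have ho : orderOf (x ^ l ^ i') = l := by
        rw [orderOf_pow' _ (pow_ne_zero _ hl.ne_zero), hi, Nat.gcd_eq_right (pow_dvd_pow l (by omega)), pow_succ,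
          Nat.mul_div_cancel_left _ (pow_pos hl.pos _)]
      exact D.R.W_not_comm (ho.symm ▸ hl) (ho.symm ▸ hW) C.t_ord (hxt.pow_left _))
  obtain ⟨y, hy⟩ := exists_prime_orderOf_dvd_card' l (Q.dvd_card_of_dvd_card hlX)
  set yG : G := ((y : X) : G)
  have hyo : orderOf yG = l := by rw [Subgroup.orderOf_coe, Subgroup.orderOf_coe, hy]
  exact D.no_norm (hyo.symm ▸ hl) (hyo.symm ▸ hW) (hinv yG ⟨y, y.2, rfl⟩) (S.le (y : X).2)

/-- The primes of the odd part of the normaliser are `3` and the divisors of `z`. -/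
theorem norm_primes {l : ℕ} (hl : l.Prime) (hd : l ∣ Nat.card (Subgroup.normalizer (P : Set G))) :
    l = 2 ∨ l = 3 ∨ l ∣ C.D.z := by
  classical
  rcases D.R.prime_G hl (hd.trans (Subgroup.card_subgroup_dvd_card _)) with e | e | e | e | e
  · exact Or.inl e
  · exact Or.inr (Or.inl e)
  · exact Or.inr (Or.inr e)
  · by_cases h2 : l = 2
    · exact Or.inl h2
    exfalso
    haveI := Fact.mk hl
    obtain ⟨g, hg⟩ := exists_prime_orderOf_dvd_card' l hd
    have hgo : orderOf (g : G) = l := by rw [Subgroup.orderOf_coe, hg]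
    have hfix : (P ⊓ Subgroup.centralizer ({(g : G)} : Set G) : Subgroup G) = ⊥ := by
      rw [Subgroup.eq_bot_iff_forall]
      intro x hx
      by_contra hx1
      obtain ⟨k, hk⟩ := D.Pp ⟨x, hx.1⟩
      obtain ⟨i, -, hi⟩ := (Nat.dvd_prime_pow Nat.prime_three).mp (orderOf_dvd_of_pow_eq_one
        (congrArg Subtype.val hk : x ^ 3 ^ k = 1))
      obtain ⟨i', rfl⟩ : ∃ i', i = i' + 1 := ⟨i - 1, by
        rcases i with _ | i
        · exact absurd (orderOf_eq_one_iff.mp (by rw [hi, pow_zero])) hx1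
        · rfl⟩
      have ho : orderOf (x ^ 3 ^ i') = 3 := by
        rw [orderOf_pow' _ (by positivity), hi, Nat.gcd_eq_right (pow_dvd_pow 3 (by omega)), pow_succ,
          Nat.mul_div_cancel_left _ (by positivity)]
      exact D.R.no_three_torus (hgo.symm ▸ hl) (Or.inr (hgo.symm ▸ e)) ho
        ((show Commute x (g : G) from Subgroup.mem_centralizer_singleton_iff.mp hx.2).pow_left _)
    have hmod := card_modEq_fixed P (g : G) hgo g.2
    rw [hfix, Subgroup.card_bot, D.cardP] at hmod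
    have h1 : l ∣ C.D.q ^ 3 - 1 :=
      (Nat.modEq_iff_dvd' (Nat.one_le_pow _ _ (by have := D.R.seven_q; omega))).mp hmod.symm
    have h3 : l ∣ C.D.q + 1 := by rw [D.R.q_y]; exact e.mul_left 4
    have h4 : (l : ℤ) ∣ 2 := by
      have a1 : (l : ℤ) ∣ (C.D.q : ℤ) ^ 3 - 1 := by
        have := Int.natCast_dvd_natCast.mpr h1
        push_cast [Nat.cast_sub (show 1 ≤ C.D.q ^ 3 from Nat.one_le_pow _ _ (by have := D.R.seven_q; omega))] at this
        exact this
      have a2 : (l : ℤ) ∣ (C.D.q : ℤ) + 1 := by exact_mod_cast h3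
      have := Int.dvd_sub (a2.mul_right ((C.D.q : ℤ) ^ 2 - C.D.q + 1)) a1
      ring_nf at this
      exact this
    exact h2 ((Nat.prime_dvd_prime_iff_eq hl Nat.prime_two).mp (by exact_mod_cast h4))
  · exact absurd hd (D.norm_no_W hl e)

theorem card_norm_le : Nat.card (Subgroup.normalizer (P : Set G)) ≤ C.D.q ^ 3 * (C.D.q - 1) := by
  classical
  obtain ⟨X, S⟩ := D.exists_norm_split
  refine S.card_le.trans ?_
  have hd : Nat.card X ∣ C.D.q ^ 3 * C.D.z := by
    have h0 : Nat.card X ∣ (C.D.q ^ 3 * C.D.z) * (2 ^ 3 * (C.D.y * reeW C)) := by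
      refine X.card_subgroup_dvd_card.trans (dvd_of_eq ?_)
      rw [D.R.card_eq]
      ring
    refine Nat.Coprime.dvd_of_dvd_mul_right (Nat.coprime_of_dvd' fun l hl hX h => ?_) h0
    exfalso
    have hl2 : l ≠ 2 := fun e => Nat.not_even_iff_odd.mpr S.odd (even_iff_two_dvd.mpr (e ▸ hX))
    rcases D.norm_primes hl (hX.trans (Subgroup.card_dvd_of_le S.le)) with e | e | e
    · exact hl2 e
    · subst e
      rcases Nat.prime_three.dvd_mul.mp h with h | h
      · exact absurd h (by norm_num)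
      rcases Nat.prime_three.dvd_mul.mp h with h | h
      · exact D.R.three_not_torus (dvd_mul_of_dvd_left (h.mul_left 2) _)
      · exact (not_dvd_of_dvd_reeW D.R Nat.prime_three h).1 rfl
    · rcases hl.dvd_mul.mp h with h | h
      · exact hl2 ((Nat.prime_dvd_prime_iff_eq hl Nat.prime_two).mp (hl.dvd_of_dvd_pow h))
      rcases hl.dvd_mul.mp h with h | h
      · have h1 : l ∣ C.D.q + 1 := by rw [D.R.q_y]; exact h.mul_left 4
        have h2 : l ∣ C.D.q - 1 := by rw [D.R.q_z, Nat.add_sub_cancel]; exact e.mul_left 2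
        have h3 := Nat.dvd_sub h1 h2
        rw [show C.D.q + 1 - (C.D.q - 1) = 2 by have := D.R.seven_q; omega] at h3
        exact hl2 ((Nat.prime_dvd_prime_iff_eq hl Nat.prime_two).mp h3)
      · exact (D.R.reeW_prime hl h).2.2.1 e
  have h0 : 0 < C.D.q ^ 3 * C.D.z := by
    have := D.R.seven_q
    exact Nat.mul_pos (by positivity) D.R.z_odd.pos
  calc Nat.card X * 2 ≤ C.D.q ^ 3 * C.D.z * 2 := Nat.mul_le_mul_right 2 (Nat.le_of_dvd h0 hd)
    _ = C.D.q ^ 3 * (C.D.q - 1) := by rw [D.R.q_z, Nat.add_sub_cancel]; ring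

/-- An element of the normaliser of odd order commuting with a non-trivial element of `P` lies in `P`. -/
theorem norm_cent_mem {x g : G} (hx : x ∈ P) (hx1 : x ≠ 1) (hg : g ∈ Subgroup.normalizer (P : Set G))
    (ho : Odd (orderOf g)) (hgx : Commute g x) : g ∈ P := by
  refine D.syl g hg ?_
  refine ⟨_, orderOf_dvd_iff_pow_eq_one.mp (dvd_of_eq
    (Nat.eq_prime_pow_of_unique_prime_dvd (orderOf_pos g).ne' fun {l} hl hd => ?_))⟩
  have hlo : orderOf (g ^ (orderOf g / l)) = l := orderOf_pow_orderOf_div (orderOf_pos g).ne' hd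
  rcases D.norm_primes hl (hlo ▸ Subgroup.orderOf_dvd_natCard _ (pow_mem hg _)) with e | e | e
  · subst e
    exact absurd hd (fun h => Nat.not_even_iff_odd.mpr ho (even_iff_two_dvd.mpr h))
  · exact e
  · exfalso
    obtain ⟨k, hk⟩ := D.Pp ⟨x, hx⟩
    obtain ⟨i, -, hi⟩ := (Nat.dvd_prime_pow Nat.prime_three).mp (orderOf_dvd_of_pow_eq_one
      (congrArg Subtype.val hk : x ^ 3 ^ k = 1))
    obtain ⟨i', rfl⟩ : ∃ i', i = i' + 1 := ⟨i - 1, by
      rcases i with _ | i
      · exact absurd (orderOf_eq_one_iff.mp (by rw [hi, pow_zero])) hx1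
      · rfl⟩
    have ho3 : orderOf (x ^ 3 ^ i') = 3 := by
      rw [orderOf_pow' _ (by positivity), hi, Nat.gcd_eq_right (pow_dvd_pow 3 (by omega)), pow_succ,
        Nat.mul_div_cancel_left _ (by positivity)]
    exact D.R.no_three_torus (hlo.symm ▸ hl) (Or.inl (hlo.symm ▸ e)) ho3 (hgx.symm.pow_pow _ _)

set_option maxHeartbeats 1600000 in
/-- The centraliser of a non-trivial element of `U` is `P⟨t⟩`. -/
theorem cent_u {u : G} (hu : u ∈ U) (hu1 : u ≠ 1) {g : G} (hg : Commute g u) : g ∈ P ∨ g * C.t ∈ P := by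
  classical
  haveI : Fact (Nat.Prime 3) := ⟨Nat.prime_three⟩
  set H := Subgroup.centralizer ({u} : Set G) with hH
  have hmem : ∀ {g}, g ∈ H ↔ Commute g u := fun {g} => Subgroup.mem_centralizer_singleton_iff
  have htH : C.t ∈ H := hmem.mpr (D.U_t u hu).symm
  obtain ⟨X, S⟩ := exists_tSplit C H htH fun g hg hgt k hk => D.norm_t g hgt (fun x hx => by
    rcases D.cent_tu u hu hu1 g hgt (hmem.mp hg) with h | h
    · exact mul_mem (mul_mem h hx) (inv_mem h)
    · have := mul_mem (mul_mem h hx) (inv_mem h)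
      rwa [show g * C.t * x * (g * C.t)⁻¹ = g * (C.t * x * C.t⁻¹) * g⁻¹ by group, (D.U_t x hx).symm.eq,
        mul_inv_cancel_right] at this) k hk
  have hPX : P ≤ X := fun x hx => S.odd_mem x (hmem.mpr (D.comm hx (D.UP hu))) (D.odd_of_mem hx)
  -- a Sylow 3-subgroup of `X`
  obtain ⟨m, -, hm⟩ := D.R.pow
  have hXf : Nat.card (P.subgroupOf X) = 3 ^ (Nat.card X).factorization 3 := by
    rw [Nat.card_congr (Subgroup.subgroupOfEquivOfLe hPX).toEquiv, D.cardP]
    have h1 := (Nat.factorization_le_iff_dvd Nat.card_pos.ne' Nat.card_pos.ne').mpr X.card_subgroup_dvd_card 3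
    have h2 : C.D.q ^ 3 ∣ Nat.card X := D.cardP ▸ Subgroup.card_dvd_of_le hPX
    rw [(D.R.factorization_three hm).1] at h1
    rw [hm, ← pow_mul] at h2 ⊢
    have h3 := (Nat.prime_three.pow_dvd_iff_le_factorization Nat.card_pos.ne').mp h2
    congr 1
    omega
  let Ps : Sylow 3 X := Sylow.ofCard (P.subgroupOf X) hXf
  have hnc : Subgroup.normalizer ((Ps : Subgroup X) : Set X) ≤ Subgroup.centralizer ((Ps : Subgroup X) : Set X) := by
    intro x hx a ha
    have hxN : (x : G) ∈ Subgroup.normalizer (P : Set G) := Subgroup.mem_normalizer_fintype fun b hb =>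
      (Subgroup.mem_normalizer_iff.mp hx ⟨b, hPX hb⟩).mp (Subgroup.mem_subgroupOf.mpr hb)
    have := D.norm_cent_mem (D.UP hu) hu1 hxN
      (S.odd.of_dvd_nat (Subgroup.orderOf_dvd_natCard X x.2)) (hmem.mp (S.le x.2))
    exact Subtype.ext (D.comm (show (a : G) ∈ P from ha) this).eq
  set f := MonoidHom.transferSylow Ps hnc with hf
  set O := f.ker.map X.subtype with hO
  have hcompl : Subgroup.IsComplement' f.ker (Ps : Subgroup X) := MonoidHom.ker_transferSylow_isComplement' Ps hnc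
  have hO3 : ¬ 3 ∣ Nat.card f.ker := MonoidHom.not_dvd_card_ker_transferSylow Ps hnc
  have hOmem : ∀ {x : G}, x ∈ O ↔ x ∈ X ∧ ¬ 3 ∣ orderOf x := by
    intro x
    constructor
    · rintro ⟨a, ha, rfl⟩
      refine ⟨a.2, fun h => hO3 ?_⟩
      rw [Subgroup.coe_subtype, Subgroup.orderOf_coe] at h
      exact h.trans (Subgroup.orderOf_dvd_natCard _ ha)
    · rintro ⟨hx, h3⟩
      refine ⟨⟨x, hx⟩, ?_, rfl⟩
      obtain ⟨k, hk⟩ := Ps.2 (f ⟨x, hx⟩)
      have h1 : orderOf (f ⟨x, hx⟩) ∣ 3 ^ k := orderOf_dvd_of_pow_eq_one hk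
      have h2 : orderOf (f ⟨x, hx⟩) ∣ orderOf x := (orderOf_map_dvd f _).trans (dvd_of_eq (Subgroup.orderOf_mk x hx))
      exact orderOf_eq_one_iff.mp (Nat.eq_one_of_dvd_coprimes
        ((Nat.prime_three.coprime_iff_not_dvd.mpr h3).pow_left k) h1 h2)
  have hOt : ∀ x ∈ O, C.t * x * C.t⁻¹ ∈ O := fun x hx => by
    obtain ⟨h1, h2⟩ := hOmem.mp hx
    exact hOmem.mpr ⟨S.norm _ htH x h1, by rwa [order_conj]⟩
  have hfix : ∀ x ∈ O, Commute x C.t → x = 1 := by
    intro x hx hxt
    obtain ⟨h1, h2⟩ := hOmem.mp hx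
    rcases D.cent_tu u hu hu1 x hxt (hmem.mp (S.le h1)) with h | h
    · by_contra hx1
      exact h2 (orderOf_eq_prime (D.U_three x h) hx1).symm.dvd
    · exfalso
      have hxH : x * C.t ∈ X := S.odd_mem _ (mul_mem (S.le h1) htH) (D.odd_of_mem (D.UP h))
      have ht : C.t ∈ X := by simpa using mul_mem (inv_mem h1) hxH
      have := S.odd.of_dvd_nat (Subgroup.orderOf_dvd_natCard X ht)
      rw [C.t_ord] at this
      exact absurd this (by decide)
  have hinv := inverts_of_fpf C.t_sq O hOt hfix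
  have hObot : O = ⊥ := by
    by_contra hne
    set l := (Nat.card O).minFac
    have hl : l.Prime := Nat.minFac_prime fun h => hne (Subgroup.eq_bot_of_card_eq _ h)
    haveI := Fact.mk hl
    obtain ⟨y, hy⟩ := exists_prime_orderOf_dvd_card' l (Nat.minFac_dvd _)
    have hyo : orderOf (y : G) = l := by rw [Subgroup.orderOf_coe, hy]
    obtain ⟨hyX, hy3⟩ := hOmem.mp y.2
    have hyu : Commute (y : G) u := hmem.mp (S.le hyX)
    have hu3 : orderOf u = 3 := orderOf_eq_prime (D.U_three u hu) hu1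
    have hW : orderOf (y : G) ∣ reeW C := by
      rw [hyo]
      rcases D.R.prime_G hl ((Nat.minFac_dvd _).trans O.card_subgroup_dvd_card) with e | e | e | e | e
      · exact absurd ((S.odd.of_dvd_nat (Subgroup.orderOf_dvd_natCard X hyX))) (by rw [hyo, e]; decide)
      · exact absurd (hyo.trans e).symm.dvd hy3
      · exact (D.R.no_three_torus (hyo.symm ▸ hl) (Or.inl (hyo.symm ▸ e)) hu3 hyu.symm).elim
      · exact (D.R.no_three_torus (hyo.symm ▸ hl) (Or.inr (hyo.symm ▸ e)) hu3 hyu.symm).elim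
      · exact e
    refine D.no_large (hyo.symm ▸ hl) hW (hinv y y.2) hu hu1 hyu.symm ?_
    -- the inverted part of `P` centralises `y`
    have hIy : D.inv ≤ Subgroup.centralizer ({(y : G)} : Set G) := fun i hi =>
      Subgroup.mem_centralizer_singleton_iff.mpr (commute_of_inverts (D.odd_of_mem hi.1) hi.2 (hinv y y.2)
        (hinv _ (hOmem.mpr ⟨mul_mem (mul_mem (hPX hi.1) hyX) (inv_mem (hPX hi.1)), by rwa [order_conj]⟩))).eq
    have hq : Nat.card (U ⊓ Subgroup.centralizer ({(y : G)} : Set G) : Subgroup G) ≤ C.D.q :=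
      D.cardU ▸ Subgroup.card_le_of_le inf_le_left
    have h := card_mul_le_of_disjoint (X := P ⊓ Subgroup.centralizer ({(y : G)} : Set G))
      (A := D.inv) (B := U ⊓ Subgroup.centralizer ({(y : G)} : Set G))
      (le_inf (fun x hx => hx.1) hIy) (inf_le_inf_right _ D.UP)
      (le_antisymm (fun x hx => D.inv_inf_U.le ⟨hx.1, hx.2.1⟩) bot_le)
    rw [D.card_inv] at h
    refine le_trans ?_ h
    rw [pow_two, pow_two, mul_assoc]
    exact Nat.mul_le_mul_left _ (Nat.mul_le_mul_right _ hq)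
  -- `X = P`
  have hker : f.ker = ⊥ := by
    rwa [hO, Subgroup.map_eq_bot_iff_of_injective _ X.subtype_injective] at hObot
  have hXP : ∀ x ∈ X, x ∈ P := by
    intro x hx
    obtain ⟨⟨a, b⟩, hab⟩ := hcompl.2 ⟨x, hx⟩
    have ha : (a : X) = 1 := (Subgroup.eq_bot_iff_forall _).mp hker a a.2
    simp only [ha, one_mul] at hab
    have hb : ((b : X) : G) ∈ P := b.2
    rwa [hab] at hb
  exact (S.cover g (hmem.mpr hg)).imp (hXP g) (hXP _)

end TData

end CfsgLib.WalterUse
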