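import Cfsg.Agent.Lib.WalterUse.TorusCent

/-!
The two induced vectors from `⟨t⟩ × Z`: both have norm three, and their difference is `φ_l - φ_a`.
-/

set_option autoImplicit false
set_option linter.unusedSectionVars false
set_option linter.style.haveILetI false

namespace CfsgLib.WalterUse

open Cfsg CfsgLib CfsgLib.CharTheory CfsgLib.JankoThompson
open scoped ComplexConjugate

universe u v

variable {G : Type u} [Group G] [Fintype G] {L : Type v} [Group L] [Fintype L] (C : Cfg G L)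

/-- The function induced from `Z`. -/
noncomputable def psi (lam : C.D.Z →* ℂˣ) : L → ℂ := indFun C.D.Z fun h => (lam h : ℂ) - 1

/-- The coefficient at the copy of `L`. -/
noncomputable def coefE (φ : L → ℂ) (χ : G → ℂ) : ℂ :=
  (Nat.card L : ℂ)⁻¹ * ∑ x : L, φ x * conj (χ (C.E x))

theorem φl_eq (lam : C.D.Z →* ℂˣ) : C.φl lam = C.D.φa + psi C lam := rfl

theorem psi_gen (lam : C.D.Z →* ℂˣ) : IsGeneralizedCharacter L (psi C lam) :=
  isGenChar_indFun C.D.Z (isGenChar_sub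
    (isGenChar_of_char (isCharacter_of_irr (isIrrCharacter_linear lam)))
    (isGenChar_of_char isCharacter_one))

theorem psi_even (lam : C.D.Z →* ℂˣ) (x : L) (hx : Even (orderOf x)) : psi C lam x = 0 := by
  have h := C.φl_even lam x hx
  rw [φl_eq, Pi.add_apply, C.D.even_a x hx, zero_add] at h
  exact h

/-- `psi` lives on the conjugates of the non-trivial elements of `Z`. -/
theorem psi_supp (lam : C.D.Z →* ℂˣ) (x : L) (hx : psi C lam x ≠ 0) :
    ∃ l : L, ∃ k ∈ C.D.Z, k ≠ 1 ∧ x = l * k * l⁻¹ := by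
  classical
  by_contra h
  push Not at h
  refine hx (mul_eq_zero_of_right _ (Finset.sum_eq_zero fun l _ => ?_))
  by_cases hm : l⁻¹ * x * l ∈ C.D.Z
  · rw [extendByZero_of_mem _ _ hm]
    by_cases h1 : l⁻¹ * x * l = 1
    · rw [show (⟨l⁻¹ * x * l, hm⟩ : C.D.Z) = 1 from Subtype.ext h1, map_one, Units.val_one, sub_self]
    · exact absurd (show x = l * (l⁻¹ * x * l) * l⁻¹ by group) (h l _ hm h1)
  · exact extendByZero_of_not_mem _ _ hm

theorem psi_at_one (lam : C.D.Z →* ℂˣ) : psi C lam 1 = 0 := by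
  by_contra h
  obtain ⟨l, k, -, hk1, e⟩ := psi_supp C lam 1 h
  exact hk1 (conj_eq_one_iff.mp e.symm)

theorem psi_norm {lam : C.D.Z →* ℂˣ} (h : lam ≠ 1) : classInner (psi C lam) (psi C lam) = 3 := by
  have e : psi C lam = C.φl lam - C.D.φa := by rw [φl_eq]; abel
  have h1 : classInner C.D.φa (C.φl lam) = 0 := C.D.la lam h
  have h2 : classInner (C.φl lam) C.D.φa = 0 := by rw [← classInner_comm, h1, map_zero]
  have h3 : classInner (C.φl lam) (C.φl lam) = 1 := C.D.ll lam h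
  rw [e, classInner_sub_left, classInner_sub_right, classInner_sub_right, h1, h2, h3, C.D.aa]
  norm_num

theorem psi_oneInner {lam : C.D.Z →* ℂˣ} (h : lam ≠ 1) : classInner (psi C lam) (fun _ => 1) = -1 := by
  classical
  obtain ⟨k, hk⟩ : ∃ k, lam k ≠ 1 := by
    by_contra hc; push Not at hc; exact h (MonoidHom.ext hc)
  have hs : ∑ k : C.D.Z, (lam k : ℂ) = 0 := by
    have e : (lam k : ℂ) * ∑ a : C.D.Z, (lam a : ℂ) = ∑ a : C.D.Z, (lam a : ℂ) := by
      rw [Finset.mul_sum]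
      exact Fintype.sum_bijective (k * ·) (Group.mulLeft_bijective k) _ _ fun a => by simp
    have h2 : ((lam k : ℂ) - 1) * ∑ a : C.D.Z, (lam a : ℂ) = 0 := by rw [sub_mul, e, one_mul, sub_self]
    exact (mul_eq_zero.1 h2).resolve_left fun e1 => hk (Units.ext (sub_eq_zero.1 e1))
  have hz : (Nat.card C.D.Z : ℂ) ≠ 0 := Nat.cast_ne_zero.2 Nat.card_pos.ne'
  rw [psi, frobenius_reciprocity _ _ (fun _ _ => rfl)]
  simp only [classInner, map_one, mul_one, Finset.sum_sub_distrib, hs, zero_sub, Finset.sum_const,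
    Finset.card_univ, nsmul_eq_mul, ← Nat.card_eq_fintype_card]
  field_simp

theorem sum_coefE_mul_apply (φ : L → ℂ) (g : G) :
    ∑ χ : IrrCharacter G, coefE C φ (χ : G → ℂ) * (χ : G → ℂ) g = (Nat.card L : ℂ)⁻¹ *
      ∑ x : L, φ x * (Nat.card {z : G // z * g * z⁻¹ = C.E x} : ℂ) := by
  have hx : ∀ x : L, φ x * (Nat.card {z : G // z * g * z⁻¹ = C.E x} : ℂ) =
      ∑ χ : IrrCharacter G, φ x * conj ((χ : G → ℂ) (C.E x)) * (χ : G → ℂ) g := fun x => by
    rw [← Cfg.sum_irr_eq_card, Finset.mul_sum]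
    exact Finset.sum_congr rfl fun χ _ => by ring
  simp only [hx, coefE, Finset.mul_sum, Finset.sum_mul]
  rw [Finset.sum_comm]
  exact Finset.sum_congr rfl fun x _ => Finset.sum_congr rfl fun χ _ => by ring

/-- The pairing of two column combinations. -/
theorem sum_col_pair {φ ψ : L → ℂ} (f f' : L → G) :
    ∑ χ : IrrCharacter G, ((Nat.card L : ℂ)⁻¹ * ∑ x : L, φ x * conj ((χ : G → ℂ) (f x))) *
        conj ((Nat.card L : ℂ)⁻¹ * ∑ x : L, ψ x * conj ((χ : G → ℂ) (f' x))) =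
      (Nat.card L : ℂ)⁻¹ * ((Nat.card L : ℂ)⁻¹ * ∑ x : L, ∑ x' : L, φ x * conj (ψ x') *
        (Nat.card {z : G // z * f' x' * z⁻¹ = f x} : ℂ)) := by
  have h1 : ∀ χ : IrrCharacter G, ((Nat.card L : ℂ)⁻¹ * ∑ x : L, φ x * conj ((χ : G → ℂ) (f x))) *
      conj ((Nat.card L : ℂ)⁻¹ * ∑ x : L, ψ x * conj ((χ : G → ℂ) (f' x))) =
      ∑ x : L, ∑ x' : L, (Nat.card L : ℂ)⁻¹ * ((Nat.card L : ℂ)⁻¹ * (φ x * conj (ψ x') *
        ((χ : G → ℂ) (f' x') * conj ((χ : G → ℂ) (f x))))) := by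
    intro χ
    simp only [map_mul, map_inv₀, map_natCast, map_sum, Complex.conj_conj, Finset.mul_sum, Finset.sum_mul]
    rw [Finset.sum_comm]
    exact Finset.sum_congr rfl fun x _ => Finset.sum_congr rfl fun x' _ => by ring
  rw [Finset.sum_congr rfl fun χ _ => h1 χ, Finset.sum_comm]
  simp only [← Cfg.sum_irr_eq_card, Finset.mul_sum]
  refine Finset.sum_congr rfl fun x _ => ?_
  rw [Finset.sum_comm]

theorem exists_plus (lam : C.D.Z →* ℂˣ) (χ : IrrCharacter G) :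
    ∃ n : ℤ, (coefE C (psi C lam) (χ : G → ℂ) + C.coef (psi C lam) (χ : G → ℂ)) / 2 = n := by
  obtain ⟨a, b, ha, hb, hab⟩ := psi_gen C lam
  have hχ : IsCharacter (M2 × L) (fun p => (χ : G → ℂ) (C.ΦC p)) :=
    isCharacter_comp (isCharacter_of_irr χ.2) C.ΦC
  obtain ⟨n, hn⟩ := classInner_char_nat (isCharacter_comp ha (MonoidHom.snd M2 L)) hχ
  obtain ⟨m, hm⟩ := classInner_char_nat (isCharacter_comp hb (MonoidHom.snd M2 L)) hχ
  refine ⟨(n : ℤ) - m, ?_⟩
  push_cast
  rw [← hn, ← hm, ← classInner_sub_left, hab]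
  simp only [classInner, coefE, Cfg.coef, Fintype.sum_prod_type, sum_M2, Cfg.ΦC_zero, Cfg.ΦC_one,
    MonoidHom.coe_snd, Pi.sub_apply]
  rw [Nat.card_prod, show Nat.card M2 = 2 by simp [M2]]
  push_cast
  have := Cfg.cardL_ne (L := L)
  field_simp

/-- The vector induced from `1 × (λ - 1)`. -/
noncomputable def vp (lam : C.D.Z →* ℂˣ) (χ : IrrCharacter G) : ℤ := (exists_plus C lam χ).choose

/-- The vector induced from `sgn × (λ - 1)`. -/
noncomputable def vm (lam : C.D.Z →* ℂˣ) (χ : IrrCharacter G) : ℤ := vp C lam χ - (C.vl lam χ - C.va χ)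

theorem vp_spec (lam : C.D.Z →* ℂˣ) (χ : IrrCharacter G) :
    (vp C lam χ : ℂ) = (coefE C (psi C lam) (χ : G → ℂ) + C.coef (psi C lam) (χ : G → ℂ)) / 2 :=
  (exists_plus C lam χ).choose_spec.symm

theorem coef_psi (lam : C.D.Z →* ℂˣ) (χ : IrrCharacter G) :
    C.coef (psi C lam) (χ : G → ℂ) = (C.vl lam χ : ℂ) - C.va χ := by
  rw [← C.vl_spec, ← C.va_spec, φl_eq, C.coef_add]; ring

theorem vm_spec (lam : C.D.Z →* ℂˣ) (χ : IrrCharacter G) :
    (vm C lam χ : ℂ) = (coefE C (psi C lam) (χ : G → ℂ) - C.coef (psi C lam) (χ : G → ℂ)) / 2 := by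
  rw [vm, Int.cast_sub, Int.cast_sub, vp_spec, ← coef_psi]; ring

theorem vp_sub_vm (lam : C.D.Z →* ℂˣ) (χ : IrrCharacter G) :
    vp C lam χ - vm C lam χ = C.vl lam χ - C.va χ := by
  rw [vm]; ring

variable {C} (R : ReeCfg C)
include R

/-- Conjugation between two elements of the support happens in the centraliser of `t`. -/
theorem conj_supp (lam : C.D.Z →* ℂˣ) {x x' : L} (hx : psi C lam x ≠ 0) (hx' : psi C lam x' ≠ 0) {g : G}
    (hg : g * C.E x * g⁻¹ = C.E x') : Commute g C.t := by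
  obtain ⟨l, k, hk, hk1, rfl⟩ := psi_supp C lam x hx
  obtain ⟨l', k', hk', hk'1, rfl⟩ := psi_supp C lam x' hx'
  set g' := (C.E l')⁻¹ * g * C.E l with hg'
  have hgk : g' * C.E k * g'⁻¹ = C.E k' := by
    rw [map_mul, map_mul, map_inv, map_mul, map_mul, map_inv] at hg
    rw [hg', show (C.E l')⁻¹ * g * C.E l * C.E k * ((C.E l')⁻¹ * g * C.E l)⁻¹ =
      (C.E l')⁻¹ * (g * (C.E l * C.E k * (C.E l)⁻¹) * g⁻¹) * C.E l' by group, hg]
    group
  have h1 : Commute (g' * C.t * g'⁻¹) (C.E k') := by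
    rw [← hgk]; exact commute_conj (C.E_comm k) g'
  have h2 := R.cent_Z hk' hk'1 h1
  obtain ⟨⟨i, u⟩, hu⟩ := C.exists_ΦC h2
  rw [← hu] at h1
  have huZ : u ∈ C.D.Z := R.zf.cent k' hk' hk'1 u (C.E_inj.eq_iff.mp (by
    rcases C.ΦC_cases i u with e | e <;> rw [e] at h1 <;> rw [map_mul, map_mul]
    · exact h1.eq
    · refine mul_left_cancel (a := C.t) ?_
      rw [← mul_assoc, h1.eq, ← mul_assoc, ← mul_assoc, (C.E_comm k').eq]))
  have hsq : C.ΦC ((i, u) * (i, u)) = C.ΦC 1 := by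
    rw [map_mul, hu, map_one, show g' * C.t * g'⁻¹ * (g' * C.t * g'⁻¹) = g' * (C.t * C.t) * g'⁻¹ by group,
      C.t_sq]
    group
  have hu1 : u = 1 := eq_one_of_pow_coprime (m := 2) (n := C.D.z)
    (by rw [pow_two]; exact congrArg Prod.snd (C.ΦC_inj hsq))
    (by rw [← C.D.cardZ]; exact congrArg Subtype.val (pow_card_eq_one' (G := C.D.Z) (x := ⟨u, huZ⟩)))
    (Nat.coprime_two_left.mpr R.z_odd)
  have ht : g' * C.t * g'⁻¹ = C.t := by
    rcases C.ΦC_cases i u with e | e <;> rw [e, hu1, map_one] at hu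
    · exact absurd (conj_eq_one_iff.mp hu.symm) C.t_ne
    · rw [← hu, mul_one]
  have hgt : Commute g' C.t := mul_inv_eq_iff_eq_mul.mp ht
  rw [show g = C.E l' * g' * (C.E l)⁻¹ by rw [hg']; group]
  exact ((C.E_comm l').symm.mul_left hgt).mul_left (C.E_comm l).symm.inv_left

theorem card_transporterE (lam : C.D.Z →* ℂˣ) {x x' : L} (hx : psi C lam x ≠ 0) (hx' : psi C lam x' ≠ 0) :
    Nat.card {g : G // g * C.E x * g⁻¹ = C.E x'} = 2 * Nat.card {l : L // l * x * l⁻¹ = x'} := by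
  have hmk : ∀ (p : M2 × L), p.2 * x * p.2⁻¹ = x' → C.ΦC p * C.E x * (C.ΦC p)⁻¹ = C.E x' := by
    intro p hp
    rw [← C.ΦC_zero x, ← C.ΦC_zero x', ← map_inv, ← map_mul, ← map_mul]
    refine congrArg C.ΦC (Prod.ext ?_ hp)
    show p.1 * Multiplicative.ofAdd 0 * p.1⁻¹ = Multiplicative.ofAdd 0
    rw [mul_comm p.1, mul_inv_cancel_right]
  have e : Nat.card (M2 × {l : L // l * x * l⁻¹ = x'}) = Nat.card {g : G // g * C.E x * g⁻¹ = C.E x'} := by
    refine Nat.card_congr (Equiv.ofBijective (fun p => ⟨C.ΦC (p.1, p.2.1), hmk (p.1, p.2.1) p.2.2⟩) ⟨?_, ?_⟩)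
    · intro p p' h
      obtain ⟨h1, h2⟩ := Prod.ext_iff.1 (C.ΦC_inj (Subtype.ext_iff.1 h))
      exact Prod.ext h1 (Subtype.ext h2)
    · rintro ⟨g, hg⟩
      obtain ⟨⟨i, l⟩, rfl⟩ := C.exists_ΦC (conj_supp R lam hx hx' hg)
      refine ⟨(i, ⟨l, ?_⟩), rfl⟩
      rw [← C.ΦC_zero x, ← C.ΦC_zero x', ← map_inv, ← map_mul, ← map_mul] at hg
      exact (congrArg Prod.snd (C.ΦC_inj hg) :)
  rw [← e, Nat.card_prod]
  simp [M2]

theorem odd_supp (lam : C.D.Z →* ℂˣ) {x : L} (hx : psi C lam x ≠ 0) : Odd (orderOf x) :=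
  Nat.not_even_iff_odd.mp fun h => hx (psi_even C lam x h)

theorem sum_coefE_sq {lam : C.D.Z →* ℂˣ} (h : lam ≠ 1) :
    ∑ χ : IrrCharacter G, coefE C (psi C lam) (χ : G → ℂ) * conj (coefE C (psi C lam) (χ : G → ℂ)) = 6 := by
  classical
  have hψc := (isGenChar_iff_coeff_int.1 (psi_gen C lam)).1
  have key : ∀ x x' : L, psi C lam x * conj (psi C lam x') * (Nat.card {z : G // z * C.E x' * z⁻¹ = C.E x} : ℂ) =
      psi C lam x * (2 * (conj (psi C lam x') * (Nat.card {l : L // l * x * l⁻¹ = x'} : ℂ))) := by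
    intro x x'
    rcases eq_or_ne (psi C lam x) 0 with hx | hx
    · simp [hx]
    rcases eq_or_ne (psi C lam x') 0 with hx' | hx'
    · simp [hx']
    rw [card_transporterE R lam hx' hx, show Nat.card {l : L // l * x' * l⁻¹ = x} =
        Nat.card {l : L // l * x * l⁻¹ = x'} from Nat.card_congr (Equiv.subtypeEquiv (Equiv.inv L) fun l => by
      show _ ↔ l⁻¹ * x * l⁻¹⁻¹ = x'
      constructor <;> intro h <;> rw [← h] <;> group)]
    push_cast
    ring
  have hin : ∀ x : L, ∑ x' : L, psi C lam x * (2 * (conj (psi C lam x') *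
      (Nat.card {l : L // l * x * l⁻¹ = x'} : ℂ))) =
      psi C lam x * (2 * ((Nat.card L : ℂ) * conj (psi C lam x))) := fun x => by
    rw [← Finset.mul_sum, ← Finset.mul_sum,
      Cfg.sum_card_conj (ψ := fun a => conj (psi C lam a)) (fun a b => congrArg conj (hψc a b))]
  unfold coefE
  rw [sum_col_pair C.E C.E, Finset.sum_congr rfl fun x _ =>
    (Finset.sum_congr rfl fun x' _ => key x x').trans (hin x), show (6 : ℂ) = 2 * 3 by norm_num, ← psi_norm C h,
    classInner, Finset.mul_sum, Finset.mul_sum, Finset.mul_sum, Finset.mul_sum]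
  refine Finset.sum_congr rfl fun x _ => ?_
  have := Cfg.cardL_ne (L := L)
  field_simp

theorem sum_coefE_coef (lam : C.D.Z →* ℂˣ) :
    ∑ χ : IrrCharacter G, coefE C (psi C lam) (χ : G → ℂ) * conj (C.coef (psi C lam) (χ : G → ℂ)) = 0 := by
  classical
  unfold coefE Cfg.coef
  rw [sum_col_pair C.E (fun x => C.t * C.E x)]
  refine mul_eq_zero_of_right _ (mul_eq_zero_of_right _ (Finset.sum_eq_zero fun x _ => Finset.sum_eq_zero fun x' _ => ?_))
  rcases eq_or_ne (psi C lam x) 0 with hx | hx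
  · simp [hx]
  rcases eq_or_ne (psi C lam x') 0 with hx' | hx'
  · simp [hx']
  haveI : IsEmpty {z : G // z * (C.t * C.E x') * z⁻¹ = C.E x} := ⟨fun ⟨z, hz⟩ => by
    have h1 := C.pow_tE (m := orderOf x * orderOf x') ((odd_supp R lam hx).mul (odd_supp R lam hx'))
      (dvd_mul_left _ _) (x := x')
    have h2 : z * (C.t * C.E x') ^ (orderOf x * orderOf x') * z⁻¹ = C.E x ^ (orderOf x * orderOf x') := by
      rw [← conj_pow, hz]
    rw [h1, ← map_pow, pow_mul, pow_orderOf_eq_one, one_pow, map_one] at h2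
    exact C.t_ne (conj_eq_one_iff.mp h2)⟩
  rw [Nat.card_of_isEmpty, Nat.cast_zero, mul_zero]

theorem sum_coef_sq {lam : C.D.Z →* ℂˣ} (h : lam ≠ 1) :
    ∑ χ : IrrCharacter G, C.coef (psi C lam) (χ : G → ℂ) * conj (C.coef (psi C lam) (χ : G → ℂ)) = 6 := by
  rw [C.sum_coef_mul (psi_even C lam) (psi_even C lam) (isGenChar_iff_coeff_int.1 (psi_gen C lam)).1,
    psi_norm C h]
  norm_num

theorem norms {lam : C.D.Z →* ℂˣ} (h : lam ≠ 1) :
    dotI (vp C lam) (vp C lam) = 3 ∧ dotI (vm C lam) (vm C lam) = 3 := by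
  have h1 := sum_coefE_sq R h
  have h2 := sum_coefE_coef R lam
  have h3 := sum_coef_sq R h
  have h2' : ∑ χ : IrrCharacter G, C.coef (psi C lam) (χ : G → ℂ) * conj (coefE C (psi C lam) (χ : G → ℂ)) = 0 := by
    have h := congrArg conj h2
    simp only [map_sum, map_mul, Complex.conj_conj, map_zero] at h
    rw [← h]
    exact Finset.sum_congr rfl fun χ _ => mul_comm _ _
  constructor
  · refine Cfg.cast_dotI (fun χ => vp_spec C lam χ) (fun χ => vp_spec C lam χ) ?_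
    have e : ∀ χ : IrrCharacter G, (coefE C (psi C lam) (χ : G → ℂ) + C.coef (psi C lam) (χ : G → ℂ)) / 2 *
        conj ((coefE C (psi C lam) (χ : G → ℂ) + C.coef (psi C lam) (χ : G → ℂ)) / 2) =
        4⁻¹ * (coefE C (psi C lam) (χ : G → ℂ) * conj (coefE C (psi C lam) (χ : G → ℂ)) +
          coefE C (psi C lam) (χ : G → ℂ) * conj (C.coef (psi C lam) (χ : G → ℂ)) +
          C.coef (psi C lam) (χ : G → ℂ) * conj (coefE C (psi C lam) (χ : G → ℂ)) +
          C.coef (psi C lam) (χ : G → ℂ) * conj (C.coef (psi C lam) (χ : G → ℂ))) := fun χ => by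
      rw [map_div₀, map_add, map_ofNat]; ring
    rw [Finset.sum_congr rfl fun χ _ => e χ, ← Finset.mul_sum]
    simp only [Finset.sum_add_distrib, h1, h2, h2', h3]
    norm_num
  · refine Cfg.cast_dotI (fun χ => vm_spec C lam χ) (fun χ => vm_spec C lam χ) ?_
    have e : ∀ χ : IrrCharacter G, (coefE C (psi C lam) (χ : G → ℂ) - C.coef (psi C lam) (χ : G → ℂ)) / 2 *
        conj ((coefE C (psi C lam) (χ : G → ℂ) - C.coef (psi C lam) (χ : G → ℂ)) / 2) =
        4⁻¹ * (coefE C (psi C lam) (χ : G → ℂ) * conj (coefE C (psi C lam) (χ : G → ℂ)) -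
          coefE C (psi C lam) (χ : G → ℂ) * conj (C.coef (psi C lam) (χ : G → ℂ)) -
          C.coef (psi C lam) (χ : G → ℂ) * conj (coefE C (psi C lam) (χ : G → ℂ)) +
          C.coef (psi C lam) (χ : G → ℂ) * conj (C.coef (psi C lam) (χ : G → ℂ))) := fun χ => by
      rw [map_div₀, map_sub, map_ofNat]; ring
    rw [Finset.sum_congr rfl fun χ _ => e χ, ← Finset.mul_sum]
    simp only [Finset.sum_add_distrib, Finset.sum_sub_distrib, h1, h2, h2', h3]
    norm_num

theorem degrees (lam : C.D.Z →* ℂˣ) : dotI (vp C lam) C.deg = 0 ∧ dotI (vm C lam) C.deg = 0 := by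
  have hE : ∑ χ : IrrCharacter G, coefE C (psi C lam) (χ : G → ℂ) * (χ : G → ℂ) 1 = 0 := by
    rw [sum_coefE_mul_apply]
    refine mul_eq_zero_of_right _ (Finset.sum_eq_zero fun x _ => ?_)
    rcases eq_or_ne x 1 with rfl | hx
    · rw [psi_at_one, zero_mul]
    · haveI : IsEmpty {z : G // z * 1 * z⁻¹ = C.E x} := ⟨fun z => hx (C.E_inj (by
        rw [← z.2]; simp))⟩
      rw [Nat.card_of_isEmpty, Nat.cast_zero, mul_zero]
  have hd := C.sum_coef_deg (φ := psi C lam) (psi_even C lam)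
  constructor
  · refine Cfg.deg_orth C (fun χ => vp_spec C lam χ) ?_
    simp only [div_mul_eq_mul_div, add_mul, ← Finset.sum_div, Finset.sum_add_distrib, hE, hd]
    norm_num
  · refine Cfg.deg_orth C (fun χ => vm_spec C lam χ) ?_
    simp only [div_mul_eq_mul_div, sub_mul, ← Finset.sum_div, Finset.sum_sub_distrib, hE, hd]
    norm_num

theorem dot_T (lam : C.D.Z →* ℂˣ) : dotI (vp C lam) C.T = 0 := by
  have hE : ∑ χ : IrrCharacter G, coefE C (psi C lam) (χ : G → ℂ) * (χ : G → ℂ) C.t = 0 := by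
    rw [sum_coefE_mul_apply]
    refine mul_eq_zero_of_right _ (Finset.sum_eq_zero fun x _ => ?_)
    rcases eq_or_ne (psi C lam x) 0 with hx | hx
    · rw [hx, zero_mul]
    · haveI : IsEmpty {z : G // z * C.t * z⁻¹ = C.E x} := ⟨fun z => by
        have h := orderOf_injective C.E C.E_inj x
        rw [← z.2, order_conj, C.t_ord] at h
        exact Nat.not_even_iff_odd.mpr (odd_supp R lam hx) (h ▸ even_two)⟩
      rw [Nat.card_of_isEmpty, Nat.cast_zero, mul_zero]
  have hd := C.sum_coef_t (φ := psi C lam) (psi_even C lam)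
  rw [psi_at_one, mul_zero] at hd
  apply Int.cast_injective (α := ℂ)
  rw [dotI, Int.cast_sum, Int.cast_zero]
  simp only [Int.cast_mul, vp_spec, ← C.T_spec, div_mul_eq_mul_div, add_mul, ← Finset.sum_div,
    Finset.sum_add_distrib, hE, hd]
  norm_num

theorem at_one {lam : C.D.Z →* ℂˣ} (h : lam ≠ 1) :
    vp C lam (Blocks.oneIrr G) = -1 ∧ vm C lam (Blocks.oneIrr G) = 0 := by
  have hE : coefE C (psi C lam) (Blocks.oneIrr G : G → ℂ) = -1 := psi_oneInner C h
  have hd : C.coef (psi C lam) (Blocks.oneIrr G : G → ℂ) = -1 := by rw [C.coef_oneIrr, psi_oneInner C h]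
  constructor <;> apply Int.cast_injective (α := ℂ)
  · rw [vp_spec, hE, hd]; norm_num
  · rw [vm_spec, hE, hd]; norm_num

end CfsgLib.WalterUse
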