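import Cfsg.Agent.Lib.WalterUse.ReeCaseA
import Cfsg.Agent.Lib.RealAbove.Main
import Cfsg.Agent.Lib.CharTheory.RootDiv

/-!
The elements of prime order dividing `q² - q + 1` are real.
-/

set_option autoImplicit false
set_option linter.unusedSectionVars false
set_option linter.style.haveILetI false

namespace CfsgLib.WalterUse

open Cfsg CfsgLib CfsgLib.CharTheory CfsgLib.JankoThompson
open scoped ComplexConjugate

universe u v

variable {G : Type u} [Group G] [Fintype G] {L : Type v} [Group L] [Fintype L] {C : Cfg G L}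

/-- A congruence from a vanishing class algebra constant. -/
theorem dvd_sum_sq {p : ℕ} (hp : p.Prime) {x : G} (hx : x ^ p = 1)
    (hno : ∀ g : G, orderOf g = 2 → g * x * g⁻¹ ≠ x⁻¹) (S : Finset (IrrCharacter G))
    (hS : ∀ χ ∈ S, ¬ (p : ℤ) ∣ C.deg χ)
    (hout : ∀ χ, χ ∉ S → C.T χ = 0 ∨ (χ : G → ℂ) x = 0) :
    (p : ℤ) ∣ ∑ χ ∈ S, C.T χ ^ 2 := by
  classical
  have h0 : ∑ χ : IrrCharacter G, ((C.T χ : ℂ) ^ 2 * (χ : G → ℂ) x / (C.deg χ : ℂ)) = 0 := by
    have h := C.sum_sq_div x⁻¹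
    have hemp : IsEmpty {g : G // g ∈ Cfg.invs G ∧ g⁻¹ * x⁻¹ ∈ Cfg.invs G} := ⟨fun ⟨g, hg, hgx⟩ => by
      rw [Cfg.mem_invs] at hg hgx
      have hgi : g⁻¹ = g := inv_eq_of_mul_eq_one_right hg.1
      refine hno g (orderOf_eq_prime (pow_two g ▸ hg.1) hg.2) ?_
      have e := hgx.1
      rw [hgi] at e
      have e2 : g * x⁻¹ * g = x := by
        rw [← mul_inv_eq_one, ← e]
        group
      calc g * x * g⁻¹ = g * (g * x⁻¹ * g) * g⁻¹ := by rw [e2]
        _ = g * g * x⁻¹ := by group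
        _ = x⁻¹ := by rw [hg.1, one_mul]⟩
    rw [Nat.card_of_isEmpty, Nat.cast_zero, mul_zero] at h
    rw [← h]
    refine Finset.sum_congr rfl fun χ _ => ?_
    rw [C.T_spec, (C.deg_spec χ).1, Blocks.irr_inv χ x, Complex.conj_conj]
  rw [← Finset.sum_subset (Finset.subset_univ S) fun χ _ hχ => by
    rcases hout χ hχ with e | e <;> simp [e]] at h0
  obtain ⟨ζ, hζ⟩ : ∃ ζ : ℂ, IsPrimitiveRoot ζ p := ⟨_, Complex.isPrimitiveRoot_exp p hp.ne_zero⟩
  have hω : ∀ χ : IrrCharacter G, ∃ ω : ℂ, IsIntegral ℤ ω ∧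
      (χ : G → ℂ) x - (C.deg χ : ℂ) = (1 - ζ) * ω := fun χ => by
    obtain ⟨ω, h1, h2⟩ := value_congr_one_sub_root (isGenChar_of_char (isCharacter_of_irr χ.2)) hp hζ
      (y := 1) hx (by rw [mul_one, one_mul])
    exact ⟨ω, h1, by rw [← (C.deg_spec χ).1]; simpa using h2⟩
  choose ω hi he using hω
  set M : ℤ := ∏ χ ∈ S, C.deg χ
  have hM : ∀ χ ∈ S, (C.deg χ : ℂ) * ((M / C.deg χ : ℤ) : ℂ) = (M : ℂ) := fun χ hχ => by
    rw [← Int.cast_mul, Int.mul_ediv_cancel' (Finset.dvd_prod_of_mem _ hχ)]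
  have key : ((M * ∑ χ ∈ S, C.T χ ^ 2 : ℤ) : ℂ) =
      (1 - ζ) * -∑ χ ∈ S, (C.T χ : ℂ) ^ 2 * ((M / C.deg χ : ℤ) : ℂ) * ω χ := by
    have h1 : (M : ℂ) * ∑ χ ∈ S, (C.T χ : ℂ) ^ 2 * (χ : G → ℂ) x / (C.deg χ : ℂ) = 0 := by rw [h0, mul_zero]
    push_cast
    rw [mul_neg, Finset.mul_sum, Finset.mul_sum, eq_neg_iff_add_eq_zero, ← Finset.sum_add_distrib, ← h1,
      Finset.mul_sum]
    refine Finset.sum_congr rfl fun χ hχ => ?_
    have hd : (C.deg χ : ℂ) ≠ 0 := Int.cast_ne_zero.2 (C.deg_spec χ).2.ne'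
    rw [← hM χ hχ]
    field_simp
    linear_combination (-((C.T χ : ℂ) ^ 2 * ((M / C.deg χ : ℤ) : ℂ))) * he χ
  have hint : IsIntegral ℤ (-∑ χ ∈ S, (C.T χ : ℂ) ^ 2 * ((M / C.deg χ : ℤ) : ℂ) * ω χ) :=
    (IsIntegral.sum _ fun χ _ => (((isIntegral_algebraMap (R := ℤ) (x := C.T χ)).pow 2).mul
      (isIntegral_algebraMap (R := ℤ) (x := M / C.deg χ))).mul (hi χ)).neg
  have hdvd := prime_dvd_of_one_sub_root hp hζ hint key
  have hp' := Nat.prime_iff_prime_int.mp hp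
  rcases hp'.dvd_mul.1 hdvd with h | h
  · obtain ⟨χ, hχ, h'⟩ := hp'.exists_mem_finset_dvd h
    exact absurd h' (hS χ hχ)
  · exact h

/-- A character whose degree holds the `p`-part of the order vanishes at `x`. -/
theorem vanish_of_pow_dvd {p : ℕ} (hp : p.Prime) {x : G} (hx : orderOf x = p) {χ : IrrCharacter G}
    (h : ((p ^ (Nat.card G).factorization p : ℕ) : ℤ) ∣ C.deg χ) : (χ : G → ℂ) x = 0 := by
  haveI := Fact.mk hp
  refine CfsgLib.RealAbove.defect_zero_eq_zero χ ?_ hx.symm.dvd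
  obtain ⟨d, -, hd⟩ := irr_degree_pos χ.2
  have e : charDegree (χ : G → ℂ) = d := by simp [charDegree, hd]
  have e2 : C.deg χ = (d : ℤ) := Int.cast_injective (α := ℂ) (by
    rw [← (C.deg_spec χ).1, hd, Int.cast_natCast])
  rw [e2, Int.natCast_dvd_natCast] at h
  rwa [e]

theorem reeW_cast (R : ReeCfg C) : (reeW C : ℤ) = (C.D.q : ℤ) * C.D.q - C.D.q + 1 := by
  rw [reeW]
  push_cast [Nat.cast_sub (show 1 ≤ C.D.q by have := R.seven_q; omega)]
  ring

theorem card_factor (R : ReeCfg C) :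
    Nat.card G = C.D.q ^ 3 * (C.D.q + 1) * (C.D.q - 1) * reeW C := by
  have h1 : 1 ≤ C.D.q := by have := R.seven_q; omega
  rw [R.card, reeW]
  zify [h1]
  ring

/-- A prime dividing `q² - q + 1` divides neither `q` nor `3` nor `q ± 1`. -/
theorem not_dvd_of_dvd_reeW (R : ReeCfg C) {p : ℕ} (hp : p.Prime) (h : p ∣ reeW C) :
    p ≠ 3 ∧ ¬ p ∣ C.D.q ∧ ¬ p ∣ C.D.q + 1 ∧ ¬ p ∣ C.D.q - 1 := by
  obtain ⟨j, -, hj⟩ := R.pow
  have hq := R.seven_q
  have h3q : 3 ∣ C.D.q := hj ▸ dvd_pow_self 3 (by omega)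
  have hW : (p : ℤ) ∣ reeW C := Int.natCast_dvd_natCast.2 h
  rw [reeW_cast R] at hW
  have hne : ¬ p ∣ C.D.q := fun e => hp.not_dvd_one (by
    have := Int.dvd_sub hW (dvd_mul_of_dvd_left (Int.natCast_dvd_natCast.2 e) ((C.D.q : ℤ) - 1))
    ring_nf at this
    exact Int.natCast_dvd_natCast.1 (by simpa using this))
  have hp3 : p ≠ 3 := fun e => hne (e ▸ h3q)
  refine ⟨hp3, hne, fun e => ?_, fun e => ?_⟩
  · have e' : (p : ℤ) ∣ (C.D.q : ℤ) + 1 := by exact_mod_cast e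
    have := Int.dvd_sub hW (dvd_mul_of_dvd_left e' ((C.D.q : ℤ) - 2))
    ring_nf at this
    exact hp3 ((Nat.prime_dvd_prime_iff_eq hp Nat.prime_three).1 (Int.natCast_dvd_natCast.1 (by simpa using this)))
  · have e' : (p : ℤ) ∣ (C.D.q : ℤ) - 1 := by
      have h1 : 1 ≤ C.D.q := by omega
      have := Int.natCast_dvd_natCast.2 e
      rwa [Nat.cast_sub h1, Nat.cast_one] at this
    have := Int.dvd_sub hW (dvd_mul_of_dvd_left e' (C.D.q : ℤ))
    ring_nf at this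
    exact hp.not_dvd_one (Int.natCast_dvd_natCast.1 (by simpa using this))

theorem factorization_reeW (R : ReeCfg C) {p : ℕ} (hp : p.Prime) (h : p ∣ reeW C) :
    (Nat.card G).factorization p = (reeW C).factorization p := by
  obtain ⟨-, h1, h2, h3⟩ := not_dvd_of_dvd_reeW R hp h
  have hn : ¬ p ∣ C.D.q ^ 3 * (C.D.q + 1) * (C.D.q - 1) := by
    rw [hp.dvd_mul, hp.dvd_mul]
    rintro ((e | e) | e)
    exacts [h1 (hp.dvd_of_dvd_pow e), h2 e, h3 e]
  have hq := R.seven_q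
  have h0 : C.D.q ^ 3 * (C.D.q + 1) * (C.D.q - 1) ≠ 0 := fun e => hn (e ▸ dvd_zero p)
  rw [card_factor R, Nat.factorization_mul h0 (by rw [reeW]; omega), Finsupp.add_apply,
    Nat.factorization_eq_zero_of_not_dvd hn, zero_add]

namespace Vals

variable {u v z : IrrCharacter G} {r s : Fin 2 → IrrCharacter G}

/-- The characters in quartets have degree `|Qv|`. -/
theorem deg_not_free {χ : IrrCharacter G} (hχ : ¬ C.Free χ) : C.deg χ = C.Qv ∨ C.deg χ = -C.Qv := by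
  classical
  simp only [Cfg.Free, not_forall] at hχ
  obtain ⟨θ, hθ, k, hne⟩ := hχ
  have key : ∀ {θ' : C.D.Y →* ℂˣ} (Q : C.Quart θ') (k' : Fin 3), C.vZ k' θ' χ ≠ 0 →
      C.deg χ = C.deg Q.p := by
    intro θ' Q k' h
    rcases eq_or_ne χ Q.p with rfl | h1
    · rfl
    rcases eq_or_ne χ (Q.r k') with rfl | h2
    · exact Q.hdeg k'
    · exact absurd ((Q.spec k' χ).2.2 h1 h2) h
  have sgn : ∀ {θ' : C.D.Y →* ℂˣ} (Q : C.Quart θ'), Q.κ * C.deg Q.p = C.Qv →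
      C.deg Q.p = C.Qv ∨ C.deg Q.p = -C.Qv := by
    intro θ' Q h
    rcases Q.hκ with e | e <;> rw [e] at h
    · left; linarith
    · right; linarith
  by_cases ho : ∃ a, C.thAct a C.θ₀ = θ
  · obtain ⟨a, rfl⟩ := ho
    obtain ⟨k', hk'⟩ := muStep_iterate_some a.1 k
    have e : C.vZ k (C.thAct a C.θ₀) χ = C.vZ k' C.θ₀ χ := by
      have h1 := C.orbit_vc a none χ
      rw [muStep_iterate_none] at h1
      rw [Cfg.vZ, Cfg.vZ, h1, ← hk', C.orbit_vc]
    rw [e] at hne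
    rw [key C.Q₀ k' hne]
    exact sgn C.Q₀ rfl
  · push Not at ho
    obtain ⟨Q⟩ := C.nonempty_quart hθ
    rw [key Q k hne]
    refine sgn Q ?_
    have h1 : dotI C.deg (Q.rest 0) = dotI C.deg (C.Q₀.rest 0) := by
      rw [Cfg.Quart.rest_other C.Q₀ Q C.θ₀_ne hθ (C.not_orbit ho) ho]
    rw [Cfg.Quart.dot_rest, Cfg.Quart.dot_rest, dotI_comm, C.vc_deg, dotI_comm, C.vc_deg, Q.hdeg, C.Q₀.hdeg]
      at h1
    rw [Cfg.Qv]
    linarith

theorem deg_u (hV : Vals C u v z r s) (R : ReeCfg C) : C.deg u = (C.D.q : ℤ) ^ 3 := by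
  have h1 := hV.degU
  have h2 := (C.deg_spec u).2
  have h3 : (0 : ℤ) < (C.D.q : ℤ) ^ 3 := by have := R.seven_q; positivity
  rcases hV.conf.sA.ha with e | e <;> rw [e] at h1 <;> linarith

theorem T_sq_u (hV : Vals C u v z r s) : C.T u ^ 2 = (C.D.q : ℤ) ^ 2 := by
  have h1 := hV.Tu
  rcases hV.conf.sA.ha with e | e <;> rw [e] at h1
  · rw [← h1, one_mul]
  · rw [← h1]; ring

/-- The four classes of characters with a non-zero value at `t`. -/
theorem cases (hV : Vals C u v z r s) (R : ReeCfg C) {χ : IrrCharacter G} (hT : C.T χ ≠ 0) :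
    χ = Blocks.oneIrr G ∨ χ = u ∨ (∃ i, χ = r i ∨ χ = s i) ∨ (reeW C : ℤ) ∣ C.deg χ := by
  classical
  have h := hV.conf
  by_cases hF : C.Free χ
  · by_cases hva : C.va χ = 0
    · by_cases hl : ∃ lam : C.D.Z →* ℂˣ, lam ≠ 1 ∧ C.vl lam χ ≠ 0
      · obtain ⟨lam, h1, h2⟩ := hl
        refine Or.inr (Or.inr (Or.inr ⟨(C.D.q : ℤ) + 1, ?_⟩))
        rw [hV.deg_vl R h1 h2, reeW_cast R]
        ring
      · push Not at hl
        have hb : C.vb 0 χ ≠ 0 ∨ C.vb 1 χ ≠ 0 := by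
          by_contra hc
          push Not at hc
          refine hT ?_
          rw [C.T_free hF, hva, hc.1, hc.2,
            Finset.sum_eq_zero fun lam hlam => hl lam (Finset.ne_of_mem_erase hlam)]
          ring
        have hi : ∀ i, C.vb i χ ≠ 0 → χ = r i ∨ χ = s i := by
          intro i hb'
          rcases (h.sB i).cov χ hb' with e | e | e | e
          · exact absurd (e ▸ hva) (by rcases h.sA.ha with a | a <;> omega)
          · exact absurd (e ▸ hva) (by rcases h.sA.hb with a | a <;> omega)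
          · exact Or.inl e
          · exact Or.inr e
        rcases hb with e | e
        exacts [Or.inr (Or.inr (Or.inl ⟨0, hi 0 e⟩)), Or.inr (Or.inr (Or.inl ⟨1, hi 1 e⟩))]
    · rcases h.sA.cov χ hva with e | e | e | e
      · exact Or.inr (Or.inl e)
      · refine Or.inr (Or.inr (Or.inr ?_))
        have h1 := hV.degV
        rw [e]
        rcases h.sA.hb with a | a <;> rw [a] at h1
        exacts [⟨-(C.D.q : ℤ), by linarith⟩, ⟨(C.D.q : ℤ), by linarith⟩]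
      · exact Or.inl e
      · refine Or.inr (Or.inr (Or.inr ?_))
        have h1 := hV.degW
        rw [e]
        rcases h.sA.hd with a | a <;> rw [a] at h1
        exacts [⟨-1, by linarith⟩, ⟨1, by linarith⟩]
  · refine Or.inr (Or.inr (Or.inr ?_))
    rcases hV.degP with e | e <;> rcases deg_not_free hF with e' | e' <;> rw [e', e] <;>
      first | exact dvd_mul_right _ _ | exact (dvd_mul_right _ _).neg_right |
        exact ((dvd_mul_right _ _).neg_right).neg_right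

/-- Neither of the two further characters of `φ_b` lies in a column `φ_l`. -/
theorem T_rest (hV : Vals C u v z r s) (R : ReeCfg C) (i : Fin 2) :
    C.T (r i) = (C.D.z : ℤ) * C.vb i (r i) ∧ C.T (s i) = (C.D.z : ℤ) * C.vb i (s i) ∧
      C.vb i (r i) * C.deg (r i) + C.vb i (s i) * C.deg (s i) = -((C.D.q : ℤ) * C.D.q - C.D.q) := by
  classical
  have h := hV.conf
  have hB := h.sB i
  have hW := reeW_cast R
  have hsum : C.vb i (r i) * C.deg (r i) + C.vb i (s i) * C.deg (s i) =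
      -((C.D.q : ℤ) * C.D.q - C.D.q) := by
    have h1 := C.vb_deg i
    rw [hB.dot_eq, h.u_eq, h.v_eq] at h1
    linear_combination h1 - hV.degU - hV.degV + (C.D.q : ℤ) * hW
  have hq : (27 : ℤ) ≤ C.D.q := by exact_mod_cast R.seven_q
  have hnone : ∀ a b : IrrCharacter G, C.vb i a ≠ 0 → C.va a = 0 →
      (∀ c, C.vb i c ≠ 0 → C.va c = 0 → c = a ∨ c = b) →
      C.vb i a * C.deg a + C.vb i b * C.deg b = -((C.D.q : ℤ) * C.D.q - C.D.q) →
      ∀ lam : C.D.Z →* ℂˣ, lam ≠ 1 → C.vl lam a = 0 := by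
    intro a b ha hva hcov hab lam hl
    by_contra hne
    obtain ⟨-, c, hca, hd, hc, hcb, -, -⟩ := C.exists_partner hl hne
    have hc' : c = b := (hcov c (by rw [hcb]; exact ha) (by rw [hc, hva])).resolve_left hca
    have hD := hV.deg_vl R hl hne
    rw [← hc', hcb, hd, hD] at hab
    have h2 : 27 * ((C.D.q : ℤ) * C.D.q) ≤ (C.D.q : ℤ) ^ 3 := by nlinarith
    have h3 : (27 : ℤ) * C.D.q ≤ (C.D.q : ℤ) * C.D.q := by nlinarith
    rcases lt_or_gt_of_ne ha with hs | hs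
    · have h4 : C.vb i a ≤ -1 := by omega
      nlinarith
    · have h4 : 1 ≤ C.vb i a := by omega
      nlinarith
  have cov : ∀ c, C.vb i c ≠ 0 → C.va c = 0 → c = r i ∨ c = s i := by
    intro c hc hva
    rcases hB.cov c hc with e | e | e | e
    · exact absurd (e ▸ hva) (by rcases h.sA.ha with a | a <;> omega)
    · exact absurd (e ▸ hva) (by rcases h.sA.hb with a | a <;> omega)
    · exact Or.inl e
    · exact Or.inr e
  have hr : C.vb i (r i) ≠ 0 := by rcases hB.hc with e | e <;> omega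
  have hs : C.vb i (s i) ≠ 0 := by rcases hB.hd with e | e <;> omega
  have hd : C.D.δ = -1 := R.delta
  have hT : ∀ a, C.va a = 0 → C.vb i a ≠ 0 → (∀ j, i ≠ j → C.vb j a = 0) →
      (∀ lam : C.D.Z →* ℂˣ, lam ≠ 1 → C.vl lam a = 0) → C.T a = (C.D.z : ℤ) * C.vb i a := by
    intro a hva hb hj hl
    rw [C.T_free (C.free_vb i hb), hva,
      Finset.sum_eq_zero fun lam hlam => hl lam (Finset.ne_of_mem_erase hlam), hd]
    have hb2 : C.vb 0 a + C.vb 1 a = C.vb i a := by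
      fin_cases i
      · simp [hj 1 (by decide)]
      · simp [hj 0 (by decide)]
    rw [hb2]; ring
  refine ⟨hT _ (h.r_a i) hr (h.r_b i) (hnone (r i) (s i) hr (h.r_a i) cov hsum),
    hT _ (h.s_a i) hs (h.s_b i) (hnone (s i) (r i) hs (h.s_a i) (fun c a b => (cov c a b).symm) ?_), hsum⟩
  rw [add_comm]; exact hsum

/-- The product of the two signed degrees. -/
theorem prod_rest (hV : Vals C u v z r s) (R : ReeCfg C) (i : Fin 2) :
    3 * ((C.vb i (r i) * C.deg (r i)) * (C.vb i (s i) * C.deg (s i))) =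
      -((C.D.z : ℤ) ^ 2 * C.D.q * reeW C) := by
  classical
  have h := hV.conf
  have hB := h.sB i
  obtain ⟨tr, ts, hsum⟩ := hV.T_rest R i
  have hw := C.wsum_vb i
  rw [Cfg.wsum, hB.sum_eq (R := ℚ), h.u_eq, h.v_eq, Kq_eq R] at hw
  have hdq : (C.D.δ : ℚ) = -1 := by rw [R.delta]; simp
  have Tu : (C.T u : ℚ) = (C.va u : ℚ) * (C.D.q : ℚ) := by
    rcases h.sA.ha with e | e <;> have h1 := hV.Tu <;> rw [e] at h1 ⊢
    · rw [← Int.cast_natCast (R := ℚ) C.D.q, ← h1]; push_cast; ring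
    · rw [← Int.cast_natCast (R := ℚ) C.D.q, ← h1]; push_cast; ring
  have Tv : (C.T v : ℚ) = (C.va v : ℚ) * (C.D.q : ℚ) := by
    rcases h.sA.hb with e | e <;> have h1 := hV.Tv <;> rw [e] at h1 ⊢
    · rw [← Int.cast_natCast (R := ℚ) C.D.q, ← h1]; push_cast; ring
    · rw [← Int.cast_natCast (R := ℚ) C.D.q, ← h1]; push_cast; ring
  have Tr : (C.T (r i) : ℚ) = (C.vb i (r i) : ℚ) * (C.D.z : ℚ) := by rw [tr]; push_cast; ring
  have Ts : (C.T (s i) : ℚ) = (C.vb i (s i) : ℚ) * (C.D.z : ℚ) := by rw [ts]; push_cast; ring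
  rw [wterm h.sA.ha Tu, wterm h.sA.hb Tv, wterm hB.hc Tr, wterm hB.hd Ts, hdq] at hw
  have hU : (C.va u : ℚ) * (C.deg u : ℚ) = (C.D.q : ℚ) ^ 3 := by exact_mod_cast congrArg (fun n : ℤ => (n : ℚ)) hV.degU
  have hV' : (C.va v : ℚ) * (C.deg v : ℚ) = -((C.D.q : ℚ) * (reeW C : ℚ)) := by
    exact_mod_cast congrArg (fun n : ℤ => (n : ℚ)) hV.degV
  rw [hU, hV'] at hw
  obtain ⟨a, ha⟩ : ∃ a : ℚ, a = (C.vb i (r i) : ℚ) * C.deg (r i) := ⟨_, rfl⟩
  obtain ⟨b, hb⟩ : ∃ b : ℚ, b = (C.vb i (s i) : ℚ) * C.deg (s i) := ⟨_, rfl⟩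
  have hab : a + b = -((C.D.q : ℚ) * C.D.q - C.D.q) := by
    rw [ha, hb]; exact_mod_cast congrArg (fun n : ℤ => (n : ℚ)) hsum
  have hW : (reeW C : ℚ) = (C.D.q : ℚ) * C.D.q - C.D.q + 1 := by
    exact_mod_cast congrArg (fun n : ℤ => (n : ℚ)) (reeW_cast R)
  have ha0 : a ≠ 0 := ha ▸ C.unit_deg_ne hB.hc _
  have hb0 : b ≠ 0 := hb ▸ C.unit_deg_ne hB.hd _
  rw [← ha, ← hb] at hw
  have hq : (27 : ℚ) ≤ C.D.q := by exact_mod_cast R.seven_q
  have hq0 : (C.D.q : ℚ) ≠ 0 := by linarith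
  have hq1 : (C.D.q : ℚ) + 1 ≠ 0 := by linarith
  have hq2 : (C.D.q : ℚ) - 1 ≠ 0 := by linarith
  have hw0 : (reeW C : ℚ) ≠ 0 := by rw [reeW]; positivity
  have hz2 : (C.D.q : ℚ) = 2 * C.D.z + 1 := by exact_mod_cast R.q_z
  have key : 3 * (a * b) = -((C.D.z : ℚ) ^ 2 * C.D.q * reeW C) := by
    field_simp at hw
    have hne : ((C.D.q : ℚ) - 1) * (C.D.q + 1) * C.D.q ≠ 0 := mul_ne_zero (mul_ne_zero hq2 hq1) hq0
    apply mul_left_cancel₀ hne
    linear_combination (-1 : ℚ) * hw + ((C.D.q : ℚ) + 1) * a * b * hW +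
      (C.D.z : ℚ) ^ 2 * reeW C * C.D.q * (C.D.q + 1) * hab
  rw [ha, hb] at key
  exact_mod_cast key

end Vals

/-- Every element of prime order dividing `q² - q + 1` is inverted by an involution. -/
theorem inverted_of_dvd_reeW (R : ReeCfg C) {p : ℕ} (hp : p.Prime) (hpW : p ∣ reeW C) {x : G}
    (hx : orderOf x = p) : ∃ g : G, orderOf g = 2 ∧ g * x * g⁻¹ = x⁻¹ := by
  classical
  by_contra hno
  push Not at hno
  obtain ⟨u, v, z, r, s, hV⟩ := exists_vals R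
  have h := hV.conf
  obtain ⟨hp3, hpq, -, hpq1⟩ := not_dvd_of_dvd_reeW R hp hpW
  have hp' := Nat.prime_iff_prime_int.mp hp
  have hq' : ¬ (p : ℤ) ∣ (C.D.q : ℤ) := fun e => hpq (Int.natCast_dvd_natCast.1 e)
  have hfull : ((p ^ (Nat.card G).factorization p : ℕ) : ℤ) ∣ (reeW C : ℤ) :=
    Int.natCast_dvd_natCast.2 (by rw [factorization_reeW R hp hpW]; exact Nat.ordProj_dvd _ _)
  -- in each column one degree is prime to `p` and the other takes the whole `p`-part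
  have hcol : ∀ i, ∃ a b : IrrCharacter G, (∀ c, c = r i ∨ c = s i → c = a ∨ c = b) ∧
      C.va a = 0 ∧ (∀ j, i ≠ j → C.vb j a = 0) ∧ C.vb i a ≠ 0 ∧ C.T a ^ 2 = (C.D.z : ℤ) ^ 2 ∧
      ¬ (p : ℤ) ∣ C.deg a ∧ (b : G → ℂ) x = 0 := by
    intro i
    obtain ⟨tr, ts, hsum⟩ := hV.T_rest R i
    have hpr := hV.prod_rest R i
    set A := C.vb i (r i) * C.deg (r i) with hA
    set B := C.vb i (s i) * C.deg (s i) with hB
    have hsq : ∀ c, (C.vb i c = 1 ∨ C.vb i c = -1) → C.T c = (C.D.z : ℤ) * C.vb i c →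
        C.T c ^ 2 = (C.D.z : ℤ) ^ 2 := by
      intro c hc hT
      rcases hc with e | e <;> rw [hT, e] <;> ring
    have hboth : ¬ ((p : ℤ) ∣ A ∧ (p : ℤ) ∣ B) := by
      rintro ⟨d1, d2⟩
      have d3 := dvd_add d1 d2
      rw [hsum, dvd_neg, show (C.D.q : ℤ) * C.D.q - C.D.q = (C.D.q : ℤ) * ((C.D.q - 1 : ℕ) : ℤ) by
        push_cast [Nat.cast_sub (show 1 ≤ C.D.q by have := R.seven_q; omega)]; ring] at d3
      rcases hp'.dvd_mul.1 d3 with e | e
      exacts [hq' e, hpq1 (Int.natCast_dvd_natCast.1 e)]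
    have hdiv : ((p ^ (Nat.card G).factorization p : ℕ) : ℤ) ∣ 3 * (A * B) := by
      rw [hpr]; exact (dvd_mul_of_dvd_right hfull _).neg_right
    have hcop : ∀ n : ℤ, ¬ (p : ℤ) ∣ n → IsCoprime ((p ^ (Nat.card G).factorization p : ℕ) : ℤ) n := fun n hn => by
      push_cast
      exact ((Prime.coprime_iff_not_dvd hp').2 hn).pow_left
    have h3 : ¬ (p : ℤ) ∣ 3 := fun e =>
      hp3 ((Nat.prime_dvd_prime_iff_eq hp Nat.prime_three).1 (Int.natCast_dvd_natCast.1 e))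
    have hAB := (hcop 3 h3).dvd_of_dvd_mul_left hdiv
    have unit : ∀ {c : IrrCharacter G} {n : ℤ}, (C.vb i c = 1 ∨ C.vb i c = -1) →
        (n ∣ C.vb i c * C.deg c ↔ n ∣ C.deg c) := by
      intro c n hc
      rcases hc with e | e <;> simp [e]
    by_cases hpA : (p : ℤ) ∣ A
    · have hnB : ¬ (p : ℤ) ∣ B := fun e => hboth ⟨hpA, e⟩
      refine ⟨s i, r i, fun c hc => hc.symm, h.s_a i, h.s_b i, by rcases (h.sB i).hd with e | e <;> omega,
        hsq _ (h.sB i).hd ts, fun e => hnB ((unit (h.sB i).hd).2 e), ?_⟩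
      exact vanish_of_pow_dvd hp hx ((unit (h.sB i).hc).1 ((hcop B hnB).dvd_of_dvd_mul_right hAB))
    · refine ⟨r i, s i, fun c hc => hc, h.r_a i, h.r_b i, by rcases (h.sB i).hc with e | e <;> omega,
        hsq _ (h.sB i).hc tr, fun e => hpA ((unit (h.sB i).hc).2 e), ?_⟩
      exact vanish_of_pow_dvd hp hx ((unit (h.sB i).hd).1 ((hcop A hpA).dvd_of_dvd_mul_left hAB))
  choose a b hcov hva hoth hne hsq hdeg hvan using hcol
  have hu : C.va u ≠ 0 := by rcases h.sA.ha with e | e <;> omega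
  have hone : C.va (Blocks.oneIrr G) ≠ 0 := by rw [C.va_one]; norm_num
  have h01 : a 0 ≠ a 1 := fun e => hne 0 (by rw [e]; exact hoth 1 0 (by decide))
  have hua : ∀ i, u ≠ a i := fun i e => hu (e ▸ hva i)
  have hoa : ∀ i, Blocks.oneIrr G ≠ a i := fun i e => hone (e ▸ hva i)
  have hu1 : Blocks.oneIrr G ≠ u := fun e => h.sA.ac e.symm
  have hd := dvd_sum_sq (C := C) hp (hx ▸ pow_orderOf_eq_one x) hno {Blocks.oneIrr G, u, a 0, a 1} ?_ ?_
  · rw [Finset.sum_insert (by simp [hu1, hoa]), Finset.sum_insert (by simp [hua]), Finset.sum_pair h01,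
      C.T_one, hV.T_sq_u, hsq, hsq] at hd
    have hz : (C.D.q : ℤ) = 2 * C.D.z + 1 := by exact_mod_cast R.q_z
    have h2 : (p : ℤ) ∣ 3 * reeW C + C.D.q := by
      have := dvd_mul_of_dvd_right hd 2
      have e : 3 * (reeW C : ℤ) + C.D.q =
          2 * (1 ^ 2 + ((C.D.q : ℤ) ^ 2 + ((C.D.z : ℤ) ^ 2 + (C.D.z : ℤ) ^ 2))) := by
        rw [reeW_cast R, hz]; ring
      rwa [e]
    exact hq' ((Int.dvd_add_right (dvd_mul_of_dvd_right (Int.natCast_dvd_natCast.2 hpW) 3)).1 h2)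
  · intro χ hχ
    simp only [Finset.mem_insert, Finset.mem_singleton] at hχ
    rcases hχ with rfl | rfl | rfl | rfl
    · rw [C.deg_one]; exact hp'.not_dvd_one
    · rw [hV.deg_u R]; exact fun e => hq' (hp'.dvd_of_dvd_pow e)
    · exact hdeg 0
    · exact hdeg 1
  · intro χ hχ
    simp only [Finset.mem_insert, Finset.mem_singleton, not_or] at hχ
    by_cases hT : C.T χ = 0
    · exact Or.inl hT
    right
    rcases hV.cases R hT with e | e | ⟨i, e⟩ | e
    · exact absurd e hχ.1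
    · exact absurd e hχ.2.1
    · rcases hcov i χ e with e' | e'
      · exfalso
        fin_cases i
        exacts [hχ.2.2.1 e', hχ.2.2.2 e']
      · exact e' ▸ hvan i
    · exact vanish_of_pow_dvd hp hx (hfull.trans e)

end CfsgLib.WalterUse
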