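import Cfsg.Agent.Lib.WalterUse.ReeTorus

/-!
The small Ree case with abelian Sylow 3-subgroups: the `t`-invariant Sylow subgroup `P`, its normaliser and the
centralisers of the elements of `U = C_P(t)`.
-/

set_option autoImplicit false
set_option linter.unusedSectionVars false
set_option linter.style.haveILetI false

namespace CfsgLib.WalterUse

open Cfsg CfsgLib CfsgLib.CharTheory CfsgLib.JankoThompson

universe u v

section General

variable {H : Type u} [Group H] [Finite H]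

theorem card_mul_le_of_disjoint {A B X : Subgroup H} (hA : A ≤ X) (hB : B ≤ X) (hAB : A ⊓ B = ⊥) :
    Nat.card A * Nat.card B ≤ Nat.card X := by
  rw [← Nat.card_prod]
  refine Nat.card_le_card_of_injective (fun p => (⟨(p.1 : H) * p.2, mul_mem (hA p.1.2) (hB p.2.2)⟩ : X)) ?_
  exact fun a b h => Subgroup.mul_injective_of_disjoint (disjoint_iff.mpr hAB) (congrArg Subtype.val h :)

theorem card_map_mul_ker {K : Type v} [Group K] (f : H →* K) (A : Subgroup H) :
    Nat.card (A.map f) * Nat.card (A ⊓ f.ker : Subgroup H) = Nat.card A := by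
  set g : A →* K := f.comp A.subtype with hg
  have hk : g.ker = (A ⊓ f.ker).subgroupOf A := by
    ext x
    rw [MonoidHom.mem_ker, Subgroup.mem_subgroupOf, Subgroup.mem_inf, MonoidHom.mem_ker]
    exact ⟨fun h => ⟨x.2, h⟩, fun h => h.2⟩
  have hr : g.range = A.map f := by rw [hg, MonoidHom.range_comp, Subgroup.range_subtype]
  have h := g.ker.card_mul_index
  rw [Subgroup.index_ker, hr] at h
  rw [mul_comm, ← h, hk, Nat.card_congr (Subgroup.subgroupOfEquivOfLe inf_le_left).toEquiv]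

theorem card_modEq_fixed {l : ℕ} [Fact l.Prime] (P : Subgroup H) (b : H) (hb : orderOf b = l)
    (hn : b ∈ Subgroup.normalizer (P : Set H)) :
    Nat.card P ≡ Nat.card (P ⊓ Subgroup.centralizer ({b} : Set H) : Subgroup H) [MOD l] := by
  classical
  set A := Subgroup.zpowers b
  have hA : ∀ a : A, ∀ x ∈ P, (a : H) * x * (a : H)⁻¹ ∈ P := fun a x hx =>
    (Subgroup.mem_normalizer_iff.mp (Subgroup.zpowers_le.mpr hn a.2) x).mp hx
  letI act : MulAction A P :=
    { smul := fun a x => ⟨(a : H) * x * (a : H)⁻¹, hA a x x.2⟩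
      one_smul := fun x => Subtype.ext (by
        show ((1 : A) : H) * (x : H) * ((1 : A) : H)⁻¹ = x
        simp)
      mul_smul := fun a a' x => Subtype.ext (by
        show ((a * a' : A) : H) * (x : H) * ((a * a' : A) : H)⁻¹ = (a : H) * ((a' : H) * x * (a' : H)⁻¹) * (a : H)⁻¹
        rw [Subgroup.coe_mul]
        group) }
  have h := (IsPGroup.of_card (n := 1) (show Nat.card A = l ^ 1 by rw [Nat.card_zpowers, hb, pow_one])).card_modEq_card_fixedPoints P
  refine h.trans (Eq.to_iff (congrArg (· % l = _) ?_) |>.mpr rfl)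
  refine Nat.card_congr
    { toFun := fun x => ⟨(x.1 : H), x.1.2, Subgroup.mem_centralizer_singleton_iff.mpr ?_⟩
      invFun := fun x => ⟨⟨(x : H), x.2.1⟩, fun a => Subtype.ext ?_⟩
      left_inv := fun _ => rfl
      right_inv := fun _ => rfl }
  · exact (mul_inv_eq_iff_eq_mul.mp (congrArg Subtype.val (x.2 ⟨b, Subgroup.mem_zpowers b⟩) :)).symm
  · show (a : H) * (x : H) * (a : H)⁻¹ = (x : H)
    obtain ⟨n, hn⟩ := Subgroup.mem_zpowers_iff.mp a.2
    have hx : Commute b (x : H) := (Subgroup.mem_centralizer_singleton_iff.mp x.2.2).symm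
    rw [← hn, (hx.zpow_left n).eq, mul_inv_cancel_right]

end General

variable {G : Type u} [Group G] [Fintype G] {L : Type v} [Group L] [Fintype L]

/-- A `t`-invariant Sylow 3-subgroup `P` with `U = C_P(t)`. -/
structure TData (C : Cfg G L) (P U : Subgroup G) : Prop where
  R : ReeCfg C
  hu : UFacts L
  ab : ∀ X : Subgroup G, IsPGroup 3 X → ∀ a ∈ X, ∀ b ∈ X, Commute a b
  cardP : Nat.card P = C.D.q ^ 3
  Pp : IsPGroup 3 P
  syl : ∀ g ∈ Subgroup.normalizer (P : Set G), (∃ k, g ^ 3 ^ k = 1) → g ∈ P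
  tP : ∀ x ∈ P, C.t * x * C.t⁻¹ ∈ P
  UP : U ≤ P
  cardU : Nat.card U = C.D.q
  U_t : ∀ x ∈ U, Commute x C.t
  U_three : ∀ x ∈ U, x ^ 3 = 1
  cent_tu : ∀ u ∈ U, u ≠ 1 → ∀ g : G, Commute g C.t → Commute g u → g ∈ U ∨ g * C.t ∈ U
  P_t : ∀ x ∈ P, Commute x C.t → x ∈ U
  norm_t : ∀ g, Commute g C.t → (∀ x ∈ U, g * x * g⁻¹ ∈ U) → ∀ k, g ^ 2 ^ k = 1 → g = 1 ∨ g = C.t

theorem pow_three_ne_two {H : Type*} [Group H] {x : H} (h : orderOf x = 2) (k : ℕ) : x ^ 3 ^ k ≠ 1 := by
  intro e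
  have h2 : 2 ∣ 3 ^ k := h ▸ orderOf_dvd_of_pow_eq_one e
  exact absurd (Nat.prime_two.dvd_of_dvd_pow h2) (by norm_num)

variable {C : Cfg G L}

/-- Existence of the data. -/
theorem exists_tData (R : ReeCfg C) (hu : UFacts L)
    (h3 : ∀ Q : Sylow 3 G, ∀ a b : (Q : Subgroup G), a * b = b * a) : ∃ P U, TData C P U := by
  classical
  haveI : Fact (Nat.Prime 3) := ⟨Nat.prime_three⟩
  obtain ⟨j, hj, hjq⟩ := R.pow
  obtain ⟨hG3, hL3⟩ := R.factorization_three hjq
  have hab : ∀ X : Subgroup G, IsPGroup 3 X → ∀ a ∈ X, ∀ b ∈ X, Commute a b := fun X hX a ha b hb => by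
    obtain ⟨Q, hQ⟩ := hX.exists_le_sylow
    exact congrArg Subtype.val (h3 Q ⟨a, hQ ha⟩ ⟨b, hQ hb⟩)
  obtain ⟨UL⟩ : Nonempty (Sylow 3 L) := inferInstance
  set U := (UL : Subgroup L).map C.E with hU
  have hUp : IsPGroup 3 U := UL.2.map _
  have hcardUL : Nat.card (UL : Subgroup L) = C.D.q := by rw [Sylow.card_eq_multiplicity, hL3, hjq]
  have hcardU : Nat.card U = C.D.q := by rw [hU, Subgroup.card_map_of_injective C.E_inj, hcardUL]
  have hUt : ∀ x ∈ U, Commute x C.t := by rintro _ ⟨c, -, rfl⟩; exact (C.E_comm c).symm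
  have hU3 : ∀ x ∈ U, x ^ 3 = 1 := by
    rintro _ ⟨c, hc, rfl⟩
    obtain ⟨k, hk⟩ := UL.2 ⟨c, hc⟩
    rw [← map_pow, hu.exp3 c k (congrArg Subtype.val hk), map_one]
  have hU3L : ∀ c ∈ (UL : Subgroup L), c ≠ 1 → orderOf c = 3 := fun c hc h1 =>
    orderOf_eq_prime (C.E_inj (by rw [map_pow, map_one]; exact hU3 _ ⟨c, hc, rfl⟩)) h1
  -- centralisers in `L`
  have hcentL : ∀ u ∈ (UL : Subgroup L), u ≠ 1 → ∀ c, Commute c u → c ∈ (UL : Subgroup L) := by
    intro u hu' hu1 c hc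
    set Cn := Subgroup.centralizer ({u} : Set L) with hCn
    have hpG : IsPGroup 3 Cn := by
      refine IsPGroup.of_card (n := (Nat.card Cn).primeFactorsList.length)
        (Nat.eq_prime_pow_of_unique_prime_dvd Nat.card_pos.ne' fun {l} hl hd => ?_)
      haveI := Fact.mk hl
      obtain ⟨x, hx⟩ := exists_prime_orderOf_dvd_card' l hd
      have hxo : orderOf (x : L) = l := by rw [Subgroup.orderOf_coe, hx]
      have hxc : Commute (x : L) u := Subgroup.mem_centralizer_singleton_iff.mp x.2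
      by_contra hne
      by_cases h2 : l = 2
      · exact hu.odd3 (x : L) u (hxo.trans h2) (hU3L u hu' hu1) hxc
      have hyz : l ∣ C.D.z ∨ l ∣ C.D.y := by
        rcases R.prime_cases hl h2 (hxo ▸ orderOf_dvd_natCard (x : L)) with h | ⟨h, -⟩ | ⟨h, -⟩
        exacts [absurd h hne, Or.inl h, Or.inr h]
      exact R.no_three_torus (b := C.E x) (g := C.E u) (by rw [orderOf_injective C.E C.E_inj, hxo]; exact hl)
        (by rw [orderOf_injective C.E C.E_inj, hxo]; exact hyz)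
        (by rw [orderOf_injective C.E C.E_inj]; exact hU3L u hu' hu1) (hxc.symm.map C.E)
    have hle : (UL : Subgroup L) ≤ Cn := fun a ha => by
      rw [hCn, Subgroup.mem_centralizer_singleton_iff]
      exact C.E_inj (by rw [map_mul, map_mul]; exact hab U hUp _ ⟨a, ha, rfl⟩ _ ⟨u, hu', rfl⟩)
    rw [← UL.is_maximal' hpG hle]
    exact Subgroup.mem_centralizer_singleton_iff.mpr hc
  have hcent : ∀ u ∈ U, u ≠ 1 → ∀ g : G, Commute g C.t → Commute g u → g ∈ U ∨ g * C.t ∈ U := by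
    rintro _ ⟨u, hu', rfl⟩ hu1 g hgt hgu
    obtain ⟨c, hc | hc⟩ := C.cent g hgt
    · refine Or.inl ⟨c, hcentL u hu' (fun e => hu1 (by rw [e, map_one])) c (C.E_inj ?_), hc.symm⟩
      rw [map_mul, map_mul, ← hc]
      exact hgu
    · refine Or.inr ⟨c, hcentL u hu' (fun e => hu1 (by rw [e, map_one])) c (C.E_inj ?_), ?_⟩
      · rw [map_mul, map_mul]
        have h := hgu.eq
        rw [hc] at h
        refine mul_left_cancel (a := C.t) ?_
        rw [← mul_assoc, h, ← mul_assoc, ← mul_assoc, (C.E_comm u).eq]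
      · rw [hc, mul_assoc, ← (C.E_comm c).eq, ← mul_assoc, C.t_sq, one_mul]
  -- a first non-trivial element
  obtain ⟨u₀, hu₀, hu₀1⟩ : ∃ u ∈ U, u ≠ 1 := by
    by_contra h
    push Not at h
    have : U = ⊥ := (Subgroup.eq_bot_iff_forall _).mpr h
    have := R.seven_q
    rw [‹U = ⊥›, Subgroup.card_bot] at hcardU
    omega
  have ht_not : ∀ X : Subgroup G, IsPGroup 3 X → C.t ∉ X := fun X hX ht => by
    obtain ⟨k, hk⟩ := hX ⟨C.t, ht⟩
    exact pow_three_ne_two C.t_ord k (congrArg Subtype.val hk)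
  set H := Subgroup.centralizer ({u₀} : Set G) with hH
  have htH : C.t ∈ H := Subgroup.mem_centralizer_singleton_iff.mpr (hUt u₀ hu₀).symm.eq
  obtain ⟨X, S⟩ := exists_tSplit C H htH fun g hg hgt k hk => by
    rcases hcent u₀ hu₀ hu₀1 g hgt (Subgroup.mem_centralizer_singleton_iff.mp hg) with h | h
    · exact Or.inl (eq_one_of_pow_coprime (hU3 g h) hk ((Nat.Coprime.pow_right k (by norm_num : Nat.Coprime 3 2))))
    · refine Or.inr ?_
      have h1 : (g * C.t) ^ 2 ^ (k + 1) = 1 := by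
        rw [(show Commute g C.t from hgt).mul_pow, pow_succ, pow_mul, hk, one_pow, one_mul, mul_comm, pow_mul,
          pow_two, C.t_sq, one_pow]
      have h2 := eq_one_of_pow_coprime (hU3 _ h) h1 (Nat.Coprime.pow_right (k + 1) (by norm_num : Nat.Coprime 3 2))
      calc g = g * C.t * C.t := by rw [mul_assoc, C.t_sq, mul_one]
        _ = C.t := by rw [h2, one_mul]
  obtain ⟨Q₀, hQ₀⟩ := hUp.exists_le_sylow
  have hodd3 : ∀ g : G, (∃ k, g ^ 3 ^ k = 1) → Odd (orderOf g) := fun g ⟨k, hk⟩ =>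
    (show Odd (3 ^ k) from Odd.pow (by decide)).of_dvd_nat (orderOf_dvd_of_pow_eq_one hk)
  have hQX : (Q₀ : Subgroup G) ≤ X := fun g hg => by
    refine S.odd_mem g (Subgroup.mem_centralizer_singleton_iff.mpr (hab _ Q₀.2 g hg u₀ (hQ₀ hu₀))) (hodd3 g ?_)
    obtain ⟨k, hk⟩ := Q₀.2 ⟨g, hg⟩
    exact ⟨k, congrArg Subtype.val hk⟩
  have hnX : Subgroup.zpowers C.t ≤ Subgroup.normalizer (X : Set G) :=
    Subgroup.zpowers_le.mpr (Subgroup.mem_normalizer_fintype fun x hx => S.norm _ htH x hx)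
  have hnU : Subgroup.zpowers C.t ≤ Subgroup.normalizer (U : Set G) :=
    Subgroup.zpowers_le.mpr (Subgroup.mem_normalizer_fintype fun x hx => by
      show C.t * x * C.t⁻¹ ∈ U
      rw [(hUt x hx).symm.eq, mul_inv_cancel_right]
      exact hx)
  obtain ⟨PX, hUPX, htPX⟩ := CfsgLib.coprime_le_invariant_sylow hnX
    (by rw [Nat.card_zpowers, C.t_ord]; exact Nat.coprime_two_left.mpr S.odd)
    (Or.inl inferInstance) (hQ₀.trans hQX) hUp hnU
  set P := (PX : Subgroup X).map X.subtype with hP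
  have hPp : IsPGroup 3 P := PX.2.map _
  have hXf : (Nat.card X).factorization 3 = (Nat.card G).factorization 3 := by
    refine le_antisymm ((Nat.factorization_le_iff_dvd Nat.card_pos.ne' Nat.card_pos.ne').mpr
      X.card_subgroup_dvd_card 3) ?_
    rw [← Nat.prime_three.pow_dvd_iff_le_factorization Nat.card_pos.ne']
    exact Q₀.card_eq_multiplicity ▸ Subgroup.card_dvd_of_le hQX
  have hcardP : Nat.card P = C.D.q ^ 3 := by
    rw [hP, Subgroup.card_map_of_injective X.subtype_injective, Sylow.card_eq_multiplicity, hXf, hG3, hjq, ← pow_mul,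
      mul_comm]
  refine ⟨P, U, R, hu, hab, hcardP, hPp, ?_, ?_, hUPX, hcardU, hUt, hU3, hcent, ?_, ?_⟩
  · intro g hg hk
    let Ps : Sylow 3 G := Sylow.ofCard P (by rw [hcardP, hG3, hjq, ← pow_mul, mul_comm])
    have hgp : IsPGroup 3 (Subgroup.zpowers g) := by
      obtain ⟨k, hk⟩ := hk
      obtain ⟨i, -, hi⟩ := (Nat.dvd_prime_pow Nat.prime_three).mp (orderOf_dvd_of_pow_eq_one hk)
      exact IsPGroup.of_card (n := i) (by rw [Nat.card_zpowers, hi])
    have := hgp.inf_normalizer_sylow Ps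
    have hmem : g ∈ Subgroup.zpowers g ⊓ Subgroup.normalizer (Ps : Set G) := ⟨Subgroup.mem_zpowers g, hg⟩
    rw [this] at hmem
    exact hmem.2
  · exact fun x hx => (Subgroup.mem_normalizer_iff.mp (htPX (Subgroup.mem_zpowers _)) x).mp hx
  · intro x hx hxt
    rcases hcent u₀ hu₀ hu₀1 x hxt (hab P hPp x hx u₀ (hUPX hu₀)) with h | h
    · exact h
    · exfalso
      refine ht_not P hPp ?_
      have := mul_mem (inv_mem hx) (hUPX h)
      rwa [inv_mul_cancel_left] at this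
  · intro g hgt hgU k hk
    obtain ⟨c, hc⟩ := C.cent g hgt
    have hck : c ^ 2 ^ (k + 1) = 1 := by
      refine C.E_inj ?_
      rw [map_pow, map_one]
      rcases hc with e | e
      · rw [← e, pow_succ, pow_mul, hk, one_pow]
      · have h : g ^ 2 ^ (k + 1) = 1 := by rw [pow_succ, pow_mul, hk, one_pow]
        rw [e, (C.E_comm c).mul_pow, pow_succ', pow_mul C.t, pow_two, C.t_sq, one_pow, one_mul, ← pow_succ'] at h
        exact h
    by_cases hc1 : c = 1
    · rcases hc with e | e <;> simp [e, hc1]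
    exfalso
    obtain ⟨i, -, hi⟩ := (Nat.dvd_prime_pow Nat.prime_two).mp (orderOf_dvd_of_pow_eq_one hck)
    obtain ⟨i', rfl⟩ : ∃ i', i = i' + 1 := ⟨i - 1, by
      rcases i with _ | i
      · exact absurd (orderOf_eq_one_iff.mp (by rw [hi, pow_zero])) hc1
      · rfl⟩
    set s := c ^ 2 ^ i' with hs
    have hso : orderOf s = 2 := by
      rw [hs, orderOf_pow' _ (by positivity), hi, Nat.gcd_eq_right (pow_dvd_pow 2 (by omega)), pow_succ,
        Nat.mul_div_cancel_left _ (by positivity)]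
    -- `s` normalises the Sylow subgroup of `L`
    have hnc : ∀ a ∈ (UL : Subgroup L), c * a * c⁻¹ ∈ (UL : Subgroup L) := by
      intro a ha
      have h := hgU _ ⟨a, ha, rfl⟩
      have e' : g * C.E a * g⁻¹ = C.E (c * a * c⁻¹) := by
        rcases hc with e | e <;> rw [e, map_mul, map_mul, map_inv]
        have := C.E_comm (c * a * c⁻¹)
        rw [map_mul, map_mul, map_inv] at this
        rw [show C.t * C.E c * C.E a * (C.t * C.E c)⁻¹ = C.t * (C.E c * C.E a * (C.E c)⁻¹) * C.t⁻¹ by group, this.eq,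
          mul_inv_cancel_right]
      rw [e'] at h
      obtain ⟨b, hb, hbe⟩ := h
      exact C.E_inj hbe ▸ hb
    have hnp : ∀ n : ℕ, ∀ a ∈ (UL : Subgroup L), c ^ n * a * (c ^ n)⁻¹ ∈ (UL : Subgroup L) := by
      intro n
      induction n with
      | zero => intro a ha; simpa using ha
      | succ n ih =>
        intro a ha
        rw [show c ^ (n + 1) * a * (c ^ (n + 1))⁻¹ = c ^ n * (c * a * c⁻¹) * (c ^ n)⁻¹ by rw [pow_succ]; group]
        exact ih _ (hnc a ha)
    obtain ⟨a, ha, hae⟩ := hu₀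
    have ha1 : a ≠ 1 := fun e => hu₀1 (by rw [← hae, e, map_one])
    set w := s * a * s⁻¹ with hw
    have hwU : w ∈ (UL : Subgroup L) := hnp _ a ha
    have hss : s * s = 1 := by rw [← pow_two, ← hso]; exact pow_orderOf_eq_one s
    have hwa : Commute w a :=
      C.E_inj ((map_mul C.E w a).trans ((hab U hUp _ ⟨w, hwU, rfl⟩ _ ⟨a, ha, rfl⟩).eq.trans (map_mul C.E a w).symm))
    have hfix : Commute s (a * w) := by
      show s * (a * w) = a * w * s
      rw [hw]
      calc s * (a * (s * a * s⁻¹)) = (s * a * s⁻¹) * (s * s) * a * s⁻¹ := by group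
        _ = (w * a) * s⁻¹ := by rw [hss, mul_one, hw]
        _ = a * w * s := by
            rw [hwa.eq, inv_eq_of_mul_eq_one_right hss]
    have haw : a * w = 1 := by
      by_contra hne
      exact hu.odd3 s (a * w) hso (hU3L _ (mul_mem ha hwU) hne) hfix
    exact R.zf.three a s (hU3L a ha ha1) (eq_inv_of_mul_eq_one_right haw)

namespace TData

variable {P U : Subgroup G} (D : TData C P U)
include D

theorem comm {a b : G} (ha : a ∈ P) (hb : b ∈ P) : Commute a b := D.ab P D.Pp a ha b hb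

theorem odd_of_mem {x : G} (hx : x ∈ P) : Odd (orderOf x) := by
  obtain ⟨k, hk⟩ := D.Pp ⟨x, hx⟩
  exact (show Odd (3 ^ k) from Odd.pow (by decide)).of_dvd_nat
    (orderOf_dvd_of_pow_eq_one (congrArg Subtype.val hk))

theorem sq_one {x : G} (hx : x ∈ P) (h : x * x = 1) : x = 1 := by
  obtain ⟨k, hk⟩ := D.Pp ⟨x, hx⟩
  exact eq_one_of_pow_coprime (m := 2) (by rw [pow_two, h]) (congrArg Subtype.val hk)
    (Nat.coprime_two_left.mpr (Odd.pow (by decide)))

/-- The elements of `P` inverted by `t`. -/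
def inv : Subgroup G where
  carrier := {x | x ∈ P ∧ C.t * x * C.t⁻¹ = x⁻¹}
  one_mem' := ⟨one_mem _, by simp⟩
  mul_mem' := fun {a b} ha hb => ⟨mul_mem ha.1 hb.1, by
    rw [show C.t * (a * b) * C.t⁻¹ = (C.t * a * C.t⁻¹) * (C.t * b * C.t⁻¹) by group, ha.2, hb.2,
      ← mul_inv_rev, (D.comm hb.1 ha.1).eq]⟩
  inv_mem' := fun {a} ha => ⟨inv_mem ha.1, by
    rw [show C.t * a⁻¹ * C.t⁻¹ = (C.t * a * C.t⁻¹)⁻¹ by group, ha.2]⟩

theorem mem_inv {x : G} : x ∈ D.inv ↔ x ∈ P ∧ C.t * x * C.t⁻¹ = x⁻¹ := Iff.rfl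

theorem inv_inf_U : D.inv ⊓ U = ⊥ := by
  rw [Subgroup.eq_bot_iff_forall]
  rintro x ⟨hx, hxU⟩
  have h := hx.2
  rw [(D.U_t x hxU).symm.eq, mul_inv_cancel_right] at h
  exact D.sq_one hx.1 (mul_eq_one_iff_eq_inv.mpr h)

theorem card_inv : Nat.card D.inv = C.D.q ^ 2 := by
  have hq : 0 < C.D.q := by have := D.R.seven_q; omega
  have h1 : Nat.card D.inv * C.D.q ≤ C.D.q ^ 3 := by
    refine le_of_le_of_eq ?_ D.cardP
    rw [← D.cardU]
    exact card_mul_le_of_disjoint (fun x hx => hx.1) D.UP D.inv_inf_U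
  have h2 : C.D.q ^ 3 ≤ Nat.card D.inv * C.D.q := by
    refine D.cardP.symm.trans_le ?_
    rw [← D.cardU, ← Nat.card_prod]
    have key : ∀ x ∈ P, x * (C.t * x * C.t⁻¹)⁻¹ ∈ D.inv ∧ x * (C.t * x * C.t⁻¹) ∈ U := by
      intro x hx
      have hy := D.tP x hx
      have e : C.t * (C.t * x * C.t⁻¹) * C.t⁻¹ = x := by
        rw [show C.t * (C.t * x * C.t⁻¹) * C.t⁻¹ = C.t * C.t * x * (C.t * C.t)⁻¹ by group, C.t_sq]; group
      refine ⟨⟨mul_mem hx (inv_mem hy), ?_⟩, D.P_t _ (mul_mem hx hy) ?_⟩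
      · rw [show C.t * (x * (C.t * x * C.t⁻¹)⁻¹) * C.t⁻¹ =
          (C.t * x * C.t⁻¹) * (C.t * (C.t * x * C.t⁻¹) * C.t⁻¹)⁻¹ by group, e]
        group
      · refine Commute.symm (mul_inv_eq_iff_eq_mul.mp ?_)
        rw [show C.t * (x * (C.t * x * C.t⁻¹)) * C.t⁻¹ =
          (C.t * x * C.t⁻¹) * (C.t * (C.t * x * C.t⁻¹) * C.t⁻¹) by group, e]
        exact (D.comm hy hx).eq
    refine Nat.card_le_card_of_injective (fun x : P => ((⟨_, (key x x.2).1⟩ : D.inv), (⟨_, (key x x.2).2⟩ : U)))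
      fun a b hab => ?_
    have h1 := congrArg (fun p => (p.1 : G)) hab
    have h2 := congrArg (fun p => (p.2 : G)) hab
    simp only at h1 h2
    refine Subtype.ext (mul_inv_eq_one.mp (D.sq_one (mul_mem a.2 (inv_mem b.2)) ?_))
    set a' := C.t * (a : G) * C.t⁻¹
    set b' := C.t * (b : G) * C.t⁻¹
    have ha' : a' ∈ P := D.tP a a.2
    have hb' : b' ∈ P := D.tP b b.2
    calc (a : G) * (b : G)⁻¹ * ((a : G) * (b : G)⁻¹)
        = ((a : G) * a'⁻¹) * ((a : G) * a') * (((b : G) * b'⁻¹) * ((b : G) * b'))⁻¹ := by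
          have e1 : (a : G) * a'⁻¹ * ((a : G) * a') = (a : G) * a := by
            rw [mul_assoc, ← mul_assoc a'⁻¹, (D.comm (inv_mem ha') a.2).eq, mul_assoc (a : G) a'⁻¹,
              inv_mul_cancel, mul_one]
          have e2 : (b : G) * b'⁻¹ * ((b : G) * b') = (b : G) * b := by
            rw [mul_assoc, ← mul_assoc b'⁻¹, (D.comm (inv_mem hb') b.2).eq, mul_assoc (b : G) b'⁻¹,
              inv_mul_cancel, mul_one]
          rw [e1, e2, mul_assoc, ← mul_assoc (b : G)⁻¹, (D.comm (inv_mem b.2) a.2).eq]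
          group
      _ = 1 := by rw [h1, h2, mul_inv_cancel]
  refine Nat.eq_of_mul_eq_mul_right hq ((le_antisymm h1 h2).trans ?_)
  ring

/-- An inverted element of prime order dividing `q² - q + 1` with a large fixed group in `P` does not exist. -/
theorem no_large {y u : G} (hl : (orderOf y).Prime) (hW : orderOf y ∣ reeW C) (hy : C.t * y * C.t⁻¹ = y⁻¹)
    (hu : u ∈ U) (hu1 : u ≠ 1) (huy : Commute u y)
    (hbig : C.D.q * Nat.card (U ⊓ Subgroup.centralizer ({y} : Set G) : Subgroup G) ^ 2 ≤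
      Nat.card (P ⊓ Subgroup.centralizer ({y} : Set G) : Subgroup G)) : False := by
  classical
  set H := Subgroup.centralizer ({y} : Set G) with hH
  set K := H ⊓ Subgroup.centralizer ({C.t} : Set G) with hK
  have hKm : ∀ {g}, g ∈ K ↔ Commute g y ∧ Commute g C.t := fun {g} =>
    (Subgroup.mem_inf).trans (and_congr Subgroup.mem_centralizer_singleton_iff Subgroup.mem_centralizer_singleton_iff)
  have hKp : IsPGroup 3 K := by
    refine IsPGroup.of_card (n := (Nat.card K).primeFactorsList.length)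
      (Nat.eq_prime_pow_of_unique_prime_dvd Nat.card_pos.ne' fun {l} hl' hd => ?_)
    haveI := Fact.mk hl'
    obtain ⟨x, hx⟩ := exists_prime_orderOf_dvd_card' l hd
    have hxo : orderOf (x : G) = l := by rw [Subgroup.orderOf_coe, hx]
    obtain ⟨hxy, hxt⟩ := hKm.mp x.2
    obtain ⟨-, h2, hz, hy'⟩ := D.R.reeW_prime hl hW
    rcases D.R.prime_G hl' (hd.trans K.card_subgroup_dvd_card) with e | e | e | e | e
    · exact (D.R.W_not_comm hl hW (hxo.trans e) hxy.symm).elim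
    · exact e
    all_goals exfalso
    · have h := orderOf_dvd_of_pow_eq_one (D.R.torus_pow (hxo.symm ▸ hl') (Or.inl (hxo.symm ▸ e)) hxy.symm)
      rcases hl.dvd_mul.mp h with h | h
      · rcases hl.dvd_mul.mp h with h | h
        exacts [h2 ((Nat.prime_dvd_prime_iff_eq hl Nat.prime_two).mp h), hy' h]
      · exact hz h
    · have h := orderOf_dvd_of_pow_eq_one (D.R.torus_pow (hxo.symm ▸ hl') (Or.inr (hxo.symm ▸ e)) hxy.symm)
      rcases hl.dvd_mul.mp h with h | h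
      · rcases hl.dvd_mul.mp h with h | h
        exacts [h2 ((Nat.prime_dvd_prime_iff_eq hl Nat.prime_two).mp h), hy' h]
      · exact hz h
    · exact D.R.W_not_comm (hxo.symm ▸ hl') (hxo.symm ▸ e) C.t_ord hxt
  have hKle : K ≤ U ⊓ H := by
    intro g hg
    obtain ⟨hgy, hgt⟩ := hKm.mp hg
    refine ⟨?_, Subgroup.mem_centralizer_singleton_iff.mpr hgy.eq⟩
    have huK : u ∈ K := hKm.mpr ⟨huy, D.U_t u hu⟩
    rcases D.cent_tu u hu hu1 g hgt (D.ab K hKp g hg u huK) with h | h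
    · exact h
    · exfalso
      obtain ⟨k, hk⟩ := hKp ⟨g, hg⟩
      have hk : g ^ 3 ^ k = 1 := congrArg Subtype.val hk
      have h' := D.U_three _ h
      rw [(show Commute g C.t from hgt).mul_pow] at h'
      have h'' := congrArg (· ^ 3 ^ k) h'
      simp only [one_pow] at h''
      rw [((show Commute g C.t from hgt).pow_pow 3 3).mul_pow, ← pow_mul g, mul_comm, pow_mul, hk, one_pow,
        one_mul, ← pow_mul, ← pow_succ'] at h''
      exact pow_three_ne_two C.t_ord _ h''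
  haveI : Fact (Nat.Prime 3) := ⟨Nat.prime_three⟩
  obtain ⟨h7, -⟩ := D.R.reeW_prime hl hW
  have hdvd : orderOf y * Nat.card (P ⊓ H : Subgroup G) ∣ Nat.card H := by
    refine Nat.Coprime.mul_dvd_of_dvd_of_dvd ?_ ?_ (Subgroup.card_dvd_of_le inf_le_right)
    · obtain ⟨k, hk⟩ := IsPGroup.iff_card.mp (D.Pp.to_le (inf_le_left : P ⊓ H ≤ P))
      rw [hk]
      exact Nat.Coprime.pow_right k ((Nat.coprime_primes hl Nat.prime_three).mpr (by omega))
    · exact Subgroup.orderOf_dvd_natCard H (Subgroup.mem_centralizer_singleton_iff.mpr rfl)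
  have h1 := cent_bound D.R hl hW hy (c := Nat.card K) rfl
  have h2 : Nat.card K ≤ Nat.card (U ⊓ H : Subgroup G) := Subgroup.card_le_of_le hKle
  have h3 := Nat.le_of_dvd Nat.card_pos hdvd
  have h4 : 7 * C.D.q * Nat.card K ^ 2 ≤ orderOf y * Nat.card (P ⊓ H : Subgroup G) := by
    rw [mul_assoc]
    exact Nat.mul_le_mul h7 ((Nat.mul_le_mul_left _ (Nat.pow_le_pow_left h2 2)).trans hbig)
  exact absurd h1 (not_lt.mpr (h4.trans h3))

/-- An inverted element of prime order dividing `q² - q + 1` does not normalise `P`. -/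
theorem no_norm {y : G} (hl : (orderOf y).Prime) (hW : orderOf y ∣ reeW C) (hy : C.t * y * C.t⁻¹ = y⁻¹)
    (hyP : y ∈ Subgroup.normalizer (P : Set G)) : False := by
  classical
  haveI := Fact.mk hl
  obtain ⟨h7, hl2, hlz, hly⟩ := D.R.reeW_prime hl hW
  set H := Subgroup.centralizer ({y} : Set G) with hH
  have hn : ∀ x ∈ P, y * x * y⁻¹ ∈ P ∧ y⁻¹ * x * y ∈ P := fun x hx =>
    ⟨(Subgroup.mem_normalizer_iff.mp hyP x).mp hx, (Subgroup.mem_normalizer_iff''.mp hyP x).mp hx⟩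
  have hy' : C.t * y⁻¹ * C.t⁻¹ = y := by
    rw [show C.t * y⁻¹ * C.t⁻¹ = (C.t * y * C.t⁻¹)⁻¹ by group, hy, inv_inv]
  let ψ : P →* G :=
    { toFun := fun x => y * x * y⁻¹ * (y⁻¹ * x * y)⁻¹
      map_one' := by simp
      map_mul' := fun a b => by
        have ha := hn a a.2
        have hb := hn b b.2
        rw [Subgroup.coe_mul, show y * ((a : G) * b) * y⁻¹ * (y⁻¹ * ((a : G) * b) * y)⁻¹ =
          (y * a * y⁻¹) * ((y * b * y⁻¹) * (y⁻¹ * b * y)⁻¹) * (y⁻¹ * a * y)⁻¹ by group,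
          mul_assoc, (D.comm (mul_mem hb.1 (inv_mem hb.2)) (inv_mem ha.2)).eq, ← mul_assoc] }
  have hψP : ∀ x : P, ψ x ∈ P := fun x => mul_mem (hn x x.2).1 (inv_mem (hn x x.2).2)
  have hconj : ∀ x : P, C.t * ψ x * C.t⁻¹ = y⁻¹ * (C.t * x * C.t⁻¹) * y * (y * (C.t * x * C.t⁻¹) * y⁻¹)⁻¹ := by
    intro x
    show C.t * (y * x * y⁻¹ * (y⁻¹ * x * y)⁻¹) * C.t⁻¹ = _
    calc C.t * (y * x * y⁻¹ * (y⁻¹ * x * y)⁻¹) * C.t⁻¹
        = (C.t * y * C.t⁻¹) * (C.t * x * C.t⁻¹) * (C.t * y⁻¹ * C.t⁻¹) *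
            ((C.t * y⁻¹ * C.t⁻¹) * (C.t * x * C.t⁻¹) * (C.t * y * C.t⁻¹))⁻¹ := by group
      _ = _ := by rw [hy, hy']
  have hI : (D.inv.subgroupOf P).map ψ ≤ U := by
    rintro _ ⟨x, hx, rfl⟩
    refine D.P_t _ (hψP x) (Commute.symm (mul_inv_eq_iff_eq_mul.mp ?_))
    rw [hconj, (Subgroup.mem_subgroupOf.mp hx).2]
    show y⁻¹ * (x : G)⁻¹ * y * (y * (x : G)⁻¹ * y⁻¹)⁻¹ = y * x * y⁻¹ * (y⁻¹ * x * y)⁻¹
    rw [show (y * (x : G)⁻¹ * y⁻¹)⁻¹ = y * x * y⁻¹ by group,
      show y⁻¹ * (x : G)⁻¹ * y = (y⁻¹ * x * y)⁻¹ by group]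
    exact (D.comm (inv_mem (hn x x.2).2) (hn x x.2).1).eq
  have hUI : (U.subgroupOf P).map ψ ≤ D.inv := by
    rintro _ ⟨x, hx, rfl⟩
    refine ⟨hψP x, ?_⟩
    rw [hconj, (D.U_t _ (Subgroup.mem_subgroupOf.mp hx)).symm.eq, mul_inv_cancel_right]
    show y⁻¹ * (x : G) * y * (y * x * y⁻¹)⁻¹ = (y * x * y⁻¹ * (y⁻¹ * x * y)⁻¹)⁻¹
    rw [mul_inv_rev (y * (x : G) * y⁻¹), inv_inv]
  have hker : ψ.ker = H.subgroupOf P := by
    ext x
    rw [MonoidHom.mem_ker, Subgroup.mem_subgroupOf, hH, Subgroup.mem_centralizer_singleton_iff]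
    show y * x * y⁻¹ * (y⁻¹ * x * y)⁻¹ = 1 ↔ _
    rw [mul_inv_eq_one]
    constructor
    · intro h
      have h2 : Commute (y ^ 2) (x : G) := by
        show y ^ 2 * (x : G) = x * y ^ 2
        rw [pow_two]
        calc y * y * (x : G) = y * (y * x * y⁻¹) * y := by group
          _ = y * (y⁻¹ * x * y) * y := by rw [h]
          _ = x * (y * y) := by group
      obtain ⟨j, hj⟩ := hl.odd_of_ne_two hl2
      have h3 := (h2.pow_left (j + 1)).eq
      rw [← pow_mul, show 2 * (j + 1) = orderOf y + 1 by omega, pow_succ, pow_orderOf_eq_one, one_mul] at h3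
      exact h3.symm
    · intro h
      rw [← h, mul_inv_cancel_right, mul_assoc, h, inv_mul_cancel_left]
  have hdis : ∀ A : Subgroup P, A.map ψ ⊓ H = ⊥ := by
    intro A
    rw [Subgroup.eq_bot_iff_forall]
    rintro _ ⟨⟨x, -, rfl⟩, hw⟩
    have hwy : Commute (ψ x) y := Subgroup.mem_centralizer_singleton_iff.mp hw
    set x' := y⁻¹ * (x : G) * y
    have hit : ∀ n : ℕ, y ^ (2 * n) * x' * (y ^ (2 * n))⁻¹ = ψ x ^ n * x' := by
      intro n
      induction n with
      | zero => simp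
      | succ n ih =>
        have h0 : y ^ 2 * x' * (y ^ 2)⁻¹ = ψ x * x' := by
          show y ^ 2 * (y⁻¹ * (x : G) * y) * (y ^ 2)⁻¹ = y * x * y⁻¹ * (y⁻¹ * x * y)⁻¹ * (y⁻¹ * x * y)
          rw [pow_two]; group
        have hc : Commute (y ^ 2) (ψ x ^ n) := (hwy.symm.pow_pow 2 n)
        calc y ^ (2 * (n + 1)) * x' * (y ^ (2 * (n + 1)))⁻¹
            = y ^ 2 * (y ^ (2 * n) * x' * (y ^ (2 * n))⁻¹) * (y ^ 2)⁻¹ := by
              rw [show 2 * (n + 1) = 2 + 2 * n by ring, pow_add]; group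
          _ = ψ x ^ n * (y ^ 2 * x' * (y ^ 2)⁻¹) := by
              rw [ih, ← mul_assoc (y ^ 2), hc.eq]; group
          _ = ψ x ^ (n + 1) * x' := by rw [h0, ← mul_assoc, pow_succ]
    have h := hit (orderOf y)
    rw [show y ^ (2 * orderOf y) = 1 by rw [mul_comm, pow_mul, pow_orderOf_eq_one, one_pow]] at h
    have hw1 : ψ x ^ orderOf y = 1 := by
      have := h.symm
      rwa [one_mul, inv_one, mul_one, mul_eq_right] at this
    obtain ⟨k, hk⟩ := D.Pp ⟨ψ x, hψP x⟩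
    exact eq_one_of_pow_coprime hw1 (congrArg Subtype.val hk)
      (Nat.Coprime.pow_right k ((Nat.coprime_primes hl Nat.prime_three).mpr (by omega)))
  -- the orders
  have hcA : ∀ A : Subgroup G, A ≤ P → Nat.card ((A.subgroupOf P).map ψ) *
      Nat.card (A ⊓ H : Subgroup G) = Nat.card A := by
    intro A hA
    have h := card_map_mul_ker ψ (A.subgroupOf P)
    rw [hker] at h
    rw [← Nat.card_congr (Subgroup.subgroupOfEquivOfLe (inf_le_left.trans hA : A ⊓ H ≤ P)).toEquiv,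
      ← Nat.card_congr (Subgroup.subgroupOfEquivOfLe hA).toEquiv, ← h]
    rfl
  have hIP : D.inv ≤ P := fun x hx => hx.1
  have hI2 := hcA D.inv hIP
  rw [D.card_inv] at hI2
  have hU2 := hcA U D.UP
  rw [D.cardU] at hU2
  have hIU : Nat.card ((D.inv.subgroupOf P).map ψ) * Nat.card (U ⊓ H : Subgroup G) ≤ C.D.q := by
    rw [← D.cardU]
    exact card_mul_le_of_disjoint hI inf_le_left (le_antisymm (fun x hx => (hdis _).le ⟨hx.1, hx.2.2⟩) bot_le)
  have hUI2 : Nat.card ((U.subgroupOf P).map ψ) * Nat.card (D.inv ⊓ H : Subgroup G) ≤ C.D.q ^ 2 := by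
    rw [← D.card_inv]
    exact card_mul_le_of_disjoint hUI inf_le_left (le_antisymm (fun x hx => (hdis _).le ⟨hx.1, hx.2.2⟩) bot_le)
  set a := Nat.card (D.inv ⊓ H : Subgroup G) with ha
  set c := Nat.card (U ⊓ H : Subgroup G) with hc
  have ha0 : C.D.q * c ≤ a := by
    have h1 : C.D.q ^ 2 * c ≤ a * C.D.q := by
      rw [← hI2, mul_comm _ a, mul_assoc]
      exact Nat.mul_le_mul_left a hIU
    have hq : 0 < C.D.q := by have := D.R.seven_q; omega
    rw [pow_two, mul_comm a, mul_assoc] at h1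
    exact Nat.le_of_mul_le_mul_left h1 hq
  have hPH : a * c ≤ Nat.card (P ⊓ H : Subgroup G) :=
    card_mul_le_of_disjoint (inf_le_inf_right H hIP) (inf_le_inf_right H D.UP)
      (le_antisymm (fun x hx => D.inv_inf_U.le ⟨hx.1.1, hx.2.1⟩) bot_le)
  by_cases hU : ∃ u ∈ U, u ≠ 1 ∧ Commute u y
  · obtain ⟨u, huU, hu1, huy⟩ := hU
    refine D.no_large hl hW hy huU hu1 huy (le_trans ?_ hPH)
    rw [pow_two, ← mul_assoc]
    exact Nat.mul_le_mul_right c ha0
  -- `C_P(y) = C_I(y)` has order `q`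
  push Not at hU
  have hUH : U ⊓ H = ⊥ := (Subgroup.eq_bot_iff_forall _).mpr fun x hx => by
    by_contra hx1
    exact hU x hx.1 hx1 (Subgroup.mem_centralizer_singleton_iff.mp hx.2)
  have hc1 : c = 1 := by rw [hc, hUH, Subgroup.card_bot]
  rw [hc1, mul_one] at ha0 hU2
  rw [hU2] at hUI2
  have haq : a = C.D.q := by
    have hq : 0 < C.D.q := by have := D.R.seven_q; omega
    rw [pow_two] at hUI2
    exact le_antisymm (Nat.le_of_mul_le_mul_left hUI2 hq) ha0
  have hPI : P ⊓ H = D.inv ⊓ H := by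
    refine le_antisymm (fun x hx => ⟨⟨hx.1, ?_⟩, hx.2⟩) (inf_le_inf_right H hIP)
    have hxy : Commute x y := Subgroup.mem_centralizer_singleton_iff.mp hx.2
    have htx : Commute (C.t * x * C.t⁻¹) y := by
      have h := commute_conj hxy C.t
      rw [hy] at h
      exact inv_inv y ▸ h.inv_right
    have h1 : x * (C.t * x * C.t⁻¹) = 1 := by
      by_contra hne
      refine hU _ (D.P_t _ (mul_mem hx.1 (D.tP x hx.1)) (Commute.symm (mul_inv_eq_iff_eq_mul.mp ?_))) hne
        (hxy.mul_left htx)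
      rw [show C.t * (x * (C.t * x * C.t⁻¹)) * C.t⁻¹ =
        (C.t * x * C.t⁻¹) * (C.t * C.t * x * (C.t * C.t)⁻¹) by group, C.t_sq, one_mul, inv_one, mul_one]
      exact (D.comm (D.tP x hx.1) hx.1).eq
    exact eq_inv_of_mul_eq_one_right h1
  have hmod := card_modEq_fixed (l := orderOf y) P y rfl hyP
  rw [hPI, ← ha, haq, D.cardP] at hmod
  have hq := D.R.seven_q
  have hd : orderOf y ∣ C.D.q ^ 3 - C.D.q :=
    (Nat.modEq_iff_dvd' (Nat.le_self_pow (by norm_num) _)).mp hmod.symm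
  rw [show C.D.q ^ 3 - C.D.q = C.D.q * ((C.D.q + 1) * (C.D.q - 1)) by
    obtain ⟨k, hk⟩ : ∃ k, C.D.q = k + 1 := ⟨C.D.q - 1, by omega⟩
    rw [hk, Nat.add_sub_cancel, Nat.sub_eq_of_eq_add]; ring] at hd
  obtain ⟨-, h0, h1, h2⟩ := not_dvd_of_dvd_reeW D.R hl hW
  rcases hl.dvd_mul.mp hd with h | h
  · exact h0 h
  rcases hl.dvd_mul.mp h with h | h
  exacts [h1 h, h2 h]

end TData

end CfsgLib.WalterUse
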