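import Cfsg.Agent.Lib.WalterUse.ReeBound
import Cfsg.Agent.Lib.Coprime
import Cfsg.Agent.Lib.StrongFusion.Chain
import Mathlib.GroupTheory.FixedPointFree

/-!
The small Ree case with abelian Sylow 3-subgroups: the tori, a `t`-invariant Sylow 3-subgroup and the
normalisers of type `X⟨t⟩`.
-/

set_option autoImplicit false
set_option linter.unusedSectionVars false
set_option linter.style.haveILetI false

namespace CfsgLib.WalterUse

open Cfsg CfsgLib CfsgLib.CharTheory CfsgLib.JankoThompson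

universe u v

/-- The facts on the unipotent elements of `L = PSL₂(q)`. -/
structure UFacts (L : Type v) [Group L] : Prop where
  exp3 : ∀ (x : L) (k : ℕ), x ^ 3 ^ k = 1 → x ^ 3 = 1
  odd3 : ∀ v x : L, orderOf v = 2 → orderOf x = 3 → ¬ Commute v x

variable {G : Type u} [Group G] [Fintype G] {L : Type v} [Group L] [Fintype L] {C : Cfg G L}

/-- The centraliser of a non-trivial element of `Y` has exponent dividing `2 y`. -/
theorem cent_Y_pow {a : L} (ha : a ∈ C.D.Y) (ha1 : a ≠ 1) {g : G} (hg : Commute g (C.E a)) :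
    g ^ (2 * C.D.y) = 1 := by
  classical
  set h' := g with hh'
  have hcom : Commute (C.E a) h' := hg.symm
  obtain ⟨kk, e, i₀, j₀, y₀, hy₀, hge⟩ := C.transporter h' 0 0 0 0 a ha a ha ha1 (by
    simp only [aElt, Fin.val_zero, pow_zero, one_mul]
    rw [← hcom.eq, mul_inv_cancel_right])
  have hA : Commute (aElt C.t C.E C.v i₀ j₀ y₀) (C.E a) := by
    refine Commute.mul_left ((C.E_comm a).pow_left _) (Commute.map ?_ C.E)
    haveI := C.D.cycY
    letI := IsCyclic.commGroup (α := C.D.Y)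
    exact Commute.mul_left ((C.v_comm a ha).pow_left _)
      (congrArg Subtype.val (mul_comm (⟨y₀, hy₀⟩ : C.D.Y) ⟨a, ha⟩))
  have hfix : C.σ ^ (kk : ℕ) * (C.w ^ (e : ℕ) * C.E a * (C.w ^ (e : ℕ))⁻¹) * (C.σ ^ (kk : ℕ))⁻¹ = C.E a := by
    have h1 : h' * C.E a * h'⁻¹ = C.E a := by rw [← hcom.eq, mul_inv_cancel_right]
    rw [hge] at h1
    refine Eq.trans ?_ h1
    rw [show C.σ ^ (kk : ℕ) * C.w ^ (e : ℕ) * aElt C.t C.E C.v i₀ j₀ y₀ * C.E a *
        (C.σ ^ (kk : ℕ) * C.w ^ (e : ℕ) * aElt C.t C.E C.v i₀ j₀ y₀)⁻¹ =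
      C.σ ^ (kk : ℕ) * (C.w ^ (e : ℕ) * (aElt C.t C.E C.v i₀ j₀ y₀ * C.E a * (aElt C.t C.E C.v i₀ j₀ y₀)⁻¹) *
        (C.w ^ (e : ℕ))⁻¹) * (C.σ ^ (kk : ℕ))⁻¹ by group, hA.eq, mul_inv_cancel_right]
  set a' : C.D.Y := ⟨a, ha⟩ with ha'
  have ha'1 : a' ≠ 1 := fun h => ha1 (congrArg Subtype.val h)
  obtain ⟨h1, h2⟩ := C.α_fpf a' ha'1
  obtain ⟨d, hd, hwd⟩ : ∃ d : C.D.Y, ((e = 0 ∧ d = a') ∨ (e = 1 ∧ d = a'⁻¹)) ∧
      C.w ^ (e : ℕ) * C.E a * (C.w ^ (e : ℕ))⁻¹ = C.E d := by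
    fin_cases e
    · exact ⟨_, Or.inl ⟨rfl, rfl⟩, by simp [ha']⟩
    · exact ⟨_, Or.inr ⟨rfl, rfl⟩, by simpa [ha'] using C.w_Y a ha⟩
  rw [hwd] at hfix
  have hsq : a'⁻¹ ≠ a' := fun h => ha'1 (by
    have hY : a' ^ C.D.y = 1 := by rw [← C.D.cardY]; exact pow_card_eq_one'
    exact eq_one_of_pow_coprime (m := 2) (by rw [pow_two]; exact mul_eq_one_iff_eq_inv.mpr h.symm) hY
      (Nat.coprime_two_left.mpr C.D.hy))
  have hinj : ∀ c c' : C.D.Y, C.E c = C.E c' → c = c' := fun c c' h => Subtype.ext (C.E_inj h)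
  have key : (kk = 0 ∧ e = 0) := by
    rcases hd with ⟨he, rfl⟩ | ⟨he, rfl⟩
    · refine ⟨?_, he⟩
      fin_cases kk <;> simp only [pow_zero, pow_one, one_mul, inv_one, mul_one] at hfix
      · rfl
      · exact absurd (hinj _ _ (by rw [← C.σ_Y]; exact hfix)) h1
      · rw [pow_two, show C.σ * C.σ * C.E a * (C.σ * C.σ)⁻¹ = C.σ * (C.σ * C.E (a' : L) * C.σ⁻¹) * C.σ⁻¹ by
          rw [ha']; group, C.σ_Y, C.σ_Y] at hfix
        have h4 : C.α (C.α a') = a' := hinj _ _ hfix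
        exact absurd (by simpa [C.α_cube] using (congrArg C.α h4).symm) h1
    · exfalso
      fin_cases kk <;> simp only [pow_zero, pow_one, one_mul, inv_one, mul_one] at hfix
      · exact hsq (hinj _ _ hfix)
      · rw [C.σ_Y] at hfix
        have h4 : C.α a'⁻¹ = a' := hinj _ _ hfix
        rw [map_inv, inv_eq_iff_eq_inv] at h4
        exact h2 h4
      · rw [pow_two, show C.σ * C.σ * C.E ((a'⁻¹ : C.D.Y) : L) * (C.σ * C.σ)⁻¹ =
          C.σ * (C.σ * C.E ((a'⁻¹ : C.D.Y) : L) * C.σ⁻¹) * C.σ⁻¹ by group, C.σ_Y, C.σ_Y] at hfix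
        have h4 : C.α (C.α a'⁻¹) = a' := hinj _ _ hfix
        refine h2 ?_
        have h5 := congrArg C.α h4
        rw [C.α_cube] at h5
        exact h5.symm
  rw [key.1, key.2, Fin.val_zero, Fin.val_zero, pow_zero, pow_zero, one_mul, one_mul] at hge
  have hpow : h' ^ (2 * C.D.y) = 1 := by
    have hb : y₀ ^ C.D.y = 1 := by
      rw [← C.D.cardY]
      exact congrArg Subtype.val (pow_card_eq_one' (G := C.D.Y) (x := ⟨y₀, hy₀⟩))
    have ht2 : (C.t ^ (i₀ : ℕ)) ^ (2 * C.D.y) = 1 := by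
      rw [← pow_mul, mul_left_comm, pow_mul, pow_two, C.t_sq, one_pow]
    have hv2 : (C.v ^ (j₀ : ℕ)) ^ (2 * C.D.y) = 1 := by
      rw [← pow_mul, mul_left_comm, pow_mul, show C.v ^ 2 = 1 by have h := pow_orderOf_eq_one C.v; rwa [C.v_ord] at h, one_pow]
    rw [hge, aElt, ((C.E_comm _).pow_left _).mul_pow, ht2, one_mul, ← map_pow,
      ((C.v_comm y₀ hy₀).pow_left _).mul_pow, hv2, one_mul, mul_comm, pow_mul, hb, one_pow, map_one]
  exact hpow

namespace ReeCfg

variable (R : ReeCfg C)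
include R

theorem pos : 0 < C.D.y ∧ 0 < C.D.z := ⟨C.D.hy.pos, R.z_odd.pos⟩

theorem three_dvd_q : 3 ∣ C.D.q := by
  obtain ⟨m, -, hm⟩ := R.pow
  exact hm ▸ dvd_pow_self 3 (by omega)

theorem three_not_torus : ¬ 3 ∣ 2 * C.D.y * C.D.z := by
  obtain ⟨k, hk⟩ := R.three_dvd_q
  have e1 := R.q_y
  have e2 := R.q_z
  intro h
  rcases (Nat.Prime.dvd_mul Nat.prime_three).mp h with h | h <;> omega

/-- The centraliser of an element of prime order dividing `y z` has exponent dividing `2 y z`. -/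
theorem torus_pow {b g : G} (hl : (orderOf b).Prime) (hd : orderOf b ∣ C.D.z ∨ orderOf b ∣ C.D.y)
    (hg : Commute g b) : g ^ (2 * C.D.y * C.D.z) = 1 := by
  haveI := Fact.mk hl
  have hl3 : orderOf b ≠ 3 := fun e => R.three_not_torus (by
    rw [e] at hd
    rcases hd with h | h
    · exact h.mul_left _
    · exact dvd_mul_of_dvd_left (dvd_mul_of_dvd_right h _) _)
  suffices h : ∀ x : G, x * b * x⁻¹ ∈ C.D.Z.map C.E ∨ x * b * x⁻¹ ∈ C.D.Y.map C.E →
      (x * g * x⁻¹) ^ (2 * C.D.y * C.D.z) = 1 by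
    rcases hd with hz | hy
    · obtain ⟨x, hx⟩ := conj_into (C.D.Z.map C.E) (by
        rw [Subgroup.card_map_of_injective C.E_inj, C.D.cardZ, R.factorization_z hl hz]) (b := b) rfl
      have := h x (Or.inl hx)
      rwa [conj_pow, conj_eq_one_iff] at this
    · obtain ⟨x, hx⟩ := conj_into (C.D.Y.map C.E) (by
        rw [Subgroup.card_map_of_injective C.E_inj, C.D.cardY, R.factorization_y hl hy hl3]) (b := b) rfl
      have := h x (Or.inr hx)
      rwa [conj_pow, conj_eq_one_iff] at this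
  intro x hx
  have hne : ∀ a, C.E a = x * b * x⁻¹ → a ≠ 1 := fun a hae e => hl.ne_one (by
    rw [← order_conj x b, ← hae, e, map_one, orderOf_one])
  rcases hx with ⟨k, hk, hke⟩ | ⟨a, ha, hae⟩
  · have hc : Commute (x * g * x⁻¹) (C.E k) := by rw [hke]; exact commute_conj hg x
    obtain ⟨⟨i, c⟩, hic⟩ := C.exists_ΦC (R.cent_Z hk (hne k hke) hc)
    have hcZ : c ∈ C.D.Z := R.zf.cent k hk (hne k hke) c (C.E_inj (by
      rw [map_mul, map_mul]
      rw [← hic] at hc
      rcases C.ΦC_cases i c with e | e <;> rw [e] at hc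
      · exact hc.eq
      · refine mul_left_cancel (a := C.t) ?_
        rw [← mul_assoc, hc.eq, ← mul_assoc, ← mul_assoc, (C.E_comm k).eq]))
    have hc1 : c ^ C.D.z = 1 := by
      rw [← C.D.cardZ]
      exact congrArg Subtype.val (pow_card_eq_one' (G := C.D.Z) (x := ⟨c, hcZ⟩))
    rw [show 2 * C.D.y * C.D.z = 2 * C.D.z * C.D.y by ring, pow_mul]
    have h2 : (x * g * x⁻¹) ^ (2 * C.D.z) = 1 := by
      rw [← hic]
      rcases C.ΦC_cases i c with e | e <;> rw [e]
      · rw [← map_pow, mul_comm, pow_mul, hc1, one_pow, map_one]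
      · rw [(C.E_comm c).mul_pow, ← map_pow, pow_mul, pow_two, C.t_sq, one_pow, one_mul, mul_comm, pow_mul, hc1,
          one_pow, map_one]
    rw [h2, one_pow]
  · have hc : Commute (x * g * x⁻¹) (C.E a) := by rw [hae]; exact commute_conj hg x
    rw [pow_mul, cent_Y_pow ha (hne a hae) hc, one_pow]

theorem no_three_torus {b g : G} (hl : (orderOf b).Prime) (hd : orderOf b ∣ C.D.z ∨ orderOf b ∣ C.D.y)
    (hg3 : orderOf g = 3) (hg : Commute g b) : False :=
  R.three_not_torus (hg3 ▸ orderOf_dvd_of_pow_eq_one (R.torus_pow hl hd hg))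

theorem card_eq : Nat.card G = C.D.q ^ 3 * (8 * C.D.y * C.D.z) * reeW C := by
  rw [card_factor R, R.q_y, show C.D.q - 1 = 2 * C.D.z by rw [R.q_z]; omega]
  ring

theorem prime_not_q {l : ℕ} (hl : l.Prime) (h3 : l ≠ 3) : ¬ l ∣ C.D.q := by
  obtain ⟨m, -, hm⟩ := R.pow
  exact fun h => h3 ((Nat.prime_dvd_prime_iff_eq hl Nat.prime_three).mp (hl.dvd_of_dvd_pow (hm ▸ h)))

/-- The prime divisors of `|G|`. -/
theorem prime_G {l : ℕ} (hl : l.Prime) (hd : l ∣ Nat.card G) :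
    l = 2 ∨ l = 3 ∨ l ∣ C.D.z ∨ l ∣ C.D.y ∨ l ∣ reeW C := by
  rw [R.card_eq] at hd
  by_cases h3 : l = 3
  · exact Or.inr (Or.inl h3)
  rcases hl.dvd_mul.mp hd with h | h
  · rcases hl.dvd_mul.mp h with h | h
    · exact absurd (hl.dvd_of_dvd_pow h) (R.prime_not_q hl h3)
    rcases hl.dvd_mul.mp h with h | h
    · rcases hl.dvd_mul.mp h with h | h
      · exact Or.inl ((Nat.prime_dvd_prime_iff_eq hl Nat.prime_two).mp (hl.dvd_of_dvd_pow (show l ∣ 2 ^ 3 from h)))
      · exact Or.inr (Or.inr (Or.inr (Or.inl h)))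
    · exact Or.inr (Or.inr (Or.inl h))
  · exact Or.inr (Or.inr (Or.inr (Or.inr h)))

theorem reeW_prime {l : ℕ} (hl : l.Prime) (hd : l ∣ reeW C) : 7 ≤ l ∧ l ≠ 2 ∧ ¬ l ∣ C.D.z ∧ ¬ l ∣ C.D.y := by
  obtain ⟨h3, h0, h1, h2⟩ := not_dvd_of_dvd_reeW R hl hd
  have hl2 : l ≠ 2 := fun e => h1 (e ▸ ⟨2 * C.D.y, by rw [R.q_y]; ring⟩)
  have hl5 : l ≠ 5 := by
    rintro rfl
    have := Int.natCast_dvd_natCast.2 hd
    rw [reeW_cast R] at this
    obtain ⟨k, hk⟩ : ∃ k : ℤ, (C.D.q : ℤ) = 5 * k + (C.D.q : ℤ) % 5 := ⟨(C.D.q : ℤ) / 5, by omega⟩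
    have hr : (C.D.q : ℤ) % 5 = 0 ∨ (C.D.q : ℤ) % 5 = 1 ∨ (C.D.q : ℤ) % 5 = 2 ∨ (C.D.q : ℤ) % 5 = 3 ∨
        (C.D.q : ℤ) % 5 = 4 := by omega
    rw [hk] at this
    ring_nf at this
    rcases hr with e | e | e | e | e <;> rw [e] at this <;> ring_nf at this <;> omega
  have hge : 7 ≤ l := by
    have h2 := hl.two_le
    by_contra hlt
    push Not at hlt
    interval_cases l <;> first | omega | exact absurd hl (by decide)
  refine ⟨hge, hl2, fun h => h2 ?_, fun h => h1 ?_⟩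
  · rw [R.q_z, Nat.add_sub_cancel]; exact h.mul_left 2
  · rw [R.q_y]; exact h.mul_left 4

/-- An element of prime order dividing `q² - q + 1` commutes with no involution. -/
theorem W_not_comm {y s : G} (hl : (orderOf y).Prime) (hd : orderOf y ∣ reeW C) (hs : orderOf s = 2)
    (hc : Commute y s) : False := by
  obtain ⟨g, hg⟩ := C.all_conj s hs
  have hc' : Commute (g⁻¹ * y * g) C.t := by
    have := commute_conj hc g⁻¹
    rw [inv_inv, show g⁻¹ * s * g = C.t by rw [← hg]; group] at this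
    exact this
  obtain ⟨h7, hl2, hz, hy⟩ := R.reeW_prime hl hd
  obtain ⟨-, hq, -, -⟩ := not_dvd_of_dvd_reeW R hl hd
  have ho : orderOf (g⁻¹ * y * g) = orderOf y := by simpa using order_conj g⁻¹ y
  obtain ⟨c, hce⟩ := odd_mem_E hc' (ho.symm ▸ hl.odd_of_ne_two hl2)
  have hdL : orderOf y ∣ Nat.card L := by
    rw [← ho, hce, orderOf_injective C.E C.E_inj]
    exact orderOf_dvd_natCard c
  rcases R.prime_cases hl hl2 hdL with e | ⟨e, -⟩ | ⟨e, -⟩
  exacts [absurd e (by omega), hz e, hy e]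

/-- The order of a Sylow 3-subgroup. -/
theorem factorization_three {m : ℕ} (hm : C.D.q = 3 ^ m) :
    (Nat.card G).factorization 3 = 3 * m ∧ (Nat.card L).factorization 3 = m := by
  have h8 : ¬ 3 ∣ 8 * C.D.y * C.D.z := fun h => R.three_not_torus (by
    rcases Nat.prime_three.dvd_mul.mp h with h | h
    · rcases Nat.prime_three.dvd_mul.mp h with h | h
      · exact absurd h (by norm_num)
      · exact dvd_mul_of_dvd_left (dvd_mul_of_dvd_right h _) _
    · exact h.mul_left _)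
  have hW : ¬ 3 ∣ reeW C := fun h => (not_dvd_of_dvd_reeW R Nat.prime_three h).1 rfl
  have hy0 := R.pos
  have h80 : 8 * C.D.y * C.D.z ≠ 0 := fun e => h8 (e ▸ dvd_zero _)
  have hW0 : reeW C ≠ 0 := fun e => hW (e ▸ dvd_zero _)
  refine ⟨?_, ?_⟩
  · rw [R.card_eq, hm, Nat.factorization_mul (by positivity) hW0, Nat.factorization_mul (by positivity) h80,
      ← pow_mul, Nat.prime_three.factorization_pow]
    simp only [Finsupp.add_apply, Finsupp.single_eq_same, Nat.factorization_eq_zero_of_not_dvd h8,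
      Nat.factorization_eq_zero_of_not_dvd hW, add_zero]
    ring
  · have h2 : Nat.card L = C.D.q * (4 * C.D.y * C.D.z) := by
      have e := C.D.card
      have e1 : (C.D.q : ℤ) + 1 = 4 * C.D.y := by exact_mod_cast R.q_y
      have e2 : (C.D.q : ℤ) = 2 * C.D.z + 1 := by exact_mod_cast R.q_z
      have : (2 : ℤ) * Nat.card L = 2 * ((C.D.q * (4 * C.D.y * C.D.z) : ℕ) : ℤ) := by
        rw [e]
        push_cast
        linear_combination (C.D.q : ℤ) * ((2 * (C.D.z : ℤ)) * e1 + ((C.D.q : ℤ) + 1) * e2)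
      omega
    have h4 : ¬ 3 ∣ 4 * C.D.y * C.D.z := fun h => h8 (by
      rw [show 8 * C.D.y * C.D.z = 2 * (4 * C.D.y * C.D.z) by ring]
      exact h.mul_left 2)
    rw [h2, hm, Nat.factorization_mul (a := 3 ^ m) (b := 4 * C.D.y * C.D.z) (by positivity) (fun e => h4 (by rw [e]; exact dvd_zero _)),
      Nat.prime_three.factorization_pow]
    simp [Nat.factorization_eq_zero_of_not_dvd h4]

end ReeCfg

/-- An automorphism of order two without fixed points inverts. -/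
theorem inverts_of_fpf {H : Type*} [Group H] [Finite H] {τ : H} (hτ : τ * τ = 1) (O : Subgroup H)
    (hn : ∀ x ∈ O, τ * x * τ⁻¹ ∈ O) (hf : ∀ x ∈ O, Commute x τ → x = 1) :
    ∀ x ∈ O, τ * x * τ⁻¹ = x⁻¹ := by
  let φ : O →* O :=
    { toFun := fun a => ⟨τ * a * τ⁻¹, hn a a.2⟩
      map_one' := Subtype.ext (by simp)
      map_mul' := fun a b => Subtype.ext (by simp [mul_assoc]) }
  have hφf : MonoidHom.FixedPointFree φ := fun a ha =>
    Subtype.ext (hf a a.2 (mul_inv_eq_iff_eq_mul.mp (congrArg Subtype.val ha :)).symm)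
  have hφi : Function.Involutive φ := fun a => Subtype.ext (by
    show τ * (τ * (a : H) * τ⁻¹) * τ⁻¹ = a
    rw [show τ * (τ * (a : H) * τ⁻¹) * τ⁻¹ = τ * τ * a * (τ * τ)⁻¹ by group, hτ]
    group)
  exact fun x hx =>
    (congrArg Subtype.val (congrFun (MonoidHom.FixedPointFree.coe_eq_inv_of_involutive hφf hφi) ⟨x, hx⟩) :)

/-- The shape `H = X⟨t⟩` with `X` of odd order. -/
structure TSplit (C : Cfg G L) (H X : Subgroup G) : Prop where
  le : X ≤ H
  odd : Odd (Nat.card X)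
  norm : ∀ g ∈ H, ∀ x ∈ X, g * x * g⁻¹ ∈ X
  cover : ∀ g ∈ H, g ∈ X ∨ g * C.t ∈ X
  odd_mem : ∀ g ∈ H, Odd (orderOf g) → g ∈ X

/-- A subgroup in which `⟨t⟩` holds the 2-elements commuting with `t` has the shape `X⟨t⟩`. -/
theorem exists_tSplit (C : Cfg G L) (H : Subgroup G) (ht : C.t ∈ H)
    (h2 : ∀ g ∈ H, Commute g C.t → ∀ k, g ^ 2 ^ k = 1 → g = 1 ∨ g = C.t) : ∃ X, TSplit C H X := by
  classical
  haveI : Fact (Nat.Prime 2) := ⟨Nat.prime_two⟩
  set t' : H := ⟨C.t, ht⟩ with ht'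
  have ho2 : orderOf t' = 2 := by rw [← Subgroup.orderOf_coe]; exact C.t_ord
  have htt : t' * t' = 1 := Subtype.ext C.t_sq
  have htt2 : t' ^ 2 = 1 := by rw [pow_two]; exact htt
  have htp : IsPGroup 2 (Subgroup.zpowers t') := IsPGroup.of_card (n := 1) (by rw [Nat.card_zpowers, ho2, pow_one])
  obtain ⟨P, hP⟩ := htp.exists_le_sylow
  have hz : ∀ x ∈ Subgroup.zpowers t', x = 1 ∨ x = t' := by
    intro x hx
    obtain ⟨n, rfl⟩ := Subgroup.mem_zpowers_iff.mp hx
    rcases Int.even_or_odd n with ⟨c, rfl⟩ | ⟨c, rfl⟩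
    · exact Or.inl (by rw [← two_mul, zpow_mul, zpow_ofNat, htt2, one_zpow])
    · exact Or.inr (by rw [zpow_add, zpow_one, zpow_mul, zpow_ofNat, htt2, one_zpow, one_mul])
  have hnorm : ∀ g : H, g * t' * g⁻¹ ∈ Subgroup.zpowers t' → Commute g t' := by
    intro g hg
    rcases hz _ hg with e | e
    · rw [conj_eq_one_iff.mp e, orderOf_one] at ho2; omega
    · exact mul_inv_eq_iff_eq_mul.mp e
  have hPeq : (P : Subgroup H) = Subgroup.zpowers t' := by
    by_contra hne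
    obtain ⟨g, hg, hgt⟩ := SetLike.exists_of_lt (CfsgLib.StrongFusion.lt_inf_normalizer P hP (Ne.symm hne))
    refine hgt ?_
    have hcomm := hnorm g ((Subgroup.mem_normalizer_iff.mp hg.2 t').mp (Subgroup.mem_zpowers t'))
    obtain ⟨k, hk⟩ := P.2 ⟨g, hg.1⟩
    rcases h2 g g.2 (congrArg Subtype.val hcomm.eq) k
      (congrArg (fun a : (P : Subgroup H) => ((a : H) : G)) hk) with e | e
    · rw [show g = 1 from Subtype.ext e]; exact one_mem _
    · rw [show g = t' from Subtype.ext e]; exact Subgroup.mem_zpowers _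
  have hnc : Subgroup.normalizer ((P : Subgroup H) : Set H) ≤ Subgroup.centralizer ((P : Subgroup H) : Set H) := by
    intro g hg
    rw [hPeq] at hg ⊢
    rw [Subgroup.mem_centralizer_iff]
    have hcomm := hnorm g ((Subgroup.mem_normalizer_iff.mp hg t').mp (Subgroup.mem_zpowers t'))
    rintro w ⟨k, rfl⟩
    exact (hcomm.zpow_right k).eq.symm
  set K := (MonoidHom.transferSylow P hnc).ker with hK
  have hcompl : Subgroup.IsComplement' K (P : Subgroup H) := MonoidHom.ker_transferSylow_isComplement' P hnc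
  have hodd : Odd (Nat.card K) :=
    Nat.odd_iff.mpr (Nat.two_dvd_ne_zero.mp (MonoidHom.not_dvd_card_ker_transferSylow P hnc))
  have hcov : ∀ g : H, g ∈ K ∨ g * t' ∈ K := by
    intro g
    obtain ⟨⟨a, b⟩, hab, -⟩ := hcompl.existsUnique g
    change (a : H) * b = g at hab
    have hbz : (b : H) ∈ Subgroup.zpowers t' := hPeq ▸ b.2
    rcases hz _ hbz with e | e <;> rw [e] at hab
    · left
      rw [← hab, mul_one]
      exact a.2
    · right
      rw [← hab, mul_assoc, htt, mul_one]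
      exact a.2
  refine ⟨K.map H.subtype, Subgroup.map_subtype_le _, ?_, ?_, ?_, ?_⟩
  · rwa [Subgroup.card_map_of_injective H.subtype_injective]
  · rintro g hg _ ⟨x, hx, rfl⟩
    haveI hKn : K.Normal := MonoidHom.normal_ker _
    exact ⟨(⟨g, hg⟩ : H) * x * (⟨g, hg⟩ : H)⁻¹, hKn.conj_mem x hx _, rfl⟩
  · intro g hg
    rcases hcov ⟨g, hg⟩ with h | h
    · exact Or.inl ⟨_, h, rfl⟩
    · exact Or.inr ⟨_, h, rfl⟩
  · intro g hg ho
    set g' : H := ⟨g, hg⟩ with hg'
    refine ⟨g', ?_, rfl⟩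
    haveI hKn : K.Normal := MonoidHom.normal_ker _
    have hidx : g' ^ 2 ∈ K := by
      rcases hcov g' with h | h
      · exact pow_mem h 2
      · rcases hcov (g' ^ 2) with h' | h'
        · exact h'
        · exfalso
          have e : (g' * t')⁻¹ * (g' ^ 2 * t') ∈ K := mul_mem (inv_mem h) h'
          have e2 : t' * ((g' * t')⁻¹ * (g' ^ 2 * t')) * t'⁻¹ = g' := by rw [pow_two]; group
          have e3 := hKn.conj_mem _ e t'
          rw [e2] at e3
          have e4 : t' ∈ K := by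
            have := mul_mem (inv_mem e3) h
            rwa [inv_mul_cancel_left] at this
          have := hodd.of_dvd_nat (Subgroup.orderOf_dvd_natCard K e4)
          rw [ho2] at this
          exact absurd this (by decide)
    obtain ⟨j, hj⟩ := ho
    have h := pow_orderOf_eq_one g'
    rw [← Subgroup.orderOf_coe, show orderOf (g' : G) = 2 * j + 1 from hj, pow_succ, pow_mul] at h
    rw [eq_inv_of_mul_eq_one_right h]
    exact inv_mem (pow_mem hidx j)

end CfsgLib.WalterUse
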